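import Mathlib

/-!
# Operators attached to an isometry of an alternating form in characteristic two

For an isometry `u` we use `nOp u = u + 1`, `mOp u = u + u⁻¹`, and the tower of quadratic functions
`tower B u Q`: the `0`-th one is `Q`, the `(j+1)`-st one is `x ↦ B (m ^ j (u x)) x`.
-/

set_option autoImplicit false
set_option linter.unusedSectionVars false

open Module

namespace CfsgLib.ClassNumberEven

variable {F : Type*} [Field F] [CharP F 2] {V : Type*} [AddCommGroup V] [Module F V]

section Two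

variable (F)

include F

theorem neg_eq_of_two (x : V) : -x = x := by
  rw [← neg_one_smul F x, CharTwo.neg_eq, one_smul]

theorem add_self_of_two (x : V) : x + x = 0 := by
  rw [← two_smul F x, CharTwo.two_eq_zero, zero_smul]

theorem eq_of_add_eq_zero {x y : V} (h : x + y = 0) : x = y :=
  (add_eq_zero_iff_eq_neg.1 h).trans (neg_eq_of_two F y)

end Two

/-- `u + 1`. -/
def nOp (u : V ≃ₗ[F] V) : Module.End F V := u.toLinearMap + 1

/-- `u + u⁻¹`. -/
def mOp (u : V ≃ₗ[F] V) : Module.End F V := u.toLinearMap + u.symm.toLinearMap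

theorem nOp_apply (u : V ≃ₗ[F] V) (x : V) : nOp u x = u x + x := rfl

theorem mOp_apply (u : V ≃ₗ[F] V) (x : V) : mOp u x = u x + u.symm x := rfl

theorem u_eq (u : V ≃ₗ[F] V) (x : V) : u x = nOp u x + x := by
  rw [nOp_apply, add_assoc, add_self_of_two F, add_zero]

theorem commute_symm' (u : V ≃ₗ[F] V) : Commute u.toLinearMap u.symm.toLinearMap :=
  LinearMap.ext fun v => (u.apply_symm_apply v).trans (u.symm_apply_apply v).symm

theorem commute_u_n (u : V ≃ₗ[F] V) : Commute u.toLinearMap (nOp u) :=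
  (Commute.refl _).add_right (Commute.one_right _)

theorem commute_u_m (u : V ≃ₗ[F] V) : Commute u.toLinearMap (mOp u) :=
  (Commute.refl _).add_right (commute_symm' u)

theorem commute_symm_n (u : V ≃ₗ[F] V) : Commute u.symm.toLinearMap (nOp u) :=
  (commute_symm' u).symm.add_right (Commute.one_right _)

theorem commute_symm_m (u : V ≃ₗ[F] V) : Commute u.symm.toLinearMap (mOp u) :=
  (commute_symm' u).symm.add_right (Commute.refl _)

theorem commute_n_m (u : V ≃ₗ[F] V) : Commute (nOp u) (mOp u) :=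
  (commute_u_m u).add_left (Commute.one_left _)

theorem mul_m_eq (u : V ≃ₗ[F] V) : u.toLinearMap * mOp u = nOp u * nOp u := by
  refine LinearMap.ext fun x => ?_
  simp only [Module.End.mul_apply, mOp_apply, nOp_apply, LinearEquiv.coe_coe, map_add, u.apply_symm_apply]
  rw [add_assoc (u (u x)) (u x), ← add_assoc (u x) (u x) x, add_self_of_two F, zero_add]

theorem m_eq (u : V ≃ₗ[F] V) : mOp u = u.symm.toLinearMap * (nOp u * nOp u) := by
  rw [← mul_m_eq]
  exact LinearMap.ext fun x => (u.symm_apply_apply _).symm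

theorem m_pow_eq (u : V ≃ₗ[F] V) (i : ℕ) :
    mOp u ^ i = u.symm.toLinearMap ^ i * nOp u ^ (2 * i) := by
  rw [m_eq, ((commute_symm_n u).mul_right (commute_symm_n u)).mul_pow, ← pow_two, ← pow_mul]

theorem u_sq_apply (u : V ≃ₗ[F] V) (x : V) : u (u x) = mOp u (u x) + x := by
  rw [mOp_apply, u.symm_apply_apply, add_assoc, add_self_of_two F, add_zero]

/-- A vector killed by `u + 1` is fixed. -/
theorem fix_of_n (u : V ≃ₗ[F] V) {z : V} (h : nOp u z = 0) : u z = z := by
  rw [u_eq u z, h, zero_add]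

theorem symm_fix_of_n (u : V ≃ₗ[F] V) {z : V} (h : nOp u z = 0) : u.symm z = z :=
  u.symm_apply_eq.2 (fix_of_n u h).symm

theorem symm_pow_fix (u : V ≃ₗ[F] V) {z : V} (h : nOp u z = 0) :
    ∀ i : ℕ, (u.symm.toLinearMap ^ i) z = z
  | 0 => rfl
  | i + 1 => by
    rw [pow_succ, Module.End.mul_apply, LinearEquiv.coe_coe, symm_fix_of_n u h, symm_pow_fix u h i]

theorem n_pow_eq_zero_of_le (u : V ≃ₗ[F] V) {a b : ℕ} (hab : a ≤ b) {x : V} (h : (nOp u ^ a) x = 0) :
    (nOp u ^ b) x = 0 := by
  rw [← Nat.sub_add_cancel hab, pow_add, Module.End.mul_apply, h, map_zero]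

/-- On a vector of small order `m ^ i` is `n ^ (2 * i)`. -/
theorem m_pow_n_pow (u : V ≃ₗ[F] V) {i r : ℕ} {x : V} (h : (nOp u ^ (2 * i + r + 1)) x = 0) :
    (mOp u ^ i) ((nOp u ^ r) x) = (nOp u ^ (2 * i + r)) x := by
  rw [m_pow_eq, Module.End.mul_apply, ← Module.End.mul_apply (nOp u ^ (2 * i)), ← pow_add]
  refine symm_pow_fix u ?_ i
  rw [← Module.End.mul_apply, ← pow_succ']
  exact h

theorem m_pow_n_pow_zero (u : V ≃ₗ[F] V) {i r : ℕ} {x : V} (h : (nOp u ^ (2 * i + r)) x = 0) :
    (mOp u ^ i) ((nOp u ^ r) x) = 0 := by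
  rw [m_pow_eq, Module.End.mul_apply, ← Module.End.mul_apply (nOp u ^ (2 * i)), ← pow_add, h, map_zero]

theorem m_pow_zero (u : V ≃ₗ[F] V) {i : ℕ} {x : V} (h : (nOp u ^ (2 * i)) x = 0) : (mOp u ^ i) x = 0 := by
  have := m_pow_n_pow_zero u (r := 0) (i := i) (x := x) (by simpa using h)
  simpa using this

theorem u_pow_two_pow (u : V ≃ₗ[F] V) {e : ℕ} {x : V} (h : (nOp u ^ e) x = 0) :
    (u.toLinearMap ^ (2 ^ e)) x = x := by
  rcases subsingleton_or_nontrivial V with hV | hV
  · exact Subsingleton.elim _ _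
  haveI : CharP (Module.End F V) 2 := charP_of_injective_algebraMap' F (A := Module.End F V) 2
  haveI : Fact (Nat.Prime 2) := ⟨Nat.prime_two⟩
  have h1 : nOp u ^ 2 ^ e = u.toLinearMap ^ 2 ^ e + 1 := by
    rw [nOp, add_pow_char_pow_of_commute 2 e (Commute.one_right u.toLinearMap), one_pow]
  have h2 := n_pow_eq_zero_of_le u Nat.lt_two_pow_self.le h
  rw [h1, LinearMap.add_apply, Module.End.one_apply] at h2
  exact eq_of_add_eq_zero F h2

variable {B : V →ₗ[F] V →ₗ[F] F}

/-- The form is alternating and preserved by `u`. -/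
structure IsoAlt (B : V →ₗ[F] V →ₗ[F] F) (u : V ≃ₗ[F] V) : Prop where
  alt : ∀ x, B x x = 0
  iso : ∀ x y, B (u x) (u y) = B x y

variable {u : V ≃ₗ[F] V}

theorem IsoAlt.symm (H : IsoAlt B u) (x y : V) : B x y = B y x := by
  have h := H.alt (x + y)
  simp only [map_add, LinearMap.add_apply, H.alt, zero_add, add_zero] at h
  exact (CharTwo.add_eq_zero.1 h).symm

theorem IsoAlt.u_left (H : IsoAlt B u) (x y : V) : B (u x) y = B x (u.symm y) := by
  conv_lhs => rw [← u.apply_symm_apply y]
  rw [H.iso]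

theorem IsoAlt.u_right (H : IsoAlt B u) (x y : V) : B x (u y) = B (u.symm x) y := by
  conv_lhs => rw [← u.apply_symm_apply x]
  rw [H.iso]

theorem IsoAlt.symm_left (H : IsoAlt B u) (x y : V) : B (u.symm x) y = B x (u y) := (H.u_right x y).symm

theorem IsoAlt.m_left (H : IsoAlt B u) (x y : V) : B (mOp u x) y = B x (mOp u y) := by
  simp only [mOp_apply, map_add, LinearMap.add_apply, H.u_left, H.symm_left]
  exact add_comm _ _

theorem IsoAlt.m_pow_left (H : IsoAlt B u) : ∀ (i : ℕ) (x y : V), B ((mOp u ^ i) x) y = B x ((mOp u ^ i) y)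
  | 0, x, y => rfl
  | i + 1, x, y => by
    rw [pow_succ, Module.End.mul_apply, H.m_pow_left i, H.m_left, ← Module.End.mul_apply, ← pow_succ', pow_succ]

theorem IsoAlt.m_pow_self (H : IsoAlt B u) : ∀ (i : ℕ) (x : V), B ((mOp u ^ i) x) x = 0
  | 0, x => H.alt x
  | 1, x => by
    rw [pow_one, mOp_apply, map_add, LinearMap.add_apply, H.u_left, H.symm x, CharTwo.add_self_eq_zero]
  | i + 2, x => by
    rw [pow_succ, pow_succ', Module.End.mul_apply, Module.End.mul_apply, H.m_left]
    exact H.m_pow_self i _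

theorem IsoAlt.n_pow_left (H : IsoAlt B u) : ∀ (r : ℕ) (x y : V),
    B ((nOp u ^ r) x) y = B x ((u.symm.toLinearMap ^ r) ((nOp u ^ r) y))
  | 0, x, y => rfl
  | r + 1, x, y => by
    have hb : ∀ a b : V, B (nOp u a) b = B a (u.symm (nOp u b)) := fun a b => by
      rw [nOp_apply, nOp_apply, map_add, LinearMap.add_apply, H.u_left, map_add u.symm, u.symm_apply_apply,
        map_add, add_comm]
    rw [pow_succ' (nOp u), Module.End.mul_apply, hb, H.n_pow_left r, Module.End.mul_apply]
    refine congrArg (B x) ?_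
    show ((u.symm.toLinearMap ^ r) * (nOp u ^ r * u.symm.toLinearMap * nOp u)) y =
      ((u.symm.toLinearMap ^ (r + 1)) * (nOp u * nOp u ^ r)) y
    rw [← ((commute_symm_n u).pow_right r).eq, pow_succ (u.symm.toLinearMap), ← pow_succ', pow_succ (nOp u)]
    simp only [mul_assoc]

/-- The shift `n` is self-adjoint at the top. -/
theorem IsoAlt.n_pow_top (H : IsoAlt B u) {r : ℕ} {x y : V} (hy : (nOp u ^ (r + 1)) y = 0) :
    B ((nOp u ^ r) x) y = B x ((nOp u ^ r) y) := by
  rw [H.n_pow_left, symm_pow_fix u]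
  rw [← Module.End.mul_apply, ← pow_succ']
  exact hy

variable (B u) in
/-- The tower of quadratic functions. -/
def tower (Q : V → F) : ℕ → V → F
  | 0 => Q
  | j + 1 => fun x => B ((mOp u ^ j) (u x)) x

/-- The setting: an isometry together with the levels of the tower that are in use. -/
structure Setting (B : V →ₗ[F] V →ₗ[F] F) (u : V ≃ₗ[F] V) (Q : V → F) (lo : ℕ) : Prop extends IsoAlt B u where
  qadd : lo = 0 → ∀ x y, Q (x + y) = Q x + Q y + B x y
  qsmul : lo = 0 → ∀ (c : F) x, Q (c • x) = c ^ 2 * Q x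
  qinv : lo = 0 → ∀ x, Q (u x) = Q x

variable {Q : V → F} {lo : ℕ}

theorem tower_succ (j : ℕ) (x : V) : tower B u Q (j + 1) x = B ((mOp u ^ j) (u x)) x := rfl

theorem tower_smul (S : Setting B u Q lo) {j : ℕ} (hj : lo ≤ j) (c : F) (x : V) :
    tower B u Q j (c • x) = c ^ 2 * tower B u Q j x := by
  cases j with
  | zero => exact S.qsmul (by omega) c x
  | succ j =>
    simp only [tower_succ, map_smul, LinearMap.smul_apply, smul_eq_mul]
    ring

theorem tower_add (S : Setting B u Q lo) {j : ℕ} (hj : lo ≤ j) (x y : V) :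
    tower B u Q j (x + y) = tower B u Q j x + tower B u Q j y + B ((mOp u ^ j) x) y := by
  cases j with
  | zero => exact S.qadd (by omega) x y
  | succ j =>
    simp only [tower_succ, map_add, LinearMap.add_apply]
    have h1 : B ((mOp u ^ j) (u y)) x = B ((mOp u ^ j) (u.symm x)) y := by
      rw [S.symm, S.m_pow_left j (u.symm x) y, S.symm_left]
      exact congrArg (B x) (LinearMap.congr_fun ((commute_u_m u).pow_right j).eq y).symm
    have h2 : B ((mOp u ^ (j + 1)) x) y = B ((mOp u ^ j) (u x)) y + B ((mOp u ^ j) (u.symm x)) y := by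
      rw [pow_succ, Module.End.mul_apply, mOp_apply, map_add, map_add, LinearMap.add_apply]
    rw [h1, h2]
    ring

theorem tower_u (S : Setting B u Q lo) {j : ℕ} (hj : lo ≤ j) (x : V) : tower B u Q j (u x) = tower B u Q j x := by
  cases j with
  | zero => exact S.qinv (by omega) x
  | succ j =>
    rw [tower_succ, tower_succ, ← show u ((mOp u ^ j) (u x)) = (mOp u ^ j) (u (u x)) from
      LinearMap.congr_fun ((commute_u_m u).pow_right j).eq (u x), S.iso]

theorem tower_zero_apply (S : Setting B u Q lo) {j : ℕ} (hj : lo ≤ j) : tower B u Q j 0 = 0 := by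
  rw [← zero_smul F (0 : V), tower_smul S hj]
  ring

theorem tower_n (S : Setting B u Q lo) {j : ℕ} (hj : lo ≤ j) (x : V) :
    tower B u Q j (nOp u x) = tower B u Q (j + 1) x := by
  rw [nOp_apply, tower_add S hj, tower_u S hj, CharTwo.add_self_eq_zero, zero_add, tower_succ]

theorem tower_n_pow (S : Setting B u Q lo) {j : ℕ} (hj : lo ≤ j) :
    ∀ (r : ℕ) (x : V), tower B u Q j ((nOp u ^ r) x) = tower B u Q (j + r) x
  | 0, x => rfl
  | r + 1, x => by
    rw [pow_succ, Module.End.mul_apply, tower_n_pow S hj r, tower_n S (by omega), add_assoc]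

theorem tower_m (S : Setting B u Q lo) {j : ℕ} (hj : lo ≤ j) (x : V) :
    tower B u Q j (mOp u x) = tower B u Q (j + 2) x := by
  rw [← tower_u S hj, ← tower_n_pow S hj 2, pow_two, ← mul_m_eq]
  rfl

theorem tower_m_pow (S : Setting B u Q lo) {j : ℕ} (hj : lo ≤ j) :
    ∀ (r : ℕ) (x : V), tower B u Q j ((mOp u ^ r) x) = tower B u Q (j + 2 * r) x
  | 0, x => rfl
  | r + 1, x => by
    rw [pow_succ, Module.End.mul_apply, tower_m_pow S hj r, tower_m S (by omega),
      show j + 2 * r + 2 = j + 2 * (r + 1) by ring]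

/-- The tower vanishes beyond half of the order. -/
theorem tower_eq_zero (S : Setting B u Q lo) {j e : ℕ} {x : V} (hx : (nOp u ^ e) x = 0) (hj : e + 1 ≤ 2 * j) :
    tower B u Q j x = 0 := by
  obtain ⟨j, rfl⟩ : ∃ i, j = i + 1 := ⟨j - 1, by omega⟩
  rw [tower_succ, u_eq u x, map_add, map_add, LinearMap.add_apply, S.m_pow_self, add_zero]
  have h : (nOp u ^ (2 * j + 1)) x = 0 := n_pow_eq_zero_of_le u (by omega) hx
  rw [show (mOp u ^ j) (nOp u x) = 0 by
    have := m_pow_n_pow_zero u (r := 1) (i := j) h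
    simpa using this, map_zero, LinearMap.zero_apply]

/-- The top form on odd levels vanishes on the diagonal. -/
theorem top_self_odd (S : Setting B u Q lo) {k : ℕ} {x : V} (hx : (nOp u ^ (2 * k + 1)) x = 0) :
    B ((nOp u ^ (2 * k)) x) x = 0 := by
  have h := m_pow_n_pow u (r := 0) (i := k) (x := x) (by simpa using hx)
  simp only [pow_zero, Module.End.one_apply, add_zero] at h
  rw [← h]
  exact S.m_pow_self k x

/-- The top form on even levels is given by the tower on the diagonal. -/
theorem top_self_even (S : Setting B u Q lo) {k : ℕ} {x : V} (hx : (nOp u ^ (2 * k + 2)) x = 0) :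
    B ((nOp u ^ (2 * k + 1)) x) x = tower B u Q (k + 1) x := by
  have h := m_pow_n_pow u (r := 1) (i := k) (x := x) (by simpa [show 2 * k + 1 + 1 = 2 * k + 2 by ring] using hx)
  rw [pow_one] at h
  rw [← h, tower_succ, nOp_apply, map_add, map_add, LinearMap.add_apply, S.m_pow_self, add_zero]

end CfsgLib.ClassNumberEven
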