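import Cfsg.Agent.Lib.KnownA.ClassNumberEven.Count

/-!
# The numerical bound for the weighted count
-/

set_option autoImplicit false
set_option linter.unusedSectionVars false

namespace CfsgLib.ClassNumberEven

open Finset

/-- The transfer of the bounds from level `K` to level `K + 1` at `1 / 2`. -/
def bndStep (k : ℕ) (s : ℚ × ℚ) : ℚ × ℚ :=
  let u : ℚ := (1 / 2) ^ k
  let g : ℚ := 1 / (1 - u * u * (1 / 2))
  let h : ℚ := 1 / (1 - u * u)
  (h * g * (s.1 * (u + u * u + 2 * (u * u * (1 / 2))) + s.2 * (2 * (u + u * u) + 2 * (u * u * (1 / 2)))),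
    h * (s.1 + s.2))

/-- The bounds for the chains at `1 / 2`. -/
def bnd (s₀ : Bool) : ℕ → ℚ × ℚ
  | 0 => (if s₀ then 1 else 0, if s₀ then 0 else 1)
  | K + 1 => bndStep (K + 1) (bnd s₀ K)

/-- The limit of the bounds. -/
def bndLim (s₀ : Bool) : ℚ := if s₀ then 38 / 5 else 12

theorem bnd_nonneg (s₀ : Bool) : ∀ K, 0 ≤ (bnd s₀ K).1 ∧ 0 ≤ (bnd s₀ K).2
  | 0 => by cases s₀ <;> simp [bnd]
  | K + 1 => by
    obtain ⟨h1, h2⟩ := bnd_nonneg s₀ K
    have hu : (1 / 2 : ℚ) ^ (K + 1) ≤ 1 / 2 := pow_le_of_le_one (by norm_num) (by norm_num) (by omega)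
    have hu0 : (0 : ℚ) ≤ (1 / 2) ^ (K + 1) := by positivity
    have a1 : (0 : ℚ) ≤ 1 - (1 / 2) ^ (K + 1) * (1 / 2) ^ (K + 1) * (1 / 2) := by nlinarith
    have a2 : (0 : ℚ) ≤ 1 - (1 / 2) ^ (K + 1) * (1 / 2) ^ (K + 1) := by nlinarith
    simp only [bnd, bndStep]
    constructor <;> positivity

theorem chSum_le (n : ℕ) {z : ℚ} (h0 : 0 ≤ z) (h1 : z ≤ 1 / 2) (s₀ : Bool) :
    ∀ K, chSum n z s₀ K true ≤ (bnd s₀ K).1 ∧ chSum n z s₀ K false ≤ (bnd s₀ K).2
  | 0 => by simp [chSum_zero, bnd]
  | K + 1 => by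
    obtain ⟨i1, i2⟩ := chSum_le n h0 h1 s₀ K
    obtain ⟨l1, l2, l3, l4⟩ := levSum_le (n := n) z h0 h1 (k := K + 1) (by omega)
    obtain ⟨b1, b2⟩ := bnd_nonneg s₀ K
    have hnn : ∀ s, 0 ≤ chSum n z s₀ K s := fun s => Finset.sum_nonneg fun c _ => by split_ifs <;> positivity
    have hln : ∀ s t, 0 ≤ levSum n z (K + 1) s t := fun s t => Finset.sum_nonneg fun c _ => by
      split_ifs <;> positivity
    set u : ℚ := (1 / 2) ^ (K + 1) with hu
    have e2 : z ^ (2 * (K + 1)) ≤ u * u := by
      rw [hu, ← pow_add, two_mul]; exact pow_le_pow_left₀ h0 h1 _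
    have e3 : z ^ (2 * (K + 1) + 1) ≤ u * u * (1 / 2) := by
      rw [pow_succ]; exact mul_le_mul e2 h1 h0 (by positivity)
    have e1 : z ^ (K + 1) ≤ u := pow_le_pow_left₀ h0 h1 _
    have hu1 : u ≤ 1 / 2 := pow_le_of_le_one (by norm_num) (by norm_num) (by omega)
    have hu0 : 0 ≤ u := by positivity
    have p1 : 0 < 1 - u * u := by nlinarith
    have p2 : 0 < 1 - u * u * (1 / 2) := by nlinarith
    have eh : 1 / (1 - z ^ (2 * (K + 1))) ≤ 1 / (1 - u * u) := by gcongr
    have eg : 1 / (1 - z ^ (2 * (K + 1) + 1)) ≤ 1 / (1 - u * u * (1 / 2)) := by gcongr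
    have hh0 : 0 ≤ 1 / (1 - u * u) := by positivity
    have hg0 : 0 ≤ 1 / (1 - u * u * (1 / 2)) := by positivity
    have hz3 : 0 ≤ 1 / (1 - z ^ (2 * (K + 1) + 1)) := div_nonneg zero_le_one (by nlinarith)
    have m1 : levSum n z (K + 1) true true ≤
        1 / (1 - u * u) * (1 / (1 - u * u * (1 / 2)) * (u + u * u + 2 * (u * u * (1 / 2)))) :=
      l1.trans (mul_le_mul eh (mul_le_mul eg (by linarith) (by positivity) hg0)
        (mul_nonneg hz3 (by positivity)) hh0)
    have m3 : levSum n z (K + 1) false true ≤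
        1 / (1 - u * u) * (1 / (1 - u * u * (1 / 2)) * (2 * (u + u * u) + 2 * (u * u * (1 / 2)))) :=
      l3.trans (mul_le_mul eh (mul_le_mul eg (by linarith) (by positivity) hg0)
        (mul_nonneg hz3 (by positivity)) hh0)
    have m2 : levSum n z (K + 1) true false ≤ 1 / (1 - u * u) := l2.trans (by rw [mul_one]; exact eh)
    have m4 : levSum n z (K + 1) false false ≤ 1 / (1 - u * u) := l4.trans (by rw [mul_one]; exact eh)
    simp only [chSum_succ, bnd, bndStep, ← hu]
    constructor
    · refine (add_le_add (mul_le_mul i1 m1 (hln _ _) b1) (mul_le_mul i2 m3 (hln _ _) b2)).trans (le_of_eq ?_)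
      ring
    · refine (add_le_add (mul_le_mul i1 m2 (hln _ _) b1) (mul_le_mul i2 m4 (hln _ _) b2)).trans (le_of_eq ?_)
      ring

theorem bnd_tail (s₀ : Bool) : ∀ r,
    (bnd s₀ (8 + r)).1 + (bnd s₀ (8 + r)).2 ≤ bndLim s₀ * (1 - 21 / 10 * (1 / 2) ^ (8 + r))
  | 0 => by cases s₀ <;> norm_num [bnd, bndStep, bndLim]
  | r + 1 => by
    have ih := bnd_tail s₀ r
    have hM : 0 ≤ bndLim s₀ := by cases s₀ <;> norm_num [bndLim]
    obtain ⟨b1, b2⟩ := bnd_nonneg s₀ (8 + r)
    rw [← add_assoc]
    simp only [bnd, bndStep]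
    set u : ℚ := (1 / 2) ^ (8 + r + 1) with hu
    rw [show (1 / 2 : ℚ) ^ (8 + r) = 2 * u by rw [hu, pow_succ]; ring] at ih
    have hu0 : 0 ≤ u := by positivity
    have hu1 : u ≤ 1 / 512 := by
      rw [hu]
      calc (1 / 2 : ℚ) ^ (8 + r + 1) ≤ (1 / 2) ^ 9 :=
            pow_le_pow_of_le_one (by norm_num) (by norm_num) (by omega)
        _ = 1 / 512 := by norm_num
    set a := (bnd s₀ (8 + r)).1
    set b := (bnd s₀ (8 + r)).2
    have p1 : 0 < 1 - u * u := by nlinarith
    have p2 : 0 < 1 - u * u * (1 / 2) := by nlinarith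
    have hfac : 1 / (1 - u * u) * (1 / (1 - u * u * (1 / 2)) * (2 * (u + u * u) + 2 * (u * u * (1 / 2))) + 1) ≤
        1 + 205 / 100 * u := by
      have hg : 1 / (1 - u * u * (1 / 2)) ≤ 101 / 100 := by rw [div_le_iff₀ p2]; nlinarith
      have hh : 1 / (1 - u * u) ≤ 1 + u / 100 := by rw [div_le_iff₀ p1]; nlinarith
      calc _ ≤ (1 + u / 100) * (101 / 100 * (2 * (u + u * u) + 2 * (u * u * (1 / 2))) + 1) :=
            mul_le_mul hh (by nlinarith) (by positivity) (by positivity)
        _ ≤ _ := by nlinarith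
    calc _ ≤ (a + b) * (1 / (1 - u * u) * (1 / (1 - u * u * (1 / 2)) * (2 * (u + u * u) + 2 * (u * u * (1 / 2))) + 1)) := by
          have h3 : 0 ≤ a * (1 / (1 - u * u) * (1 / (1 - u * u * (1 / 2)) * (u + u * u))) := by positivity
          nlinarith
      _ ≤ bndLim s₀ * (1 - 21 / 10 * (2 * u)) * (1 + 205 / 100 * u) :=
          mul_le_mul ih hfac (by positivity) (by nlinarith)
      _ ≤ _ := by nlinarith

theorem bnd_le (s₀ : Bool) (K : ℕ) : (bnd s₀ K).1 + (bnd s₀ K).2 ≤ bndLim s₀ := by
  rcases le_or_gt 8 K with h | h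
  · obtain ⟨r, rfl⟩ : ∃ r, K = 8 + r := ⟨K - 8, by omega⟩
    refine (bnd_tail s₀ r).trans ?_
    have : (0 : ℚ) ≤ (1 / 2) ^ (8 + r) := by positivity
    have hM : 0 ≤ bndLim s₀ := by cases s₀ <;> norm_num [bndLim]
    nlinarith
  · interval_cases K <;> cases s₀ <;> norm_num [bnd, bndStep, bndLim]

variable {n : ℕ}

/-- The blocks of one level. -/
def levBlks (k : ℕ) (l : Lev n) : Multiset Blk :=
  Multiset.replicate l.1.val (.V k false) + Multiset.replicate l.2.1.val (.V k true) +
    Multiset.replicate l.2.2.1.val (.W (2 * k + 1) false) + Multiset.replicate l.2.2.2.1.val (.W (2 * k + 1) true) +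
    Multiset.replicate l.2.2.2.2.val (.W (2 * k) false)

/-- The blocks of a chain. -/
def build (x : Fin (n + 1) × (Fin n → Lev n)) : Multiset Blk :=
  Multiset.replicate x.1.val (.W 1 false) + ∑ i : Fin n, levBlks ((i : ℕ) + 1) (x.2 i)

theorem wt_build (x : Fin (n + 1) × (Fin n → Lev n)) :
    ((build x).map Blk.wt).sum = x.1.val + chWt n x.2 := by
  let g : Multiset Blk →+ ℕ :=
    { toFun := fun M => (Multiset.map Blk.wt M).sum, map_zero' := by simp, map_add' := fun M N => by simp }
  have h : g (∑ i : Fin n, levBlks ((i : ℕ) + 1) (x.2 i)) = chWt n x.2 := by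
    rw [map_sum, chWt]
    refine Finset.sum_congr rfl fun i _ => ?_
    show ((levBlks ((i : ℕ) + 1) (x.2 i)).map Blk.wt).sum = _
    simp [levBlks, levWt, Blk.wt]
    ring
  simp only [build, Multiset.map_add, Multiset.sum_add, Multiset.map_replicate, Multiset.sum_replicate]
  simp only [Blk.wt, smul_eq_mul, mul_one]
  exact congrArg _ h

theorem count_levSum (x : Fin (n + 1) × (Fin n → Lev n)) (b : Blk) :
    (∑ i : Fin n, levBlks ((i : ℕ) + 1) (x.2 i)).count b = ∑ i : Fin n, (levBlks ((i : ℕ) + 1) (x.2 i)).count b :=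
  Multiset.count_sum'

/-- Every reduced multiset comes from an admissible chain. -/
theorem exists_chain {M : Multiset Blk} (hR : Red 1 M) (hw : (M.map Blk.wt).sum ≤ n) :
    ∃ x : Fin (n + 1) × (Fin n → Lev n), ChOk true n x.2 ∧ build x = M := by
  classical
  have hmem : ∀ b ∈ M, b.wt ≤ n := fun b hb =>
    (Multiset.le_sum_of_mem (Multiset.mem_map_of_mem _ hb)).trans hw
  have hcnt : ∀ b, 1 ≤ b.wt → M.count b ≤ n := by
    intro b hb
    have h1 : Multiset.replicate (M.count b) b ≤ M := Multiset.le_count_iff_replicate_le.1 le_rfl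
    obtain ⟨R, hR'⟩ := Multiset.le_iff_exists_add.1 h1
    have h2 : ((Multiset.replicate (M.count b) b + R).map Blk.wt).sum ≤ n := hR' ▸ hw
    rw [Multiset.map_add, Multiset.sum_add, Multiset.map_replicate, Multiset.sum_replicate, smul_eq_mul] at h2
    have := Nat.le_mul_of_pos_right (M.count b) hb
    omega
  let lev : Fin n → Lev n := fun i =>
    (⟨M.count (.V ((i : ℕ) + 1) false), by have := hR.two ((i : ℕ) + 1); omega⟩,
      ⟨M.count (.V ((i : ℕ) + 1) true), by have := hR.bit (.V ((i : ℕ) + 1) true) rfl; omega⟩,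
      ⟨M.count (.W (2 * ((i : ℕ) + 1) + 1) false), by
        have := hcnt (.W (2 * ((i : ℕ) + 1) + 1) false) (by simp only [Blk.wt]; omega); omega⟩,
      ⟨M.count (.W (2 * ((i : ℕ) + 1) + 1) true), by
        have := hR.bit (.W (2 * ((i : ℕ) + 1) + 1) true) rfl; omega⟩,
      ⟨M.count (.W (2 * ((i : ℕ) + 1)) false), by
        have := hcnt (.W (2 * ((i : ℕ) + 1)) false) (by simp only [Blk.wt]; omega); omega⟩)
  refine ⟨(⟨M.count (.W 1 false), by have := hcnt (.W 1 false) le_rfl; omega⟩, lev), ?_, ?_⟩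
  · suffices h : ∀ K (hK : K ≤ n), ChOk true K (fun i => lev (i.castLE hK)) from h n le_rfl
    intro K
    induction K with
    | zero => intro _; trivial
    | succ K ih =>
      intro hK
      refine ⟨ih (by omega), ?_, ?_, ?_⟩
      · exact hR.two (K + 1)
      · intro hb
        have hmemV : Blk.V (K + 1) true ∈ M := Multiset.count_pos.1 (by
          rw [show M.count (Blk.V (K + 1) true) = 1 from hb]; exact one_pos)
        cases K with
        | zero => exact absurd ((hR.ok _ hmemV).2 rfl) (by omega)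
        | succ K =>
          have h0 : ∀ b, M.count (Blk.V (K + 1) b) = 0 ∧ M.count (Blk.W (2 * (K + 1) + 1) b) = 0 := fun b => by
            obtain ⟨h1, h2⟩ := hR.headV _ b hmemV
            exact ⟨Multiset.count_eq_zero.2 h1, Multiset.count_eq_zero.2 h2⟩
          show levSt _ = false
          simp [levSt, lev, (h0 false).1, (h0 false).2, (h0 true).1, (h0 true).2]
      · intro hb
        have hmemW : Blk.W (2 * (K + 1) + 1) true ∈ M := Multiset.count_pos.1 (by
          rw [show M.count (Blk.W (2 * (K + 1) + 1) true) = 1 from hb]; exact one_pos)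
        show M.count (Blk.V (K + 1) false) + M.count (Blk.V (K + 1) true) = 0
        rw [Multiset.count_eq_zero.2 (hR.headW _ false hmemW), Multiset.count_eq_zero.2 (hR.headW _ true hmemW)]
  · ext b
    rw [build, Multiset.count_add, count_levSum, Multiset.count_replicate]
    simp only [levBlks, Multiset.count_add, Multiset.count_replicate, lev]
    have zero_of : ∀ b, (b ∈ M → False) → M.count b = 0 := fun b h => Multiset.count_eq_zero.2 h
    cases b with
    | V k bit =>
      by_cases hk : 1 ≤ k ∧ k ≤ n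
      · rw [Finset.sum_eq_single (⟨k - 1, by omega⟩ : Fin n)]
        · cases bit <;> simp [Nat.sub_add_cancel hk.1]
        · intro i _ hi
          have : (i : ℕ) + 1 ≠ k := fun h => hi (Fin.ext (by simp only; omega))
          cases bit <;> simp [this]
        · simp
      · rw [zero_of (.V k bit) fun h => hk ⟨(hR.ok _ h).1, hmem _ h⟩, Finset.sum_eq_zero fun i _ => ?_]
        · simp
        · have : (i : ℕ) + 1 ≠ k := by omega
          cases bit <;> simp [this]
    | W e bit =>
      rcases Nat.even_or_odd e with ⟨k, rfl⟩ | ⟨k, rfl⟩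
      · have hne : ∀ j : ℕ, 2 * j + 1 ≠ k + k := fun j => by omega
        by_cases hk : bit = false ∧ 1 ≤ k ∧ k ≤ n
        · obtain ⟨rfl, hk1, hk2⟩ := hk
          rw [Finset.sum_eq_single (⟨k - 1, by omega⟩ : Fin n)]
          · simp [Nat.sub_add_cancel hk1, hne, show 1 ≠ k + k by omega, two_mul]
          · intro i _ hi
            have : 2 * ((i : ℕ) + 1) ≠ k + k := fun h => hi (Fin.ext (by simp only; omega))
            simp [hne, this]
          · simp
        · rw [zero_of (.W (k + k) bit) fun h => hk ?_, Finset.sum_eq_zero fun i _ => ?_]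
          · simp [show 1 ≠ k + k by omega]
          · by_cases hb : bit = false
            · have : 2 * ((i : ℕ) + 1) ≠ k + k := fun h => hk ⟨hb, by omega, by omega⟩
              simp [hne, this]
            · simp [hne, Ne.symm hb]
          · obtain ⟨h1, h2⟩ := hR.ok _ h
            have hn := hmem _ h
            simp only [Blk.wt] at hn
            refine ⟨?_, by omega, by omega⟩
            cases bit with
            | false => rfl
            | true =>
              obtain ⟨j, hj, -⟩ := h2 rfl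
              omega
      · have hne : ∀ j : ℕ, 2 * j ≠ 2 * k + 1 := fun j => by omega
        rcases Nat.eq_zero_or_pos k with rfl | hk0
        · rw [Finset.sum_eq_zero fun i _ => by simp]
          cases bit with
          | false => simp
          | true =>
            rw [zero_of (.W (2 * 0 + 1) true) fun h => ?_]
            · simp
            · obtain ⟨j, hj, hj1⟩ := (hR.ok _ h).2 rfl
              omega
        · by_cases hk : k ≤ n
          · rw [Finset.sum_eq_single (⟨k - 1, by omega⟩ : Fin n)]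
            · cases bit <;> simp [Nat.sub_add_cancel hk0, show k ≠ 0 by omega, hne]
            · intro i _ hi
              have : (i : ℕ) + 1 ≠ k := fun h => hi (Fin.ext (by simp only; omega))
              cases bit <;> simp [this, hne]
            · simp
          · rw [zero_of (.W (2 * k + 1) bit) fun h => hk (by have := hmem _ h; simp only [Blk.wt] at this; omega),
              Finset.sum_eq_zero fun i _ => ?_]
            · simp [show k ≠ 0 by omega]
            · have : (i : ℕ) + 1 ≠ k := by omega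
              cases bit <;> simp [this, hne]

/-- Reduced multisets of weight at most `n`. -/
abbrev RedLab (n : ℕ) := {M : Multiset Blk // Red 1 M ∧ (M.map Blk.wt).sum ≤ n}

theorem finite_redLab : Finite (RedLab n) := by
  choose x hx using fun M : RedLab n => exists_chain M.2.1 M.2.2
  exact Finite.of_injective x fun M M' h => Subtype.ext ((hx M).2.symm.trans ((congrArg build h).trans (hx M').2))

/-- The weighted number of reduced multisets. -/
theorem sum_redLab_le [Fintype (RedLab n)] {z : ℚ} (h0 : 0 ≤ z) (h1 : z ≤ 1 / 2) :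
    ∑ M : RedLab n, z ^ (M.1.map Blk.wt).sum ≤ 76 / 5 := by
  classical
  choose x hx using fun M : RedLab n => exists_chain M.2.1 M.2.2
  have hinj : Function.Injective x := fun M M' h =>
    Subtype.ext ((hx M).2.symm.trans ((congrArg build h).trans (hx M').2))
  have hval : ∀ M : RedLab n, z ^ (M.1.map Blk.wt).sum = z ^ ((x M).1 : ℕ) * z ^ chWt n (x M).2 := fun M => by
    rw [← pow_add, ← wt_build, (hx M).2]
  let f : Fin (n + 1) × (Fin n → Lev n) → ℚ := fun y => if ChOk true n y.2 then z ^ (y.1 : ℕ) * z ^ chWt n y.2 else 0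
  have hle : ∑ M : RedLab n, z ^ (M.1.map Blk.wt).sum ≤ ∑ y, f y := by
    rw [Finset.sum_congr rfl fun M _ => (hval M).trans (if_pos (hx M).1).symm,
      show ∑ M : RedLab n, f (x M) = ∑ y ∈ (Finset.univ : Finset (RedLab n)).image x, f y from
        (Finset.sum_image fun M _ M' _ h => hinj h).symm]
    exact Finset.sum_le_sum_of_subset_of_nonneg (Finset.subset_univ _)
      fun y _ _ => by simp only [f]; split_ifs <;> positivity
  refine hle.trans ?_
  have hsplit : ∑ y, f y = (∑ w : Fin (n + 1), z ^ (w : ℕ)) * (chSum n z true n true + chSum n z true n false) := by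
    rw [Fintype.sum_prod_type, chSum, chSum, ← Finset.sum_add_distrib, Finset.sum_mul]
    refine Finset.sum_congr rfl fun w _ => ?_
    rw [Finset.mul_sum]
    refine Finset.sum_congr rfl fun c _ => ?_
    simp only [f]
    rcases chSt true n c with _ | _ <;> by_cases h : ChOk true n c <;> simp [h]
  rw [hsplit]
  obtain ⟨s1, s2⟩ := chSum_le n h0 h1 true n
  have hgeo : ∑ w : Fin (n + 1), z ^ (w : ℕ) ≤ 2 := by
    rw [Fin.sum_univ_eq_sum_range (fun i => z ^ i), geom_sum_eq (by linarith), ← neg_div_neg_eq, neg_sub, neg_sub,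
      div_le_iff₀ (by linarith)]
    linarith [pow_nonneg h0 (n + 1)]
  have hnn : ∀ s, 0 ≤ chSum n z true n s := fun s => Finset.sum_nonneg fun c _ => by split_ifs <;> positivity
  calc _ ≤ 2 * (38 / 5 : ℚ) := mul_le_mul hgeo (le_trans (add_le_add s1 s2) ((bnd_le true n).trans (by norm_num [bndLim])))
        (add_nonneg (hnn _) (hnn _)) (by norm_num)
    _ = _ := by norm_num

end CfsgLib.ClassNumberEven
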