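import Cfsg.Agent.Lib.KnownA.ClassNumberEven.Bound

/-!
# The weighted count for quadratic forms
-/

set_option autoImplicit false
set_option linter.unusedSectionVars false

namespace CfsgLib.ClassNumberEven

open Finset

variable {n : ℕ}

/-- The blocks of a chain with the lowest level. -/
def build0 (y : Fin 2 × Fin (n + 1) × (Fin n → Lev n)) : Multiset Blk :=
  Multiset.replicate y.1.val (.W 1 true) + build y.2

/-- The state after the lowest level. -/
def start0 (y : Fin 2 × Fin (n + 1) × (Fin n → Lev n)) : Bool := decide (0 < y.1.val + y.2.1.val)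

theorem wt_build0 (y : Fin 2 × Fin (n + 1) × (Fin n → Lev n)) :
    ((build0 y).map Blk.wt).sum = y.1.val + (y.2.1.val + chWt n y.2.2) := by
  rw [build0, Multiset.map_add, Multiset.sum_add, wt_build, Multiset.map_replicate, Multiset.sum_replicate]
  simp [Blk.wt]

/-- Every reduced multiset comes from an admissible chain. -/
theorem exists_chain0 {M : Multiset Blk} (hR : Red 0 M) (hw : (M.map Blk.wt).sum ≤ n) :
    ∃ y : Fin 2 × Fin (n + 1) × (Fin n → Lev n), ChOk (start0 y) n y.2.2 ∧ build0 y = M := by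
  classical
  have hmem : ∀ b ∈ M, b.wt ≤ n := fun b hb =>
    (Multiset.le_sum_of_mem (Multiset.mem_map_of_mem _ hb)).trans hw
  have hcnt : ∀ b, 1 ≤ b.wt → M.count b ≤ n := by
    intro b hb
    have h1 : Multiset.replicate (M.count b) b ≤ M := Multiset.le_count_iff_replicate_le.1 le_rfl
    obtain ⟨R, hR'⟩ := Multiset.le_iff_exists_add.1 h1
    have h2 : ((Multiset.replicate (M.count b) b + R).map Blk.wt).sum ≤ n := hR' ▸ hw
    rw [Multiset.map_add, Multiset.sum_add, Multiset.map_replicate, Multiset.sum_replicate, smul_eq_mul] at h2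
    have := Nat.le_mul_of_pos_right (M.count b) hb
    omega
  let lev : Fin n → Lev n := fun i =>
    (⟨M.count (.V ((i : ℕ) + 1) false), by have := hR.two ((i : ℕ) + 1); omega⟩,
      ⟨M.count (.V ((i : ℕ) + 1) true), by have := hR.bit (.V ((i : ℕ) + 1) true) rfl; omega⟩,
      ⟨M.count (.W (2 * ((i : ℕ) + 1) + 1) false), by
        have := hcnt (.W (2 * ((i : ℕ) + 1) + 1) false) (by simp only [Blk.wt]; omega); omega⟩,
      ⟨M.count (.W (2 * ((i : ℕ) + 1) + 1) true), by
        have := hR.bit (.W (2 * ((i : ℕ) + 1) + 1) true) rfl; omega⟩,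
      ⟨M.count (.W (2 * ((i : ℕ) + 1)) false), by
        have := hcnt (.W (2 * ((i : ℕ) + 1)) false) (by simp only [Blk.wt]; omega); omega⟩)
  refine ⟨(⟨M.count (.W 1 true), by have := hR.bit (.W 1 true) rfl; omega⟩,
    ⟨M.count (.W 1 false), by have := hcnt (.W 1 false) le_rfl; omega⟩, lev), ?_, ?_⟩
  · simp only [start0]
    set s₀ := decide (0 < M.count (Blk.W 1 true) + M.count (Blk.W 1 false)) with hs₀
    suffices h : ∀ K (hK : K ≤ n), ChOk s₀ K (fun i => lev (i.castLE hK)) from h n le_rfl
    intro K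
    induction K with
    | zero => intro _; trivial
    | succ K ih =>
      intro hK
      refine ⟨ih (by omega), ?_, ?_, ?_⟩
      · exact hR.two (K + 1)
      · intro hb
        have hmemV : Blk.V (K + 1) true ∈ M := Multiset.count_pos.1 (by
          rw [show M.count (Blk.V (K + 1) true) = 1 from hb]; exact one_pos)
        cases K with
        | zero =>
          have h0 : ∀ b, M.count (Blk.W 1 b) = 0 := fun b => Multiset.count_eq_zero.2 (hR.headV _ b hmemV).2
          show s₀ = false
          simp [hs₀, h0 true, h0 false]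
        | succ K =>
          have h0 : ∀ b, M.count (Blk.V (K + 1) b) = 0 ∧ M.count (Blk.W (2 * (K + 1) + 1) b) = 0 := fun b => by
            obtain ⟨h1, h2⟩ := hR.headV _ b hmemV
            exact ⟨Multiset.count_eq_zero.2 h1, Multiset.count_eq_zero.2 h2⟩
          show levSt _ = false
          simp [levSt, lev, (h0 false).1, (h0 false).2, (h0 true).1, (h0 true).2]
      · intro hb
        have hmemW : Blk.W (2 * (K + 1) + 1) true ∈ M := Multiset.count_pos.1 (by
          rw [show M.count (Blk.W (2 * (K + 1) + 1) true) = 1 from hb]; exact one_pos)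
        show M.count (Blk.V (K + 1) false) + M.count (Blk.V (K + 1) true) = 0
        rw [Multiset.count_eq_zero.2 (hR.headW _ false hmemW), Multiset.count_eq_zero.2 (hR.headW _ true hmemW)]
  · ext b
    rw [build0, build, Multiset.count_add, Multiset.count_add, count_levSum, Multiset.count_replicate,
      Multiset.count_replicate]
    simp only [levBlks, Multiset.count_add, Multiset.count_replicate, lev]
    have zero_of : ∀ b, (b ∈ M → False) → M.count b = 0 := fun b h => Multiset.count_eq_zero.2 h
    cases b with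
    | V k bit =>
      by_cases hk : 1 ≤ k ∧ k ≤ n
      · rw [Finset.sum_eq_single (⟨k - 1, by omega⟩ : Fin n)]
        · cases bit <;> simp [Nat.sub_add_cancel hk.1]
        · intro i _ hi
          have : (i : ℕ) + 1 ≠ k := fun h => hi (Fin.ext (by simp only; omega))
          cases bit <;> simp [this]
        · simp
      · rw [zero_of (.V k bit) fun h => hk ⟨(hR.ok _ h).1, hmem _ h⟩, Finset.sum_eq_zero fun i _ => ?_]
        · simp
        · have : (i : ℕ) + 1 ≠ k := by omega
          cases bit <;> simp [this]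
    | W e bit =>
      rcases Nat.even_or_odd e with ⟨k, rfl⟩ | ⟨k, rfl⟩
      · have hne : ∀ j : ℕ, 2 * j + 1 ≠ k + k := fun j => by omega
        by_cases hk : bit = false ∧ 1 ≤ k ∧ k ≤ n
        · obtain ⟨rfl, hk1, hk2⟩ := hk
          rw [Finset.sum_eq_single (⟨k - 1, by omega⟩ : Fin n)]
          · simp [Nat.sub_add_cancel hk1, hne, show 1 ≠ k + k by omega, two_mul]
          · intro i _ hi
            have : 2 * ((i : ℕ) + 1) ≠ k + k := fun h => hi (Fin.ext (by simp only; omega))
            simp [hne, this]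
          · simp
        · rw [zero_of (.W (k + k) bit) fun h => hk ?_, Finset.sum_eq_zero fun i _ => ?_]
          · simp [show 1 ≠ k + k by omega]
          · by_cases hb : bit = false
            · have : 2 * ((i : ℕ) + 1) ≠ k + k := fun h => hk ⟨hb, by omega, by omega⟩
              simp [hne, this]
            · simp [hne, Ne.symm hb]
          · obtain ⟨h1, h2⟩ := hR.ok _ h
            have hn := hmem _ h
            simp only [Blk.wt] at hn
            refine ⟨?_, by omega, by omega⟩
            cases bit with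
            | false => rfl
            | true =>
              obtain ⟨j, hj, -⟩ := h2 rfl
              omega
      · have hne : ∀ j : ℕ, 2 * j ≠ 2 * k + 1 := fun j => by omega
        rcases Nat.eq_zero_or_pos k with rfl | hk0
        · rw [Finset.sum_eq_zero fun i _ => by simp]
          cases bit <;> simp
        · by_cases hk : k ≤ n
          · rw [Finset.sum_eq_single (⟨k - 1, by omega⟩ : Fin n)]
            · cases bit <;> simp [Nat.sub_add_cancel hk0, show k ≠ 0 by omega, hne]
            · intro i _ hi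
              have : (i : ℕ) + 1 ≠ k := fun h => hi (Fin.ext (by simp only; omega))
              cases bit <;> simp [this, hne]
            · simp
          · rw [zero_of (.W (2 * k + 1) bit) fun h => hk (by have := hmem _ h; simp only [Blk.wt] at this; omega),
              Finset.sum_eq_zero fun i _ => ?_]
            · simp [show k ≠ 0 by omega]
            · have : (i : ℕ) + 1 ≠ k := by omega
              cases bit <;> simp [this, hne]

/-- Reduced multisets for quadratic forms. -/
abbrev RedLab0 (n : ℕ) := {M : Multiset Blk // Red 0 M ∧ (M.map Blk.wt).sum ≤ n}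

theorem finite_redLab0 : Finite (RedLab0 n) := by
  choose x hx using fun M : RedLab0 n => exists_chain0 M.2.1 M.2.2
  exact Finite.of_injective x fun M M' h => Subtype.ext ((hx M).2.symm.trans ((congrArg build0 h).trans (hx M').2))

theorem geo_two (n : ℕ) {z : ℚ} (h0 : 0 ≤ z) (h1 : z ≤ 1 / 2) : ∑ w : Fin (n + 1), z ^ (w : ℕ) ≤ 2 := by
  rw [Fin.sum_univ_eq_sum_range (fun i => z ^ i), geom_sum_eq (by linarith), ← neg_div_neg_eq, neg_sub, neg_sub,
    div_le_iff₀ (by linarith)]
  linarith [pow_nonneg h0 (n + 1)]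

/-- The weighted number of reduced multisets for quadratic forms. -/
theorem sum_redLab0_le [Fintype (RedLab0 n)] {z : ℚ} (h0 : 0 ≤ z) (h1 : z ≤ 1 / 2) :
    ∑ M : RedLab0 n, z ^ (M.1.map Blk.wt).sum ≤ 136 / 5 := by
  classical
  choose x hx using fun M : RedLab0 n => exists_chain0 M.2.1 M.2.2
  have hinj : Function.Injective x := fun M M' h =>
    Subtype.ext ((hx M).2.symm.trans ((congrArg build0 h).trans (hx M').2))
  have hval : ∀ M : RedLab0 n, z ^ (M.1.map Blk.wt).sum =
      z ^ ((x M).1 : ℕ) * (z ^ ((x M).2.1 : ℕ) * z ^ chWt n (x M).2.2) := fun M => by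
    rw [← pow_add, ← pow_add, ← wt_build0, (hx M).2]
  let f : Fin 2 × Fin (n + 1) × (Fin n → Lev n) → ℚ := fun y =>
    if ChOk (start0 y) n y.2.2 then z ^ (y.1 : ℕ) * (z ^ (y.2.1 : ℕ) * z ^ chWt n y.2.2) else 0
  have hle : ∑ M : RedLab0 n, z ^ (M.1.map Blk.wt).sum ≤ ∑ y, f y := by
    rw [Finset.sum_congr rfl fun M _ => (hval M).trans (if_pos (hx M).1).symm,
      show ∑ M : RedLab0 n, f (x M) = ∑ y ∈ (Finset.univ : Finset (RedLab0 n)).image x, f y from
        (Finset.sum_image fun M _ M' _ h => hinj h).symm]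
    exact Finset.sum_le_sum_of_subset_of_nonneg (Finset.subset_univ _)
      fun y _ _ => by simp only [f]; split_ifs <;> positivity
  refine hle.trans ?_
  set C : Bool → ℚ := fun s => chSum n z s n true + chSum n z s n false
  have hin : ∀ (a : Fin 2) (w : Fin (n + 1)), ∑ c, f (a, w, c) =
      z ^ (a : ℕ) * z ^ (w : ℕ) * C (decide (0 < a.val + w.val)) := by
    intro a w
    simp only [C, chSum, ← Finset.sum_add_distrib, Finset.mul_sum]
    refine Finset.sum_congr rfl fun c _ => ?_
    simp only [f, start0]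
    rcases chSt (decide (0 < a.val + w.val)) n c with _ | _ <;>
      by_cases h : ChOk (decide (0 < a.val + w.val)) n c <;> simp [h, mul_assoc]
  simp only [Fintype.sum_prod_type, hin, Fin.sum_univ_two, Fin.val_zero, Fin.val_one]
  rw [Fin.sum_univ_succ]
  simp only [Fin.val_zero, Fin.val_succ, pow_zero, one_mul, zero_add, pow_one, lt_irrefl, decide_false,
    Nat.succ_pos, decide_true, Nat.add_pos_iff_pos_or_pos, zero_lt_one, true_or]
  rw [← Finset.sum_mul, ← Finset.sum_mul, ← Finset.mul_sum]
  have hC : ∀ s, 0 ≤ C s ∧ C s ≤ bndLim s := fun s => by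
    refine ⟨add_nonneg ?_ ?_, ((add_le_add (chSum_le n h0 h1 s n).1 (chSum_le n h0 h1 s n).2).trans (bnd_le s n))⟩
    all_goals exact Finset.sum_nonneg fun c _ => by split_ifs <;> positivity
  have h1' := geo_two n h0 h1
  have h2' : ∑ w : Fin n, z ^ ((w : ℕ) + 1) ≤ 1 := by
    rw [Fin.sum_univ_succ] at h1'
    simp only [Fin.val_zero, pow_zero, Fin.val_succ] at h1'
    linarith
  have ht := (hC true).1
  have hf := (hC false).2
  have ht' := (hC true).2
  simp only [bndLim, if_true, Bool.false_eq_true, if_false] at hf ht'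
  have h3 : z * ∑ w : Fin (n + 1), z ^ (w : ℕ) ≤ 1 :=
    (mul_le_mul h1 h1' (Finset.sum_nonneg fun i _ => by positivity) (by norm_num)).trans (by norm_num)
  nlinarith [mul_le_mul h2' ht' ht zero_le_one, mul_le_mul h3 ht' ht zero_le_one]

/-- A multiset without nodes: only pairs of even order without bit. -/
def NoNode (M : Multiset Blk) : Prop := ∀ b ∈ M, ∃ k, b = Blk.W (2 * k) false

theorem prod_geo_le {z : ℚ} (h0 : 0 ≤ z) (h1 : z ≤ 1 / 2) : ∀ K : ℕ,
    (∏ i : Fin K, ∑ e : Fin (n + 1), (z ^ (2 * ((i : ℕ) + 1))) ^ (e : ℕ)) * (2 / 3 + 1 / 3 * (1 / 4) ^ K) ≤ 1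
  | 0 => by norm_num
  | K + 1 => by
    have ih := prod_geo_le h0 h1 K
    rw [Fin.prod_univ_castSucc]
    simp only [Fin.val_castSucc, Fin.val_last]
    set P := ∏ i : Fin K, ∑ e : Fin (n + 1), (z ^ (2 * ((i : ℕ) + 1))) ^ (e : ℕ)
    have hP : 0 ≤ P := Finset.prod_nonneg fun i _ => Finset.sum_nonneg fun e _ => by positivity
    set a := z ^ (2 * (K + 1))
    set t := (1 / 4 : ℚ) ^ K with ht
    have ha : a ≤ t / 4 := by
      calc a ≤ (1 / 2 : ℚ) ^ (2 * (K + 1)) := pow_le_pow_left₀ h0 h1 _
        _ = t / 4 := by rw [ht, pow_mul, pow_succ]; norm_num; ring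
    have ha0 : 0 ≤ a := by positivity
    have ht0 : 0 ≤ t := by positivity
    have ht1 : t ≤ 1 := pow_le_one₀ (by norm_num) (by norm_num)
    set S := ∑ e : Fin (n + 1), a ^ (e : ℕ)
    have hS : S * (1 - a) ≤ 1 := by
      simp only [S, Fin.sum_univ_eq_sum_range (fun i => a ^ i)]
      have := geom_sum_mul_neg a (n + 1)
      rw [this]
      linarith [pow_nonneg ha0 (n + 1)]
    have hS0 : 0 ≤ S := Finset.sum_nonneg fun e _ => by positivity
    have h2 : 2 / 3 + 1 / 3 * (t / 4) ≤ (2 / 3 + 1 / 3 * t) * (1 - a) := by nlinarith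
    rw [pow_succ, ← ht, show t * (1 / 4) = t / 4 by ring]
    calc P * S * (2 / 3 + 1 / 3 * (t / 4)) ≤ P * S * ((2 / 3 + 1 / 3 * t) * (1 - a)) :=
          mul_le_mul_of_nonneg_left h2 (mul_nonneg hP hS0)
      _ = P * (2 / 3 + 1 / 3 * t) * (S * (1 - a)) := by ring
      _ ≤ 1 * 1 := mul_le_mul ih hS (mul_nonneg hS0 (by nlinarith)) zero_le_one
      _ = 1 := one_mul 1

/-- The weighted number of reduced multisets without nodes. -/
theorem sum_noNode_le [Fintype {M : RedLab0 n // NoNode M.1}] {z : ℚ} (h0 : 0 ≤ z) (h1 : z ≤ 1 / 2) :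
    ∑ M : {M : RedLab0 n // NoNode M.1}, z ^ (M.1.1.map Blk.wt).sum ≤ 3 / 2 := by
  classical
  choose x hx using fun M : {M : RedLab0 n // NoNode M.1} => exists_chain0 M.1.2.1 M.1.2.2
  let g : {M : RedLab0 n // NoNode M.1} → (Fin n → Fin (n + 1)) := fun M i => ((x M).2.2 i).2.2.2.2
  have hzero : ∀ M, (x M).1.val = 0 ∧ (x M).2.1.val = 0 ∧ ∀ i : Fin n, ((x M).2.2 i).1.val = 0 ∧
      ((x M).2.2 i).2.1.val = 0 ∧ ((x M).2.2 i).2.2.1.val = 0 ∧ ((x M).2.2 i).2.2.2.1.val = 0 := by
    intro M
    have hz : ∀ b, (∀ k, b ≠ Blk.W (2 * k) false) → (build0 (x M)).count b = 0 := fun b hb => by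
      rw [(hx M).2, Multiset.count_eq_zero]
      exact fun h => (M.2 b h).elim hb
    have hle : ∀ (i : Fin n) b, (levBlks ((i : ℕ) + 1) ((x M).2.2 i)).count b ≤ (build0 (x M)).count b := by
      intro i b
      rw [build0, build, Multiset.count_add, Multiset.count_add, count_levSum]
      exact le_trans (Finset.single_le_sum (f := fun i : Fin n => (levBlks ((i : ℕ) + 1) ((x M).2.2 i)).count b)
        (fun _ _ => Nat.zero_le _) (Finset.mem_univ i)) (by omega)
    refine ⟨?_, ?_, fun i => ⟨?_, ?_, ?_, ?_⟩⟩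
    · have := hz (.W 1 true) (by simp)
      simp [build0, build, Multiset.count_replicate] at this
      first | omega | simp [this]
    · have := hz (.W 1 false) (fun k h => by simp only [Blk.W.injEq] at h; omega)
      simp [build0, build, Multiset.count_replicate] at this
      first | omega | simp [this]
    · have := (hle i (.V ((i : ℕ) + 1) false)).trans (hz _ (by simp)).le
      simp [levBlks, Multiset.count_replicate] at this
      first | omega | simp [this]
    · have := (hle i (.V ((i : ℕ) + 1) true)).trans (hz _ (by simp)).le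
      simp [levBlks, Multiset.count_replicate] at this
      first | omega | simp [this]
    · have := (hle i (.W (2 * ((i : ℕ) + 1) + 1) false)).trans
        (hz _ (fun k h => by simp only [Blk.W.injEq] at h; omega)).le
      simp [levBlks, Multiset.count_replicate] at this
      first | omega | simp [this]
    · have := (hle i (.W (2 * ((i : ℕ) + 1) + 1) true)).trans (hz _ (by simp)).le
      simp [levBlks, Multiset.count_replicate] at this
      first | omega | simp [this]
  have hinj : Function.Injective g := by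
    intro M M' h
    refine Subtype.ext (Subtype.ext ((hx M).2.symm.trans (Eq.trans (congrArg build0 ?_) (hx M').2)))
    obtain ⟨a1, a2, a3⟩ := hzero M
    obtain ⟨b1, b2, b3⟩ := hzero M'
    refine Prod.ext (Fin.ext (a1.trans b1.symm)) (Prod.ext (Fin.ext (a2.trans b2.symm)) (funext fun i => ?_))
    obtain ⟨c1, c2, c3, c4⟩ := a3 i
    obtain ⟨d1, d2, d3, d4⟩ := b3 i
    exact Prod.ext (Fin.ext (c1.trans d1.symm)) (Prod.ext (Fin.ext (c2.trans d2.symm))
      (Prod.ext (Fin.ext (c3.trans d3.symm)) (Prod.ext (Fin.ext (c4.trans d4.symm)) (congrFun h i))))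
  have hval : ∀ M, z ^ (M.1.1.map Blk.wt).sum = ∏ i : Fin n, (z ^ (2 * ((i : ℕ) + 1))) ^ (g M i : ℕ) := by
    intro M
    obtain ⟨a1, a2, a3⟩ := hzero M
    rw [← (hx M).2, wt_build0, a1, a2, zero_add, zero_add, chWt]
    simp only [← pow_mul]
    rw [Finset.prod_pow_eq_pow_sum]
    refine congrArg _ (Finset.sum_congr rfl fun i _ => ?_)
    obtain ⟨c1, c2, c3, c4⟩ := a3 i
    simp [levWt, g, c1, c2, c3, c4]
  rw [Finset.sum_congr rfl fun M _ => hval M,
    show ∑ M, ∏ i : Fin n, (z ^ (2 * ((i : ℕ) + 1))) ^ (g M i : ℕ) =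
      ∑ e ∈ (Finset.univ : Finset {M : RedLab0 n // NoNode M.1}).image g,
        ∏ i : Fin n, (z ^ (2 * ((i : ℕ) + 1))) ^ (e i : ℕ) from
      (Finset.sum_image (f := fun e : Fin n → Fin (n + 1) => ∏ i : Fin n, (z ^ (2 * ((i : ℕ) + 1))) ^ (e i : ℕ))
        fun M _ M' _ h => hinj h).symm]
  refine (Finset.sum_le_sum_of_subset_of_nonneg (Finset.subset_univ _) fun e _ _ =>
    Finset.prod_nonneg fun i _ => by positivity).trans ?_
  rw [← Fintype.prod_sum (fun (i : Fin n) (e : Fin (n + 1)) => (z ^ (2 * ((i : ℕ) + 1))) ^ (e : ℕ))]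
  have := prod_geo_le (n := n) h0 h1 n
  have hP : 0 ≤ ∏ i : Fin n, ∑ e : Fin (n + 1), (z ^ (2 * ((i : ℕ) + 1))) ^ (e : ℕ) :=
    Finset.prod_nonneg fun i _ => Finset.sum_nonneg fun e _ => by positivity
  have : (0 : ℚ) ≤ 1 / 3 * (1 / 4) ^ n := by positivity
  nlinarith

end CfsgLib.ClassNumberEven
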