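import Cfsg.Agent.Lib.KnownA.ClassNumberEven.Decomp

/-!
# Character sums of quadratic forms in characteristic two
-/

set_option autoImplicit false
set_option linter.unusedSectionVars false

open Module Finset

namespace CfsgLib.ClassNumberEven

variable {F : Type*} [Field F] [CharP F 2] [Fintype F]

open _root_.Classical in
/-- The additive character of order two. -/
noncomputable def psi (a : F) : ℚ := if a ∈ (wpHom (F := F)).range then 1 else -1

theorem psi_add (a b : F) : psi (a + b) = psi a * psi b := by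
  classical
  have h := AddSubgroup.add_mem_iff_of_index_two (index_wp (F := F)) (a := a) (b := b)
  by_cases ha : a ∈ (wpHom (F := F)).range <;> by_cases hb : b ∈ (wpHom (F := F)).range <;>
    simp [psi, ha, hb, h]

theorem psi_zero : psi (0 : F) = 1 := if_pos (zero_mem _)

theorem psi_sq (a : F) : psi (a ^ 2) = psi a := by
  have h : psi (a ^ 2 + a) = 1 := if_pos ⟨a, rfl⟩
  rw [psi_add] at h
  unfold psi at h ⊢
  split_ifs at h ⊢ <;> first | rfl | norm_num at h

theorem psi_ne_zero (a : F) : psi a ≠ 0 := by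
  unfold psi; split_ifs <;> norm_num

theorem psi_delta {δ : F} (hδ : NotWp δ) : psi δ = -1 := if_neg fun ⟨t, ht⟩ => hδ t ht

variable {V : Type*} [AddCommGroup V] [Module F V] [Fintype V] {B : V →ₗ[F] V →ₗ[F] F} {Q : V → F}

/-- `Q` is a quadratic form with polar form `B`. -/
structure IsQ (B : V →ₗ[F] V →ₗ[F] F) (Q : V → F) : Prop where
  add : ∀ x y, Q (x + y) = Q x + Q y + B x y
  smul : ∀ (c : F) x, Q (c • x) = c ^ 2 * Q x

theorem IsQ.zero (h : IsQ B Q) : Q 0 = 0 := by
  rw [← zero_smul F (0 : V), h.smul]; ring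

theorem IsQ.alt (h : IsQ B Q) (x : V) : B x x = 0 := by
  have h1 := h.add x x
  rwa [add_self_of_two F, h.zero, CharTwo.add_self_eq_zero, zero_add, eq_comm] at h1

open _root_.Classical in
/-- The elements of a subspace. -/
noncomputable def elems (W : Submodule F V) : Finset V := Finset.univ.filter fun x => x ∈ W

theorem mem_elems {W : Submodule F V} {x : V} : x ∈ elems W ↔ x ∈ W := by simp [elems]

/-- The character sum of `Q` over a subspace. -/
noncomputable def gs (Q : V → F) (W : Submodule F V) : ℚ := ∑ x ∈ elems W, psi (Q x)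

theorem gs_bot (h : IsQ B Q) : gs Q (⊥ : Submodule F V) = 1 := by
  rw [gs, Finset.sum_eq_single 0]
  · rw [h.zero, psi_zero]
  · intro x hx hne
    exact absurd ((Submodule.mem_bot F).1 (mem_elems.1 hx)) hne
  · intro h0
    exact absurd (mem_elems.2 (zero_mem _)) h0

theorem gs_sup (h : IsQ B Q) {T W : Submodule F V} (hd : Disjoint T W) (ho : ∀ x ∈ T, ∀ y ∈ W, B x y = 0) :
    gs Q (T ⊔ W) = gs Q T * gs Q W := by
  rw [gs, gs, gs, Finset.sum_mul_sum, ← Finset.sum_product']
  refine (Finset.sum_nbij (fun p : V × V => p.1 + p.2) ?_ ?_ ?_ ?_).symm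
  · intro p hp
    simp only [Finset.mem_coe, Finset.mem_product, mem_elems] at hp
    exact mem_elems.2 (Submodule.add_mem_sup hp.1 hp.2)
  · intro p hp r hr he
    rw [Finset.mem_coe, Finset.mem_product, mem_elems, mem_elems] at hp hr
    have h1 : p.1 - r.1 = r.2 - p.2 := by
      rw [sub_eq_sub_iff_add_eq_add]
      exact he.trans (add_comm _ _)
    have h2 : p.1 - r.1 = 0 := Submodule.disjoint_def.1 hd _ (sub_mem hp.1 hr.1) (h1 ▸ sub_mem hr.2 hp.2)
    rw [h2, eq_comm, sub_eq_zero] at h1
    exact Prod.ext (sub_eq_zero.1 h2) h1.symm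
  · intro z hz
    obtain ⟨a, ha, b, hb, rfl⟩ := Submodule.mem_sup.1 (mem_elems.1 hz)
    exact ⟨(a, b), by rw [Finset.mem_coe, Finset.mem_product, mem_elems, mem_elems]; exact ⟨ha, hb⟩, rfl⟩
  · intro p hp
    rw [Finset.mem_product, mem_elems, mem_elems] at hp
    rw [h.add, ho _ hp.1 _ hp.2, add_zero, psi_add]

theorem gs_equiv {T T' : Submodule F V} (f : T ≃ₗ[F] T') (hf : ∀ x, Q (f x : V) = Q (x : V)) :
    gs Q T = gs Q T' := by
  classical
  have key : ∀ S : Submodule F V, gs Q S = ∑ x : S, psi (Q (x : V)) := fun S =>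
    Finset.sum_subtype (elems S) (fun x => mem_elems) fun x => psi (Q x)
  rw [key, key, ← f.toEquiv.sum_comp (fun x : T' => psi (Q (x : V)))]
  exact Finset.sum_congr rfl fun x _ => by rw [← hf]; rfl

theorem sum_functional (W : Submodule F V) (g : V →ₗ[F] F) :
    (∀ x ∈ W, g x = 0) ∨ ∑ x ∈ elems W, psi (g x) = 0 := by
  refine or_iff_not_imp_left.2 fun h => ?_
  simp only [not_forall] at h
  obtain ⟨x₀, hx₀, hne⟩ := h
  obtain ⟨δ, hδ⟩ := exists_notWp (F := F)
  set x₁ := (δ / g x₀) • x₀
  have hx₁ : g x₁ = δ := by rw [map_smul, smul_eq_mul, div_mul_cancel₀ _ hne]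
  have hmem : x₁ ∈ W := W.smul_mem _ hx₀
  have h1 : ∑ x ∈ elems W, psi (g x) = ∑ x ∈ elems W, psi (g (x + x₁)) :=
    Finset.sum_nbij' (fun x => x + x₁) (fun x => x + x₁)
      (fun x hx => mem_elems.2 (W.add_mem (mem_elems.1 hx) hmem))
      (fun x hx => mem_elems.2 (W.add_mem (mem_elems.1 hx) hmem))
      (fun x _ => by rw [add_assoc, add_self_of_two F, add_zero])
      (fun x _ => by rw [add_assoc, add_self_of_two F, add_zero])
      (fun x _ => by rw [add_assoc, add_self_of_two F, add_zero])
  simp only [map_add, hx₁, psi_add, psi_delta hδ, mul_neg, mul_one, Finset.sum_neg_distrib] at h1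
  linarith

theorem card_elems (W : Submodule F V) : ((elems W).card : ℚ) = (Fintype.card F : ℚ) ^ finrank F W := by
  classical
  rw [elems, ← Fintype.card_subtype, ← Nat.cast_pow]
  exact_mod_cast Module.card_eq_pow_finrank (K := F) (V := W)

/-- A totally singular subspace that is its own orthogonal gives the sum. -/
theorem gs_lagrangian (h : IsQ B Q) {L W : Submodule F V} (hLW : L ≤ W) (hL : ∀ x ∈ L, Q x = 0)
    (hp : W ⊓ perp B L = L) : gs Q W = (Fintype.card F : ℚ) ^ finrank F L := by
  classical
  have hshift : ∀ l ∈ elems L, ∑ x ∈ elems W, psi (Q (x + l)) = gs Q W := fun l hl => by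
    have hl' := hLW (mem_elems.1 hl)
    exact Finset.sum_nbij' (fun x => x + l) (fun x => x + l)
      (fun x hx => mem_elems.2 (W.add_mem (mem_elems.1 hx) hl'))
      (fun x hx => mem_elems.2 (W.add_mem (mem_elems.1 hx) hl'))
      (fun x _ => by rw [add_assoc, add_self_of_two F, add_zero])
      (fun x _ => by rw [add_assoc, add_self_of_two F, add_zero])
      (fun x _ => rfl)
  have h1 : ((elems L).card : ℚ) * gs Q W = ∑ x ∈ elems W, psi (Q x) * ∑ l ∈ elems L, psi (B x l) := by
    rw [← nsmul_eq_mul, ← Finset.sum_const, ← Finset.sum_congr rfl hshift, Finset.sum_comm]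
    refine Finset.sum_congr rfl fun x _ => ?_
    rw [Finset.mul_sum]
    refine Finset.sum_congr rfl fun l hl => ?_
    rw [h.add, hL l (mem_elems.1 hl), add_zero, psi_add]
  have h2 : ∀ x ∈ elems W, psi (Q x) * ∑ l ∈ elems L, psi (B x l) =
      if x ∈ L then ((elems L).card : ℚ) else 0 := by
    intro x hx
    split_ifs with hxL
    · rw [hL x hxL, psi_zero, one_mul, Finset.sum_congr rfl (g := fun _ => (1 : ℚ)) fun l hl => ?_]
      · simp
      · have : x ∈ perp B L := (hp.ge hxL).2
        rw [mem_perp.1 this l (mem_elems.1 hl), psi_zero]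
    · rcases sum_functional L (B x) with h0 | h0
      · exact absurd (hp.le ⟨mem_elems.1 hx, mem_perp.2 h0⟩) hxL
      · rw [h0, mul_zero]
  rw [Finset.sum_congr rfl h2, ← Finset.sum_filter, Finset.sum_const, nsmul_eq_mul] at h1
  have hsub : (elems W).filter (fun x => x ∈ L) = elems L := by
    ext x
    simp only [Finset.mem_filter, mem_elems]
    exact ⟨fun h => h.2, fun h => ⟨hLW h, h⟩⟩
  rw [hsub] at h1
  rw [← card_elems]
  have hne : ((elems L).card : ℚ) ≠ 0 := by
    exact_mod_cast Finset.card_ne_zero.2 ⟨0, mem_elems.2 (zero_mem _)⟩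
  exact mul_left_cancel₀ hne h1

variable [FiniteDimensional F V]

theorem finrank_perp {L W : Submodule F V} (hsym : ∀ x y, B x y = B y x) (hLW : L ≤ W) (hW : NonDeg B W) :
    finrank F (W ⊓ perp B L : Submodule F V) + finrank F L = finrank F W := by
  let g : W →ₗ[F] Module.Dual F L := B.compl₁₂ W.subtype L.subtype
  let g₀ : W →ₗ[F] Module.Dual F W := B.compl₁₂ W.subtype W.subtype
  have hg₀ : Function.Surjective g₀ :=
    (LinearMap.injective_iff_surjective_of_finrank_eq_finrank Subspace.dual_finrank_eq.symm).1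
      ((injective_iff_map_eq_zero g₀).2 fun t ht =>
        Subtype.ext (hW t t.2 fun y hy => LinearMap.congr_fun ht ⟨y, hy⟩))
  have hsurj : Function.Surjective g := by
    intro f
    obtain ⟨f', hf'⟩ := LinearMap.exists_extend f
    obtain ⟨w, hw⟩ := hg₀ (f'.comp W.subtype)
    refine ⟨w, LinearMap.ext fun l => ?_⟩
    have h1 : B (w : V) (l : V) = f' (l : V) := LinearMap.congr_fun hw ⟨l, hLW l.2⟩
    exact h1.trans (LinearMap.congr_fun hf' l)
  have hker : (LinearMap.ker g).map W.subtype = W ⊓ perp B L := by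
    ext x
    constructor
    · rintro ⟨w, hw, rfl⟩
      exact ⟨w.2, mem_perp.2 fun l hl => LinearMap.congr_fun hw ⟨l, hl⟩⟩
    · rintro ⟨hxW, hxp⟩
      exact ⟨⟨x, hxW⟩, LinearMap.ext fun l => mem_perp.1 hxp l l.2, rfl⟩
  have h := LinearMap.finrank_range_add_finrank_ker g
  rw [LinearMap.range_eq_top.2 hsurj, finrank_top, Subspace.dual_finrank_eq] at h
  rw [← hker, ← (Submodule.equivMapOfInjective _ W.subtype_injective _).finrank_eq]
  omega

/-- A totally singular subspace of half the dimension gives the sum. -/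
theorem gs_half (h : IsQ B Q) (hsym : ∀ x y, B x y = B y x) {L W : Submodule F V} (hW : NonDeg B W) (hLW : L ≤ W)
    (hL : ∀ x ∈ L, Q x = 0) (hdim : finrank F W = 2 * finrank F L) :
    gs Q W = (Fintype.card F : ℚ) ^ finrank F L := by
  refine gs_lagrangian h hLW hL (Submodule.eq_of_le_of_finrank_le ?_ ?_).symm
  · refine fun x hx => ⟨hLW hx, mem_perp.2 fun y hy => ?_⟩
    have h1 := h.add x y
    rw [hL x hx, hL y hy, hL _ (add_mem hx hy), zero_add, zero_add] at h1
    exact h1.symm
  · have := finrank_perp hsym hLW hW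
    omega

theorem singular_span (h : IsQ B Q) {ι : Type*} (v : ι → V) (hQ : ∀ i, Q (v i) = 0)
    (hB : ∀ i j, B (v i) (v j) = 0) : ∀ x ∈ Submodule.span F (Set.range v), Q x = 0 := by
  have hiso : ∀ x ∈ Submodule.span F (Set.range v), ∀ i, B x (v i) = 0 := by
    intro x hx i
    induction hx using Submodule.span_induction with
    | mem x hx => obtain ⟨j, rfl⟩ := hx; exact hB j i
    | zero => simp
    | add x y _ _ hx hy => rw [map_add, LinearMap.add_apply, hx, hy, add_zero]
    | smul c x _ hx => rw [map_smul, LinearMap.smul_apply, hx, smul_zero]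
  intro x hx
  induction hx using Submodule.span_induction with
  | mem x hx => obtain ⟨j, rfl⟩ := hx; exact hQ j
  | zero => exact h.zero
  | add x y hx' hy' hx hy =>
    rw [h.add, hx, hy, zero_add, zero_add]
    clear hy hx
    induction hy' using Submodule.span_induction with
    | mem y hy => obtain ⟨j, rfl⟩ := hy; exact hiso x hx' j
    | zero => simp
    | add y z _ _ hy hz => rw [map_add, hy, hz, add_zero]
    | smul c y _ hy => rw [map_smul, hy, smul_zero]
  | smul c x _ hx => rw [h.smul, hx, mul_zero]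

theorem gs_two (h : IsQ B Q) {a b : V} {c : F} (hc : NotWp c) (ha : Q a = c) (hb : Q b = 1) (hab : B a b = 1) :
    gs Q (Submodule.span F (Set.range ![a, b])) = -(Fintype.card F : ℚ) := by
  classical
  let φ : F × F → V := fun p => p.1 • a + p.2 • b
  have hinj : Function.Injective φ := by
    intro p r he
    have h1 := congrArg (fun x => B x b) he
    have h2 := congrArg (fun x => B a x) he
    simp only [φ, map_add, map_smul, LinearMap.add_apply, LinearMap.smul_apply, smul_eq_mul, h.alt, hab, mul_one,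
      mul_zero, add_zero, zero_add] at h1 h2
    exact Prod.ext h1 h2
  have himg : elems (Submodule.span F (Set.range ![a, b])) = Finset.univ.image φ := by
    ext x
    rw [mem_elems, Submodule.mem_span_range_iff_exists_fun, Finset.mem_image]
    constructor
    · rintro ⟨e, rfl⟩
      exact ⟨(e 0, e 1), Finset.mem_univ _, by simp [φ, Fin.sum_univ_two]⟩
    · rintro ⟨p, -, rfl⟩
      exact ⟨![p.1, p.2], by simp [φ, Fin.sum_univ_two]⟩
  rw [gs, himg, Finset.sum_image fun p _ r _ he => hinj he, Fintype.sum_prod_type]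
  have hQv : ∀ x y : F, psi (Q (φ (x, y))) = psi (x ^ 2 * c + x * y + y ^ 2) := fun x y => by
    congr 1
    simp only [φ, h.add, h.smul, ha, hb, map_smul, LinearMap.smul_apply, smul_eq_mul, hab]
    ring
  simp only [hQv]
  obtain ⟨δ, hδ⟩ := exists_notWp (F := F)
  have inner : ∀ x : F, ∑ y : F, psi (x ^ 2 * c + x * y + y ^ 2) =
      if x = 1 then psi c * (Fintype.card F : ℚ) else 0 := by
    intro x
    simp only [psi_add, psi_sq]
    have e : ∀ y : F, psi (x ^ 2 * c) * psi (x * y) * psi y = psi (x ^ 2 * c) * psi ((x + 1) * y) := fun y => by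
      rw [add_mul, one_mul, psi_add, mul_assoc]
    simp only [e, ← Finset.mul_sum]
    split_ifs with hx
    · subst hx
      simp [CharTwo.add_self_eq_zero, psi_zero]
    · have hne : x + 1 ≠ 0 := fun h0 => hx (CharTwo.add_eq_zero.1 h0)
      rw [show ∑ i, psi ((x + 1) * i) = ∑ i, psi i from Equiv.sum_comp (Equiv.mulLeft₀ (x + 1) hne) psi]
      have hs : ∑ y : F, psi y = ∑ y : F, psi (y + δ) := (Equiv.sum_comp (Equiv.addRight δ) psi).symm
      simp only [psi_add, psi_delta hδ, mul_neg, mul_one, Finset.sum_neg_distrib] at hs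
      rw [show ∑ y : F, psi y = 0 by linarith, mul_zero]
  simp only [inner, Finset.sum_ite_eq', Finset.mem_univ, if_true, psi_delta hc, neg_mul, one_mul]

/-- The contribution of one bit. -/
def bitSign (b : Bool) : ℚ := if b then -1 else 1

/-- The sign of a multiset of blocks. -/
def blkSign (M : Multiset Blk) : ℚ := (M.map fun b => bitSign b.bit).prod

variable {u : V ≃ₗ[F] V}

theorem gs_block (S : Setting B u Q 0) {δ : F} (hδ : NotWp δ) {b : Blk} {T : Submodule F V}
    (hblk : IsBlk B u Q 0 δ b T) : gs Q T = bitSign b.bit * (Fintype.card F : ℚ) ^ b.wt := by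
  classical
  have h : IsQ B Q := ⟨S.qadd rfl, S.qsmul rfl⟩
  have hsym := S.toIsoAlt.symm
  obtain ⟨-, hTi, hTn, hTd⟩ := hblk.props S zero_le_one
  have hQn : ∀ (s : ℕ) (x : V), Q ((nOp u ^ s) x) = tower B u Q s x := fun s x => by
    have := tower_n_pow S (j := 0) le_rfl s x
    rwa [zero_add] at this
  -- an anisotropic pair with singular vectors orthogonal to it
  have split : ∀ {ι : Type} [Fintype ι] (v : ι → V) (a c : V), LinearIndependent F v → (∀ i, v i ∈ T) → a ∈ T →
      c ∈ T → Q a = δ → Q c = 1 → B a c = 1 → (∀ i, Q (v i) = 0) → (∀ i j, B (v i) (v j) = 0) →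
      (∀ i, B (v i) a = 0 ∧ B (v i) c = 0) → finrank F T = 2 * Fintype.card ι + 2 →
      gs Q T = -(Fintype.card F : ℚ) ^ (Fintype.card ι + 1) := by
    intro ι _ v a c hli hv ha hc hQa hQc hac hQv hBv hperp hd
    set P := Submodule.span F (Set.range ![a, c]) with hP
    have haP : a ∈ P := Submodule.subset_span ⟨0, rfl⟩
    have hcP : c ∈ P := Submodule.subset_span ⟨1, rfl⟩
    have hPT : P ≤ T := Submodule.span_le.2 (by
      rintro _ ⟨i, rfl⟩
      fin_cases i
      · exact ha
      · exact hc)
    have hPn : NonDeg B P := by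
      intro z hz hz0
      obtain ⟨e, rfl⟩ := (Submodule.mem_span_range_iff_exists_fun F).1 hz
      have h1 := hz0 a haP
      have h2 := hz0 c hcP
      simp [Fin.sum_univ_two, h.alt, hac, hsym c a] at h1 h2
      simp [Fin.sum_univ_two, h1, h2]
    have hdP : finrank F P = 2 := by
      rw [hP, finrank_span_eq_card, Fintype.card_fin]
      refine Fintype.linearIndependent_iff.2 fun e he i => ?_
      have h1 := congrArg (fun z => B z a) he
      have h2 := congrArg (fun z => B z c) he
      simp [Fin.sum_univ_two, h.alt, hac, hsym c a] at h1 h2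
      fin_cases i <;> assumption
    set T' := T ⊓ perp B P with hT'
    have hmem' : ∀ z ∈ T', z ∈ T ∧ ∀ p ∈ P, B z p = 0 := fun z hz => ⟨hz.1, mem_perp.1 hz.2⟩
    have hdT' : finrank F T' + 2 = finrank F T := by rw [← hdP]; exact finrank_perp hsym hPT hTn
    have hdisj : Disjoint P T' := Submodule.disjoint_def.2 fun z hz hz' =>
      hPn z hz fun p hp => (hmem' z hz').2 p hp
    have hsup : P ⊔ T' = T := Submodule.eq_of_le_of_finrank_le (sup_le hPT inf_le_left) (by
      have := Submodule.finrank_sup_add_finrank_inf_eq P T'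
      rw [hdisj.eq_bot, finrank_bot] at this
      omega)
    have hT'n : NonDeg B T' := fun z hz hz0 => hTn z (hmem' z hz).1 fun y hy => by
      rw [← hsup] at hy
      obtain ⟨p, hp, w, hw, rfl⟩ := Submodule.mem_sup.1 hy
      rw [map_add, (hmem' z hz).2 p hp, hz0 w hw, add_zero]
    have hvT' : Submodule.span F (Set.range v) ≤ T' := Submodule.span_le.2 (by
      rintro _ ⟨i, rfl⟩
      refine ⟨hv i, mem_perp.2 fun p hp => ?_⟩
      obtain ⟨e, rfl⟩ := (Submodule.mem_span_range_iff_exists_fun F).1 hp
      simp [Fin.sum_univ_two, (hperp i).1, (hperp i).2])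
    have hdv := finrank_span_eq_card hli
    have h2 := gs_half h hsym hT'n hvT' (singular_span h v hQv hBv) (by omega)
    rw [← hsup, gs_sup h hdisj (fun x hx y hy => by rw [hsym]; exact (hmem' y hy).2 x hx),
      gs_two h hδ hQa hQc hac, h2, hdv, pow_succ]
    ring
  have half : ∀ {ι : Type} [Fintype ι] (v : ι → V), LinearIndependent F v → (∀ i, v i ∈ T) →
      (∀ i, Q (v i) = 0) → (∀ i j, B (v i) (v j) = 0) → finrank F T = 2 * Fintype.card ι →
      gs Q T = (Fintype.card F : ℚ) ^ Fintype.card ι := by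
    intro ι _ v hli hv hQv hBv hd
    rw [gs_half h hsym hTn (Submodule.span_le.2 (by rintro _ ⟨i, rfl⟩; exact hv i)) (singular_span h v hQv hBv)
      (by rw [finrank_span_eq_card hli]; exact hd), finrank_span_eq_card hli]
  cases b with
  | V k bit =>
    obtain ⟨hok, x, rfl, hx⟩ := hblk
    obtain ⟨k, rfl⟩ : ∃ j, k = j + 1 := ⟨k - 1, by have := hok.1; omega⟩
    simp only [Blk.wt] at hTd
    have hM := v_matrix S.toIsoAlt (e := 2 * (k + 1)) (by omega) hx.1 (vstd_top S zero_le_one hok.1 hx)
    have hli : LinearIndependent F (fun p : Fin 1 × Fin (2 * (k + 1)) => (nOp u ^ (p.2 : ℕ)) (![x] p.1)) :=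
      Fintype.linearIndependent_iff.2 fun c hc p => congrFun (coord_eq_zero S.toIsoAlt
        (fun a => by fin_cases a; exact hx.1) hM c hc (fun y _ => by rw [map_zero, LinearMap.zero_apply])) p
    have hxT : x ∈ orb u ![x] := by simpa using mem_orb u ![x] 0
    have hmT : ∀ s, (nOp u ^ s) x ∈ orb u ![x] := fun s => (inv_orb u _).n_pow s hxT
    have hz : ∀ s t, 2 * (k + 1) ≤ s + t → B ((nOp u ^ s) x) ((nOp u ^ t) x) = 0 :=
      fun s t => (top_pairing S.toIsoAlt hx.1).1
    have hv0 : ∀ s, k + 2 ≤ s → Q ((nOp u ^ s) x) = 0 := fun s hs => by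
      rw [hQn, hx.2 s (Nat.zero_le _), if_neg (by omega), if_neg (by omega)]
    have hQa : Q ((nOp u ^ k) x) = if bit = true then δ else 0 := by
      rw [hQn, hx.2 k (Nat.zero_le _), if_neg (by omega)]
      simp
    cases bit with
    | false =>
      let σ : Option (Fin k) → Fin 1 × Fin (2 * (k + 1)) := fun i =>
        (0, i.elim ⟨k, by omega⟩ fun j => ⟨k + 2 + j, by omega⟩)
      have hσ : Function.Injective σ := by
        intro i j hij
        simp only [σ, Prod.mk.injEq, true_and] at hij
        rcases i with _ | i <;> rcases j with _ | j <;> simp [Fin.ext_iff] at hij ⊢ <;> omega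
      have := half (fun i => (nOp u ^ ((σ i).2 : ℕ)) (![x] (σ i).1)) (hli.comp σ hσ)
        (fun i => by simpa [σ] using hmT _) (fun i => by
          rcases i with _ | i
          · simpa [σ] using hQa
          · simpa [σ] using hv0 _ (by omega))
        (fun i j => by
          rcases i with _ | i <;> rcases j with _ | j <;> simp [σ]
          · exact h.alt _
          all_goals exact hz _ _ (by omega))
        (by rw [hTd]; simp)
      simpa [bitSign, Blk.bit, Blk.wt] using this
    | true =>
      let σ : Fin k → Fin 1 × Fin (2 * (k + 1)) := fun j => (0, ⟨k + 2 + j, by omega⟩)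
      have hσ : Function.Injective σ := by
        intro i j hij
        simp [σ, Fin.ext_iff] at hij ⊢
        omega
      have := split (fun i => (nOp u ^ ((σ i).2 : ℕ)) (![x] (σ i).1)) ((nOp u ^ k) x) ((nOp u ^ (k + 1)) x)
        (hli.comp σ hσ) (fun i => by simpa [σ] using hmT _) (hmT _) (hmT _) (by simpa using hQa)
        (by rw [hQn, hx.2 _ (Nat.zero_le _), if_pos rfl])
        (by rw [(top_pairing S.toIsoAlt hx.1).2 (by omega), hsym]; exact vstd_top S zero_le_one hok.1 hx)
        (fun i => by simpa [σ] using hv0 _ (by omega))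
        (fun i j => by simp [σ]; exact hz _ _ (by omega))
        (fun i => ⟨by simp [σ]; exact hz _ _ (by omega), by simp [σ]; exact hz _ _ (by omega)⟩)
        (by rw [hTd]; simp; omega)
      simpa [bitSign, Blk.bit, Blk.wt] using this
  | W e bit =>
    obtain ⟨hok, x, y, rfl, hx⟩ := hblk
    simp only [Blk.wt] at hTd
    obtain ⟨t1, t2, t3⟩ := wstd_top S zero_le_one hok.1 hx
    have hM := w_matrix S.toIsoAlt hok.1 hx.1 hx.2.1 t1 t2 t3
    have hli : LinearIndependent F (fun p : Fin 2 × Fin e => (nOp u ^ (p.2 : ℕ)) (![x, y] p.1)) :=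
      Fintype.linearIndependent_iff.2 fun c hc p => congrFun (coord_eq_zero S.toIsoAlt
        (fun a => by
          fin_cases a
          · exact hx.1
          · exact hx.2.1) hM c hc (fun y _ => by rw [map_zero, LinearMap.zero_apply])) p
    have hxT : x ∈ orb u ![x, y] := by simpa using mem_orb u ![x, y] 0
    have hyT : y ∈ orb u ![x, y] := by simpa using mem_orb u ![x, y] 1
    cases bit with
    | false =>
      have hq : ∀ s, Q ((nOp u ^ s) x) = 0 := fun s => by
        rw [hQn, (hx.2.2.2 s (Nat.zero_le _)).1, if_neg (by simp)]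
      have hiso : ∀ z ∈ orb u ![x], ∀ w ∈ orb u ![x], B z w = 0 := by
        intro z hz w hw
        have h0 : ∀ i j, B ((u.toLinearMap ^ i) x) ((u.toLinearMap ^ j) x) = 0 := fun i j => by
          rw [self_table_pair (Q := Q) (x := (0 : V)) S.toIsoAlt S.toIsoAlt (fun m => ?_) i j]
          · simp
          · rw [tower_zero_apply S (Nat.zero_le _), (hx.2.2.2 _ (Nat.zero_le _)).1, if_neg (by simp)]
        induction hz using Submodule.span_induction with
        | mem z hz =>
          obtain ⟨p, rfl⟩ := hz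
          induction hw using Submodule.span_induction with
          | mem w hw =>
            obtain ⟨r, rfl⟩ := hw
            simpa using h0 p.2 r.2
          | zero => simp
          | add a b _ _ ha hb => rw [map_add, ha, hb, add_zero]
          | smul c a _ ha => rw [map_smul, ha, smul_zero]
        | zero => simp
        | add a b _ _ ha hb => rw [map_add, LinearMap.add_apply, ha, hb, add_zero]
        | smul c a _ ha => rw [map_smul, LinearMap.smul_apply, ha, smul_zero]
      let σ : Fin e → Fin 2 × Fin e := fun s => (0, s)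
      have hx1 : x ∈ orb u ![x] := by simpa using mem_orb u ![x] 0
      have := half (fun i => (nOp u ^ ((σ i).2 : ℕ)) (![x, y] (σ i).1))
        (hli.comp σ (fun i j hij => by simpa [σ] using hij)) (fun i => by simpa [σ] using (inv_orb u _).n_pow _ hxT)
        (fun i => by simpa [σ] using hq _)
        (fun i j => by simpa [σ] using hiso _ ((inv_orb u _).n_pow _ hx1) _ ((inv_orb u _).n_pow _ hx1))
        (by rw [hTd]; simp)
      simpa [bitSign, Blk.bit, Blk.wt] using this
    | true =>
      obtain ⟨k, rfl, -⟩ := hok.2 rfl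
      let σ : Fin 2 × Fin k → Fin 2 × Fin (2 * k + 1) := fun p => (p.1, ⟨k + 1 + p.2, by omega⟩)
      have hσ : Function.Injective σ := by
        intro i j hij
        simp only [σ, Prod.mk.injEq, Fin.ext_iff] at hij
        exact Prod.ext (Fin.ext hij.1) (Fin.ext (by omega))
      have hz : ∀ (a b : Fin 2) s t, 2 * k + 1 ≤ s + t →
          B ((nOp u ^ s) (![x, y] a)) ((nOp u ^ t) (![x, y] b)) = 0 := fun a b s t =>
        (top_pairing S.toIsoAlt (by fin_cases b; exact hx.1; exact hx.2.1)).1
      have hv0 : ∀ (a : Fin 2) s, k + 1 ≤ s → Q ((nOp u ^ s) (![x, y] a)) = 0 := fun a s hs => by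
        fin_cases a
        · simp only [Fin.zero_eta, Matrix.cons_val_zero]
          rw [hQn, (hx.2.2.2 s (Nat.zero_le _)).1, if_neg (by simp; omega)]
        · simp only [Fin.mk_one, Matrix.cons_val_one, Matrix.cons_val_fin_one]
          rw [hQn, (hx.2.2.2 s (Nat.zero_le _)).2, if_neg (by simp; omega)]
      have hmT : ∀ (a : Fin 2) s, (nOp u ^ s) (![x, y] a) ∈ orb u ![x, y] := fun a s =>
        (inv_orb u _).n_pow s (mem_orb u ![x, y] a)
      have := split (fun p => (nOp u ^ ((σ p).2 : ℕ)) (![x, y] (σ p).1)) ((nOp u ^ k) y) ((nOp u ^ k) x)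
        (hli.comp σ hσ) (fun i => hmT _ _) (by simpa using hmT 1 k) (by simpa using hmT 0 k)
        (by rw [hQn, (hx.2.2.2 k (Nat.zero_le _)).2, if_pos ⟨rfl, rfl⟩])
        (by rw [hQn, (hx.2.2.2 k (Nat.zero_le _)).1, if_pos ⟨rfl, rfl⟩])
        (by rw [hsym, cross_n S.toIsoAlt hx.2.1 (by omega), if_pos (by omega)]; exact t3)
        (fun i => hv0 _ _ (by simp [σ]))
        (fun i j => hz _ _ _ _ (by simp [σ]; omega))
        (fun i => ⟨by simpa using hz (σ i).1 1 ((σ i).2 : ℕ) k (by simp [σ]; omega),
          by simpa using hz (σ i).1 0 ((σ i).2 : ℕ) k (by simp [σ]; omega)⟩)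
        (by rw [hTd]; simp; omega)
      simpa [bitSign, Blk.bit, Blk.wt] using this

theorem gs_dec (S : Setting B u Q 0) {δ : F} (hδ : NotWp δ) {W : Submodule F V} {M : Multiset Blk}
    (hd : Dec B u Q 0 δ W M) : gs Q W = blkSign M * (Fintype.card F : ℚ) ^ (M.map Blk.wt).sum := by
  have h : IsQ B Q := ⟨S.qadd rfl, S.qsmul rfl⟩
  induction hd with
  | nil => simp [gs_bot h, blkSign]
  | @cons T W b M hb hd ho ih =>
    have hTn := (hb.props S zero_le_one).2.2.1
    rw [gs_sup h (Submodule.disjoint_def.2 fun z hz hz' => hTn z hz fun t ht => ?_) ho, gs_block S hδ hb, ih]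
    · simp only [blkSign, Multiset.map_cons, Multiset.prod_cons, Multiset.sum_cons, pow_add]
      ring
    · rw [S.symm]; exact ho t ht z hz'

end CfsgLib.ClassNumberEven
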