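import Cfsg.Agent.Lib.KnownA.ClassNumberEven.Regular

/-!
# Conjugacy classes are determined by blocks and tuples
-/

set_option autoImplicit false
set_option linter.unusedSectionVars false

open Module Polynomial

namespace CfsgLib.ClassNumberEven

open CfsgLib.ClassNumberGL CfsgLib.Classical

attribute [local instance] CfsgLib.ClassNumberGL.Decomp.fι

variable {F : Type*} [Field F] [CharP F 2] {V : Type*} [AddCommGroup V] [Module F V] [FiniteDimensional F V]
  {B : V →ₗ[F] V →ₗ[F] F} {u u' : V ≃ₗ[F] V}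

/-- The restriction to the part without eigenvalue one. -/
noncomputable def resReg (u : V ≃ₗ[F] V) : regS u ≃ₗ[F] regS u :=
  LinearEquiv.ofLinearMap (u.toLinearMap.restrict (inv_regS u))
    (u.symm.toLinearMap.restrict fun _ hx => (inv_regS u).symm hx)
    (LinearMap.ext fun v => Subtype.ext (u.apply_symm_apply _))
    (LinearMap.ext fun v => Subtype.ext (u.symm_apply_apply _))

theorem resReg_apply (u : V ≃ₗ[F] V) (x : regS u) : (resReg u x : V) = u x := rfl

theorem resReg_symm_apply (u : V ≃ₗ[F] V) (x : regS u) : ((resReg u).symm x : V) = u.symm x := rfl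

/-- The form in coordinates of the part without eigenvalue one. -/
noncomputable def formReg (B : V →ₗ[F] V →ₗ[F] F) {r : ℕ} (ψ : (Fin r → F) ≃ₗ[F] regS u) :
    (Fin r → F) →ₗ[F] (Fin r → F) →ₗ[F] F :=
  B.compl₁₂ ((regS u).subtype ∘ₗ ψ.toLinearMap) ((regS u).subtype ∘ₗ ψ.toLinearMap)

/-- The isometry in coordinates. -/
noncomputable def onReg (H : IsoAlt B u) {r : ℕ} (ψ : (Fin r → F) ≃ₗ[F] regS u) :
    isomGroup (formReg B ψ) :=
  ⟨ψ.trans ((resReg u).trans ψ.symm), fun v w => by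
    show B (ψ (ψ.symm (resReg u (ψ v))) : V) (ψ (ψ.symm (resReg u (ψ w))) : V) = B (ψ v : V) (ψ w : V)
    rw [ψ.apply_symm_apply, ψ.apply_symm_apply, resReg_apply, resReg_apply, H.iso]⟩

theorem onReg_apply (H : IsoAlt B u) {r : ℕ} (ψ : (Fin r → F) ≃ₗ[F] regS u) (v : Fin r → F) :
    ψ ((onReg H ψ).1 v) = resReg u (ψ v) := ψ.apply_symm_apply _

/-- Padding a tuple by ones. -/
noncomputable def pad {r : ℕ} (N : ℕ) (b : Fin r → F[X]) (i : Fin N) : F[X] :=
  if h : (i : ℕ) < r then b ⟨i, h⟩ else 1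

variable [Fintype F]

/-- The label of an isometry. -/
def Spec (H : IsoAlt B u) (Q : V → F) (lo : ℕ) (δ : F) (n : ℕ) (M : Multiset Blk) (b : Fin (2 * n) → F[X]) :
    Prop :=
  Dec B u Q lo δ (eigS u) M ∧
    ∃ ψ : (Fin (2 * (n - (M.map Blk.wt).sum)) → F) ≃ₗ[F] regS u,
      b = pad (2 * n) (ClassNumberForm.tupOf (onReg H ψ))

theorem setting_of (H : IsoAlt B u) : Setting B u (fun _ => (0 : F)) 1 :=
  ⟨H, fun h => absurd h one_ne_zero, fun h => absurd h one_ne_zero, fun h => absurd h one_ne_zero⟩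

theorem exists_spec {Q : V → F} {lo : ℕ} (S : Setting B u Q lo) (hlo : lo ≤ 1) (hN : ∀ v, (∀ w, B w v = 0) → v = 0) {δ : F} (hδ : NotWp δ) {n : ℕ}
    (hdim : finrank F V = 2 * n) :
    ∃ M b, Red lo M ∧ (M.map Blk.wt).sum ≤ n ∧ (∀ i, Pal (b i)) ∧
      ∑ i : Fin (2 * n), ((i : ℕ) + 1) * (b i).natDegree = 2 * (n - (M.map Blk.wt).sum) ∧
        Spec S.toIsoAlt Q lo δ n M b := by
  classical
  have H := S.toIsoAlt
  obtain ⟨hne, hnr⟩ := nonDeg_parts H hN
  obtain ⟨M, hM, hR⟩ := exists_red S hlo hδ _ (eigS u) rfl (inv_eigS u) hne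
    ⟨finrank F V, fun x hx => hx⟩
  have hd := (hM.props S hlo).2.2.1
  have hsum := Submodule.finrank_add_eq_of_isCompl (isCompl_eig_reg u)
  set w := (M.map Blk.wt).sum
  have hle : w ≤ n := by omega
  have hr : finrank F (regS u) = 2 * (n - w) := by omega
  let ψ : (Fin (2 * (n - w)) → F) ≃ₗ[F] regS u := ((finBasisOfFinrankEq F (regS u) hr).equivFun).symm
  have hN' : ∀ v, (∀ z, formReg B ψ z v = 0) → v = 0 := by
    intro v hv
    refine ψ.injective ((Subtype.ext (hnr _ (ψ v).2 fun y hy => ?_)).trans (map_zero ψ).symm)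
    obtain ⟨z, hz⟩ := ψ.surjective ⟨y, hy⟩
    rw [H.symm]
    have := hv z
    simp only [formReg, LinearMap.compl₁₂_apply, LinearMap.comp_apply, LinearEquiv.coe_coe,
      Submodule.coe_subtype, hz] at this
    exact this
  have hfix : ∀ v, (onReg H ψ).1 v = v → v = 0 := by
    intro v hv
    have h1 : u (ψ v : V) = (ψ v : V) := by rw [← resReg_apply, ← onReg_apply H ψ v, hv]
    refine ψ.injective ((Subtype.ext (reg_inj u (ψ v).2 ?_)).trans (map_zero ψ).symm)
    rw [mOp_apply, h1, show u.symm (ψ v : V) = (ψ v : V) from u.symm_apply_eq.2 h1.symm, add_self_of_two F]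
  set t := ClassNumberForm.tupOf (onReg H ψ)
  have hpal := tup_pal hN' (onReg H ψ) hfix
  have hts := (tup_mem (ClassNumberForm.isUnit_matOf (onReg H ψ))
    (exists_decomp (ClassNumberForm.matOf (onReg H ψ))).some).2
  refine ⟨M, pad (2 * n) t, hR, hle, fun i => ?_, ?_, hM, ψ, rfl⟩
  · rw [pad]
    split_ifs with h
    · exact hpal _
    · exact ⟨monic_one, by simp, fun i hi => by rw [natDegree_one, Nat.le_zero] at hi; simp [hi], by simp⟩
  · have key : ∀ i : ℕ, i < 2 * n → (if h : i < 2 * n then ((i + 1) * (pad (2 * n) t ⟨i, h⟩).natDegree) else 0) =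
        if h : i < 2 * (n - w) then (i + 1) * (t ⟨i, h⟩).natDegree else 0 := by
      intro i hi
      rw [dif_pos hi, pad]
      split_ifs <;> simp
    conv_rhs => rw [← hts]
    rw [← Finset.sum_range (fun i => if h : i < 2 * n then (i + 1) * (pad (2 * n) t ⟨i, h⟩).natDegree else 0)
      |>.trans (Finset.sum_congr rfl fun i _ => by rw [dif_pos i.2]),
      ← Finset.sum_range (fun i => if h : i < 2 * (n - w) then (i + 1) * (t ⟨i, h⟩).natDegree else 0)
      |>.trans (Finset.sum_congr rfl fun i _ => by rw [dif_pos i.2]; rfl),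
      Finset.sum_congr rfl fun i hi => key i (Finset.mem_range.1 hi)]
    exact (Finset.sum_subset (Finset.range_subset_range.2 (by omega)) fun i _ hi =>
      dif_neg (by simpa using hi)).symm

/-- The operator `n` is bijective on the part without eigenvalue one. -/
theorem exists_n_preimage (u : V ≃ₗ[F] V) {x : V} (hx : x ∈ regS u) : ∃ y ∈ regS u, nOp u y = x := by
  have hm : ∀ y ∈ regS u, nOp u y ∈ regS u := fun y hy => (inv_regS u).n hy
  have hinj : Function.Injective ((nOp u).restrict hm) := (injective_iff_map_eq_zero _).2 fun y hy =>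
    Subtype.ext (reg_inj u y.2 (by
      have hy' : nOp u (y : V) = 0 := congrArg Subtype.val hy
      rw [m_eq, Module.End.mul_apply, Module.End.mul_apply, hy', map_zero, map_zero]))
  obtain ⟨y, hy⟩ := LinearMap.injective_iff_surjective.1 hinj ⟨x, hx⟩
  exact ⟨y, y.2, congrArg Subtype.val hy⟩

/-- Equal tuples give an intertwining isometry of the parts without eigenvalue one. -/
theorem reg_equiv {Q : V → F} {lo : ℕ} (S : Setting B u Q lo) (S' : Setting B u' Q lo)
    (hN : ∀ v, (∀ w, B w v = 0) → v = 0) {n w : ℕ} (ψ : (Fin (2 * (n - w)) → F) ≃ₗ[F] regS u)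
    (ψ' : (Fin (2 * (n - w)) → F) ≃ₗ[F] regS u')
    (hb : pad (2 * n) (ClassNumberForm.tupOf (onReg S.toIsoAlt ψ)) =
      pad (2 * n) (ClassNumberForm.tupOf (onReg S'.toIsoAlt ψ'))) :
    Equiv' B Q lo u u' (regS u) (regS u') := by
  classical
  have H := S.toIsoAlt
  have H' := S'.toIsoAlt
  have htup : ClassNumberForm.tupOf (onReg S.toIsoAlt ψ) = ClassNumberForm.tupOf (onReg S'.toIsoAlt ψ') := by
    funext i
    have := congrFun hb ⟨i, by omega⟩
    simpa [pad, i.2] using this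
  obtain ⟨e₀, he₀⟩ := intertwine_of_tup _ _ htup
  obtain ⟨-, hnr⟩ := nonDeg_parts H hN
  obtain ⟨-, hnr'⟩ := nonDeg_parts H' hN
  let e : regS u ≃ₗ[F] regS u' := ψ.symm.trans (e₀.trans ψ')
  have he : ∀ v, e (resReg u v) = resReg u' (e v) := by
    intro v
    obtain ⟨z, rfl⟩ := ψ.surjective v
    simp only [e, LinearEquiv.trans_apply, ← onReg_apply S.toIsoAlt ψ z, ψ.symm_apply_apply]
    have := he₀ z
    rw [ClassNumberForm.matOf_apply, ClassNumberForm.matOf_apply] at this
    rw [this, onReg_apply]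
  obtain ⟨g, hg, hgu⟩ := exists_intertwine_even (B := B.compl₁₂ (regS u').subtype (regS u').subtype)
    (B' := B.compl₁₂ (regS u).subtype (regS u).subtype) (x := resReg u) (y := resReg u')
    ⟨fun v => H'.alt _, fun v w => H'.iso _ _⟩ ⟨fun v => H.alt _, fun v w => H.iso _ _⟩
    (fun v hv => Subtype.ext (hnr' v v.2 fun y hy => by rw [H'.symm]; exact hv ⟨y, hy⟩))
    (fun v hv => Subtype.ext (hnr v v.2 fun y hy => by rw [H.symm]; exact hv ⟨y, hy⟩))
    ((injective_iff_map_eq_zero _).2 fun v hv => Subtype.ext (reg_inj u v.2 (congrArg Subtype.val hv)))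
    e he
  refine ⟨g, hg, fun h0 x => ?_, fun x hx => congrArg Subtype.val (hgu x)⟩
  have hg' : ∀ x y : regS u, B (g x : V) (g y : V) = B (x : V) (y : V) := hg
  obtain ⟨y, hy, hyx⟩ := exists_n_preimage u x.2
  have hxy : x = resReg u ⟨y, hy⟩ + ⟨y, hy⟩ := Subtype.ext hyx.symm
  have e1 : Q (g x : V) = B (u' (g ⟨y, hy⟩ : V)) (g ⟨y, hy⟩ : V) := by
    rw [hxy, map_add, hgu, Submodule.coe_add, S'.qadd h0, resReg_apply, S'.qinv h0, CharTwo.add_self_eq_zero,
      zero_add]
  have e2 : Q (x : V) = B (u y) y := by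
    rw [← hyx, nOp_apply, S.qadd h0, S.qinv h0, CharTwo.add_self_eq_zero, zero_add]
  rw [e1, e2, ← resReg_apply, ← hgu, hg']
  rfl

/-- Isometries with the same label are conjugate. -/
theorem exists_intertwine_of_spec {Q : V → F} {lo : ℕ} (S : Setting B u Q lo) (S' : Setting B u' Q lo)
    (hlo : lo ≤ 1) (hN : ∀ v, (∀ w, B w v = 0) → v = 0)
    {δ : F} {n : ℕ} {M : Multiset Blk} {b : Fin (2 * n) → F[X]}
    (h : Spec S.toIsoAlt Q lo δ n M b) (h' : Spec S'.toIsoAlt Q lo δ n M b) :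
    ∃ f : V ≃ₗ[F] V, (∀ v w, B (f v) (f w) = B v w) ∧ (lo = 0 → ∀ v, Q (f v) = Q v) ∧
      ∀ v, f (u v) = u' (f v) := by
  classical
  obtain ⟨hM, ψ, hb⟩ := h
  obtain ⟨hM', ψ', hb'⟩ := h'
  have h1 := hM.equiv S S' hlo hM'
  have h2 := reg_equiv S S' hN ψ ψ' (hb.symm.trans hb')
  have hnd : ∀ (v : V ≃ₗ[F] V), NonDeg B (eigS v ⊔ regS v) := fun v => by
    rw [(isCompl_eig_reg v).sup_eq_top]
    exact fun x _ h => hN x fun w => by rw [S.symm]; exact h w Submodule.mem_top
  have h3 := equiv_sup S S' (inv_eigS u) (inv_regS u) (hnd u) (hnd u')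
    (fun x hx y hy => orth_eig_reg S.toIsoAlt hx hy) (fun x hx y hy => orth_eig_reg S'.toIsoAlt hx hy) h1 h2
  rw [(isCompl_eig_reg u).sup_eq_top, (isCompl_eig_reg u').sup_eq_top] at h3
  obtain ⟨f, hf, hfQ, hfu⟩ := h3
  refine ⟨Submodule.topEquiv.symm.trans (f.trans Submodule.topEquiv), fun v w => hf _ _, fun h0 v => hfQ h0 _,
    fun v => ?_⟩
  exact hfu ⟨v, Submodule.mem_top⟩ Submodule.mem_top

end CfsgLib.ClassNumberEven
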