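import Cfsg.Agent.Lib.KnownA.ClassNumberEven.Decomp

/-!
# The weighted count of reduced multisets of blocks
-/

set_option autoImplicit false
set_option linter.unusedSectionVars false

namespace CfsgLib.ClassNumberEven

open Finset

/-- The entries of one level `k`: blocks `V k` without and with bit, `W (2 k + 1)` without and with bit, and
`W (2 k)`. -/
abbrev Lev (n : ℕ) := Fin 3 × Fin 2 × Fin (n + 1) × Fin 2 × Fin (n + 1)

variable {n : ℕ}

/-- The weight of a level. -/
def levWt (k : ℕ) (l : Lev n) : ℕ :=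
  k * (l.1.val + l.2.1.val) + (2 * k + 1) * (l.2.2.1.val + l.2.2.2.1.val) + 2 * k * l.2.2.2.2.val

/-- The levels allowed after a level in the given state. -/
def LevOk (s : Bool) (l : Lev n) : Prop :=
  l.1.val + l.2.1.val ≤ 2 ∧ (l.2.1.val = 1 → s = false) ∧ (l.2.2.2.1.val = 1 → l.1.val + l.2.1.val = 0)

instance decidableLevOk (s : Bool) : DecidablePred (LevOk (n := n) s) := fun l => by
  unfold LevOk; infer_instance

/-- The state of a level: whether the next one is linked. -/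
def levSt (l : Lev n) : Bool := decide (0 < l.1.val + l.2.1.val + l.2.2.1.val + l.2.2.2.1.val)

/-- The state after `K` levels, starting in `s₀`. -/
def chSt (s₀ : Bool) : (K : ℕ) → (Fin K → Lev n) → Bool
  | 0, _ => s₀
  | K + 1, c => levSt (c (Fin.last K))

/-- Admissible chains. -/
def ChOk (s₀ : Bool) : (K : ℕ) → (Fin K → Lev n) → Prop
  | 0, _ => True
  | K + 1, c => ChOk s₀ K (fun i => c i.castSucc) ∧ LevOk (chSt s₀ K fun i => c i.castSucc) (c (Fin.last K))

/-- The weight of a chain. -/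
def chWt (K : ℕ) (c : Fin K → Lev n) : ℕ := ∑ i : Fin K, levWt ((i : ℕ) + 1) (c i)

open _root_.Classical in
/-- The weighted number of admissible chains in a state. -/
noncomputable def chSum (n : ℕ) (z : ℚ) (s₀ : Bool) (K : ℕ) (s : Bool) : ℚ :=
  ∑ c : Fin K → Lev n, if ChOk s₀ K c ∧ chSt s₀ K c = s then z ^ chWt K c else 0

open _root_.Classical in
/-- The weighted number of the admissible levels in a state, after a given state. -/
noncomputable def levSum (n : ℕ) (z : ℚ) (k : ℕ) (s t : Bool) : ℚ :=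
  ∑ l : Lev n, if LevOk s l ∧ levSt l = t then z ^ levWt k l else 0

theorem chSum_zero (z : ℚ) (s₀ : Bool) :
    chSum n z s₀ 0 true = (if s₀ then 1 else 0) ∧ chSum n z s₀ 0 false = (if s₀ then 0 else 1) := by
  cases s₀ <;> simp [chSum, ChOk, chSt, chWt]

theorem chSum_succ (z : ℚ) (s₀ : Bool) (K : ℕ) (t : Bool) :
    chSum n z s₀ (K + 1) t =
      chSum n z s₀ K true * levSum n z (K + 1) true t + chSum n z s₀ K false * levSum n z (K + 1) false t := by
  classical
  rw [chSum]
  refine (Equiv.sum_comp (Fin.snocEquiv fun _ : Fin (K + 1) => Lev n) _).symm.trans ?_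
  rw [Fintype.sum_prod_type]
  simp only [chSum, levSum, Finset.sum_mul, Finset.mul_sum, ← Finset.sum_add_distrib]
  refine Finset.sum_congr rfl fun l _ => Finset.sum_congr rfl fun c _ => ?_
  have e1 : ∀ i : Fin K, (Fin.snocEquiv fun _ : Fin (K + 1) => Lev n) (l, c) i.castSucc = c i := fun i => by
    simp [Fin.snocEquiv]
  have e2 : (Fin.snocEquiv fun _ : Fin (K + 1) => Lev n) (l, c) (Fin.last K) = l := by simp [Fin.snocEquiv]
  set f := (Fin.snocEquiv fun _ : Fin (K + 1) => Lev n) (l, c)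
  have hf : (fun i : Fin K => f i.castSucc) = c := funext e1
  have hok : ChOk s₀ (K + 1) f ↔ ChOk s₀ K c ∧ LevOk (chSt s₀ K c) l := by
    show (ChOk s₀ K (fun i => f i.castSucc) ∧ LevOk (chSt s₀ K fun i => f i.castSucc) (f (Fin.last K))) ↔ _
    rw [hf, e2]
  have hst : chSt s₀ (K + 1) f = levSt l := congrArg levSt e2
  have hwt : chWt (K + 1) f = chWt K c + levWt (K + 1) l := by
    rw [chWt, chWt, Fin.sum_univ_castSucc, e2]
    simp only [e1, Fin.val_castSucc, Fin.val_last]
  rw [hst, hwt, pow_add]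
  simp only [hok]
  rcases hs : chSt s₀ K c with _ | _ <;> by_cases h1 : ChOk s₀ K c <;>
    by_cases h2 : LevOk (false : Bool) l <;> by_cases h2' : LevOk (true : Bool) l <;>
    by_cases h3 : levSt l = t <;> simp [h1, h2, h2', h3]

theorem levSum_le (z : ℚ) (h0 : 0 ≤ z) (h1 : z ≤ 1 / 2) {k : ℕ} (hk : 1 ≤ k) :
    let p := z ^ k + z ^ (2 * k); let y := z ^ (2 * k + 1); let g := 1 / (1 - z ^ (2 * k + 1))
    let h := 1 / (1 - z ^ (2 * k))
    levSum n z k true true ≤ h * (g * (p + 2 * y)) ∧ levSum n z k true false ≤ h * 1 ∧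
      levSum n z k false true ≤ h * (g * (2 * p + 2 * y)) ∧ levSum n z k false false ≤ h * 1 := by
  classical
  intro p y g h
  have hp : ∀ e, 1 ≤ e → 0 ≤ z ^ e ∧ z ^ e < 1 := fun e he =>
    ⟨pow_nonneg h0 e, lt_of_le_of_lt (pow_le_of_le_one h0 (by linarith) (by omega)) (by linarith)⟩
  have geo : ∀ e, 1 ≤ e → ∀ r, ∑ i : Fin r, (z ^ e) ^ (i : ℕ) ≤ 1 / (1 - z ^ e) := by
    intro e he r
    rw [Fin.sum_univ_eq_sum_range (fun i => (z ^ e) ^ i), geom_sum_eq (hp e he).2.ne, ← neg_div_neg_eq, neg_sub,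
      neg_sub]
    have := (hp e he).2
    gcongr
    linarith [pow_nonneg (hp e he).1 r]
  set Y := z ^ (2 * k + 1)
  set A := z ^ k
  set S0 := ∑ w : Fin (n + 1), Y ^ (w : ℕ)
  set S1 := ∑ w : Fin n, Y ^ ((w : ℕ) + 1)
  have hY := hp (2 * k + 1) (by omega)
  have hA : 0 ≤ A := (hp k hk).1
  have hS0 : S0 ≤ g := geo _ (by omega) _
  have hS1 : S1 ≤ Y * g := by
    simp only [S1, pow_succ', ← Finset.mul_sum]
    exact mul_le_mul_of_nonneg_left (geo _ (by omega) _) hY.1
  have hp' : p = A + A * A := by simp only [p, A, two_mul, pow_add]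
  have split : ∀ (s t : Bool), levSum n z k s t = (∑ i : Fin (n + 1), (z ^ (2 * k)) ^ (i : ℕ)) *
      ∑ a : Fin 3, ∑ b : Fin 2, ∑ c : Fin 2, ∑ w : Fin (n + 1),
        if (a.val + b.val ≤ 2 ∧ (b.val = 1 → s = false) ∧ (c.val = 1 → a.val + b.val = 0)) ∧
            decide (0 < a.val + b.val + w.val + c.val) = t
          then A ^ (a.val + b.val) * Y ^ (w.val + c.val) else 0 := by
    intro s t
    simp only [levSum, Fintype.sum_prod_type, Finset.mul_sum, Finset.sum_mul]
    refine Finset.sum_congr rfl fun a _ => Finset.sum_congr rfl fun b _ => ?_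
    rw [Finset.sum_comm]
    refine Finset.sum_congr rfl fun c _ => Finset.sum_congr rfl fun w _ => Finset.sum_congr rfl fun e _ => ?_
    simp only [LevOk, levSt, levWt, pow_add, pow_mul, mul_ite, mul_zero, A, Y]
    split_ifs <;> ring
  have hb : ∀ s : Bool, 0 ≤ ∑ i : Fin (n + 1), (z ^ (2 * k)) ^ (i : ℕ) ∧
      ∑ i : Fin (n + 1), (z ^ (2 * k)) ^ (i : ℕ) ≤ h :=
    fun _ => ⟨Finset.sum_nonneg fun i _ => by positivity, geo _ (by omega) _⟩
  have hpos : ∑ w : Fin (n + 1), (if 0 < w then Y ^ (w : ℕ) else 0) = S1 := by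
    rw [Fin.sum_univ_succ]; simp [S1]
  have hzer : ∑ w : Fin (n + 1), (if (w : ℕ) = 0 then Y ^ (w : ℕ) else 0) = 1 := by
    rw [Fin.sum_univ_succ]; simp
  have hc1 : ∑ w : Fin (n + 1), Y ^ ((w : ℕ) + 1) = Y * S0 := by
    simp only [S0, Finset.mul_sum, pow_succ']
  have hsA : ∀ m : ℕ, ∑ w : Fin (n + 1), A ^ m * Y ^ (w : ℕ) = A ^ m * S0 := fun m => (Finset.mul_sum ..).symm
  refine ⟨?_, ?_, ?_, ?_⟩ <;> rw [split]
  all_goals refine mul_le_mul (hb true).2 ?_ ?_ ((hb true).1.trans (hb true).2)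
  rotate_left
  all_goals try exact Finset.sum_nonneg fun a _ => Finset.sum_nonneg fun b _ =>
      Finset.sum_nonneg fun c _ => Finset.sum_nonneg fun w _ => by split_ifs <;> positivity
  all_goals simp only [Fin.sum_univ_three, Fin.sum_univ_two, Fin.val_zero, Fin.val_one, Fin.val_two]
  all_goals simp [← Finset.mul_sum]
  all_goals
    rw [hpos, hc1, hp', show y = Y from rfl]
    nlinarith [mul_le_mul_of_nonneg_left hS0 hY.1, mul_le_mul_of_nonneg_left hS0 hA,
      mul_le_mul_of_nonneg_left hS0 (mul_nonneg hA hA), hS1]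

end CfsgLib.ClassNumberEven
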