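import Cfsg.Agent.Lib.KnownA.ClassNumberEven.Normal

/-!
# Reduced decompositions of unipotent isometries
-/

set_option autoImplicit false
set_option linter.unusedSectionVars false

open Module

namespace CfsgLib.ClassNumberEven

/-- A block: one generator of order `2 k`, or two generators of order `e`; each with a bit. -/
inductive Blk
  | V (k : ℕ) (bit : Bool)
  | W (e : ℕ) (bit : Bool)
deriving DecidableEq

/-- The order of a block. -/
def Blk.ord : Blk → ℕ
  | .V k _ => 2 * k
  | .W e _ => e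

/-- Half of the dimension of a block. -/
def Blk.wt : Blk → ℕ
  | .V k _ => k
  | .W e _ => e

/-- The bit of a block. -/
def Blk.bit : Blk → Bool
  | .V _ b => b
  | .W _ b => b

/-- The blocks that occur at the level `lo`. -/
def Blk.Ok (lo : ℕ) : Blk → Prop
  | .V k b => 1 ≤ k ∧ (b = true → lo + 1 ≤ k)
  | .W e b => 1 ≤ e ∧ (b = true → ∃ k, e = 2 * k + 1 ∧ lo ≤ k)

/-- Reduced multisets of blocks. -/
structure Red (lo : ℕ) (M : Multiset Blk) : Prop where
  ok : ∀ b ∈ M, b.Ok lo
  bit : ∀ b, b.bit = true → M.count b ≤ 1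
  two : ∀ k, M.count (.V k false) + M.count (.V k true) ≤ 2
  headV : ∀ k b, .V k true ∈ M → .V (k - 1) b ∉ M ∧ .W (2 * (k - 1) + 1) b ∉ M
  headW : ∀ k b, .W (2 * k + 1) true ∈ M → .V k b ∉ M

theorem red_zero (lo : ℕ) : Red lo 0 :=
  ⟨by simp, by simp, by simp, by simp, by simp⟩

variable {F : Type*} [Field F] [CharP F 2] {V : Type*} [AddCommGroup V] [Module F V]
  {B : V →ₗ[F] V →ₗ[F] F} {u : V ≃ₗ[F] V} {Q : V → F} {lo : ℕ} {δ : F}

variable (B u Q lo δ) in
/-- A subspace is a block of the given type. -/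
def IsBlk : Blk → Submodule F V → Prop
  | .V k b, T => (Blk.V k b).Ok lo ∧ ∃ x, T = orb u ![x] ∧ VStd B u Q lo δ k b x
  | .W e b, T => (Blk.W e b).Ok lo ∧ ∃ x y, T = orb u ![x, y] ∧ WStd B u Q lo δ e b x y

variable (B u Q lo δ) in
/-- Decompositions into orthogonal blocks. -/
inductive Dec : Submodule F V → Multiset Blk → Prop
  | nil : Dec ⊥ 0
  | cons {T W : Submodule F V} {b : Blk} {M : Multiset Blk} : IsBlk B u Q lo δ b T → Dec W M →
      (∀ x ∈ T, ∀ y ∈ W, B x y = 0) → Dec (T ⊔ W) (b ::ₘ M)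

theorem vstd_top (S : Setting B u Q lo) (hlo : lo ≤ 1) {k : ℕ} (hk : 1 ≤ k) {b : Bool} {x : V}
    (h : VStd B u Q lo δ k b x) : B ((nOp u ^ (2 * k - 1)) x) x = 1 := by
  obtain ⟨j, rfl⟩ : ∃ j, k = j + 1 := ⟨k - 1, by omega⟩
  rw [show 2 * (j + 1) - 1 = 2 * j + 1 by omega,
    top_self_even S (Q := Q) (by simpa [mul_add] using h.1), h.2 _ (by omega), if_pos rfl]

theorem wstd_top (S : Setting B u Q lo) (hlo : lo ≤ 1) {e : ℕ} (he : 1 ≤ e) {b : Bool} {x y : V}
    (h : WStd B u Q lo δ e b x y) :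
    B ((nOp u ^ (e - 1)) x) x = 0 ∧ B ((nOp u ^ (e - 1)) y) y = 0 ∧ B ((nOp u ^ (e - 1)) x) y = 1 := by
  refine ⟨?_, ?_, by rw [h.2.2.1, if_pos (by omega)]⟩
  all_goals rcases Nat.even_or_odd e with ⟨j, hj⟩ | ⟨j, hj⟩
  all_goals try subst hj
  · obtain ⟨i, rfl⟩ : ∃ i, j = i + 1 := ⟨j - 1, by omega⟩
    rw [show i + 1 + (i + 1) - 1 = 2 * i + 1 by omega,
      top_self_even S (Q := Q) (by rw [show 2 * i + 2 = i + 1 + (i + 1) by ring]; exact h.1),
      (h.2.2.2 _ (by omega)).1, if_neg (by omega)]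
  · simpa using top_self_odd S (Q := Q) h.1
  · obtain ⟨i, rfl⟩ : ∃ i, j = i + 1 := ⟨j - 1, by omega⟩
    rw [show i + 1 + (i + 1) - 1 = 2 * i + 1 by omega,
      top_self_even S (Q := Q) (by rw [show 2 * i + 2 = i + 1 + (i + 1) by ring]; exact h.2.1),
      (h.2.2.2 _ (by omega)).2, if_neg (by omega)]
  · simpa using top_self_odd S (Q := Q) h.2.1

theorem v_matrix (S : IsoAlt B u) {e : ℕ} (he : 1 ≤ e) {x : V} (hx : (nOp u ^ e) x = 0)
    (h : B ((nOp u ^ (e - 1)) x) x = 1) : ∀ c : Fin 1 → F,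
    (∀ b, ∑ a, c a * B (![x] a) ((nOp u ^ (e - 1)) (![x] b)) = 0) → c = 0 := by
  intro c hc
  have h1 := hc 0
  simp only [Fin.sum_univ_one, Matrix.cons_val_fin_one] at h1
  rw [← S.n_pow_top (by rw [Nat.sub_add_cancel he]; exact hx), h, mul_one] at h1
  exact funext fun a => by fin_cases a; exact h1

theorem w_matrix (S : IsoAlt B u) {e : ℕ} (he : 1 ≤ e) {x y : V} (hx : (nOp u ^ e) x = 0)
    (hy : (nOp u ^ e) y = 0) (hxx : B ((nOp u ^ (e - 1)) x) x = 0) (hyy : B ((nOp u ^ (e - 1)) y) y = 0)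
    (hxy : B ((nOp u ^ (e - 1)) x) y = 1) : ∀ c : Fin 2 → F,
    (∀ b, ∑ a, c a * B (![x, y] a) ((nOp u ^ (e - 1)) (![x, y] b)) = 0) → c = 0 := by
  intro c hc
  have e1 : e - 1 + 1 = e := Nat.sub_add_cancel he
  have h0 := hc 0
  have h1 := hc 1
  simp only [Fin.sum_univ_two, Matrix.cons_val_zero, Matrix.cons_val_one, Matrix.cons_val_fin_one] at h0 h1
  rw [← S.n_pow_top (by rw [e1]; exact hx), hxx, mul_zero, zero_add, S.symm, hxy, mul_one] at h0
  rw [← S.n_pow_top (by rw [e1]; exact hy), hxy, mul_one, ← S.n_pow_top (by rw [e1]; exact hy), hyy, mul_zero,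
    add_zero] at h1
  exact funext fun a => by fin_cases a <;> assumption

theorem IsBlk.props (S : Setting B u Q lo) (hlo : lo ≤ 1) {b : Blk} {T : Submodule F V}
    (h : IsBlk B u Q lo δ b T) : b.Ok lo ∧ Inv u T ∧ NonDeg B T ∧ finrank F T = 2 * b.wt := by
  cases b with
  | V k bit =>
    obtain ⟨hok, x, rfl, hx⟩ := h
    have hk := hok.1
    have hM := v_matrix S.toIsoAlt (e := 2 * k) (by omega) hx.1 (vstd_top S hlo hk hx)
    have hn : ∀ a : Fin 1, (nOp u ^ (2 * k)) (![x] a) = 0 := fun a => by fin_cases a; exact hx.1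
    exact ⟨hok, inv_orb u _, nonDeg_orb S.toIsoAlt hn hM, (finrank_orb S.toIsoAlt hn hM).trans (one_mul _)⟩
  | W e bit =>
    obtain ⟨hok, x, y, rfl, hx⟩ := h
    obtain ⟨h1, h2, h3⟩ := wstd_top S hlo hok.1 hx
    have hM := w_matrix S.toIsoAlt hok.1 hx.1 hx.2.1 h1 h2 h3
    have hn : ∀ a : Fin 2, (nOp u ^ e) (![x, y] a) = 0 := fun a => by
      fin_cases a
      · exact hx.1
      · exact hx.2.1
    exact ⟨hok, inv_orb u _, nonDeg_orb S.toIsoAlt hn hM, finrank_orb S.toIsoAlt hn hM⟩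

theorem inv_sup {T W : Submodule F V} (hT : Inv u T) (hW : Inv u W) : Inv u (T ⊔ W) := by
  intro x hx
  obtain ⟨t, ht, w, hw, rfl⟩ := Submodule.mem_sup.1 hx
  rw [map_add]
  exact Submodule.add_mem_sup (hT t ht) (hW w hw)

theorem nonDeg_sup (S : IsoAlt B u) {T W : Submodule F V} (hT : NonDeg B T) (hW : NonDeg B W)
    (ho : ∀ x ∈ T, ∀ y ∈ W, B x y = 0) : NonDeg B (T ⊔ W) := by
  intro x hx h
  obtain ⟨t, ht, w, hw, rfl⟩ := Submodule.mem_sup.1 hx
  have h1 : t = 0 := hT t ht fun y hy => by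
    have := h y (Submodule.mem_sup_left hy)
    rwa [map_add, LinearMap.add_apply, S.symm w y, ho y hy w hw, add_zero] at this
  have h2 : w = 0 := hW w hw fun y hy => by
    have := h y (Submodule.mem_sup_right hy)
    rwa [map_add, LinearMap.add_apply, ho t ht y hy, zero_add] at this
  rw [h1, h2, add_zero]

theorem finrank_sup_orth [FiniteDimensional F V] (S : IsoAlt B u) {T W : Submodule F V} (hT : NonDeg B T)
    (ho : ∀ x ∈ T, ∀ y ∈ W, B x y = 0) :
    finrank F (T ⊔ W : Submodule F V) = finrank F T + finrank F W := by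
  have h0 : T ⊓ W = ⊥ := by
    rw [eq_bot_iff]
    rintro x ⟨hxT, hxW⟩
    refine (Submodule.mem_bot F).2 (hT x hxT fun y hy => ?_)
    rw [S.symm]
    exact ho y hy x hxW
  have := Submodule.finrank_sup_add_finrank_inf_eq T W
  rwa [h0, finrank_bot, add_zero] at this

theorem Dec.props [FiniteDimensional F V] (S : Setting B u Q lo) (hlo : lo ≤ 1) {W : Submodule F V}
    {M : Multiset Blk} (h : Dec B u Q lo δ W M) :
    Inv u W ∧ NonDeg B W ∧ finrank F W = 2 * (M.map Blk.wt).sum ∧ ∀ b ∈ M, b.Ok lo := by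
  induction h with
  | nil =>
    exact ⟨fun x hx => by rw [(Submodule.mem_bot F).1 hx, map_zero]; exact zero_mem _,
      fun x hx _ => (Submodule.mem_bot F).1 hx, by simp, by simp⟩
  | cons hb _ ho ih =>
    obtain ⟨h1, h2, h3, h4⟩ := hb.props S hlo
    refine ⟨inv_sup h2 ih.1, nonDeg_sup S.toIsoAlt h3 ih.2.1 ho, ?_, fun c hc => ?_⟩
    · rw [finrank_sup_orth S.toIsoAlt h3 ho, h4, ih.2.2.1, Multiset.map_cons, Multiset.sum_cons, mul_add]
    · rcases Multiset.mem_cons.1 hc with rfl | hc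
      · exact h1
      · exact ih.2.2.2 c hc

theorem Dec.le_of_mem {W : Submodule F V} {M : Multiset Blk} (h : Dec B u Q lo δ W M) {b : Blk} (hb : b ∈ M) :
    ∃ T, T ≤ W ∧ IsBlk B u Q lo δ b T := by
  induction h with
  | nil => simp at hb
  | cons hb0 _ _ ih =>
    rcases Multiset.mem_cons.1 hb with rfl | hb'
    · exact ⟨_, le_sup_left, hb0⟩
    · obtain ⟨T, h1, h2⟩ := ih hb'
      exact ⟨T, h1.trans le_sup_right, h2⟩

/-- Any block of a decomposition can be split off first. -/
theorem Dec.extract (S : IsoAlt B u) {W : Submodule F V} {M : Multiset Blk} (h : Dec B u Q lo δ W M) {b : Blk}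
    (hb : b ∈ M) : ∃ T W', W = T ⊔ W' ∧ IsBlk B u Q lo δ b T ∧ Dec B u Q lo δ W' (M.erase b) ∧
      ∀ x ∈ T, ∀ y ∈ W', B x y = 0 := by
  induction h with
  | nil => simp at hb
  | @cons T W b₀ M hb₀ hd ho ih =>
    by_cases he : b = b₀
    · subst he
      exact ⟨T, W, rfl, hb₀, by rwa [Multiset.erase_cons_head], ho⟩
    · obtain ⟨T₁, W₁, rfl, h1, h2, h3⟩ := ih ((Multiset.mem_cons.1 hb).resolve_left he)
      refine ⟨T₁, T ⊔ W₁, sup_left_comm _ _ _, h1, ?_, fun x hx y hy => ?_⟩
      · rw [Multiset.erase_cons_tail _ (Ne.symm he)]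
        exact Dec.cons hb₀ h2 fun x hx y hy => ho x hx y (Submodule.mem_sup_right hy)
      · obtain ⟨t, ht, w, hw, rfl⟩ := Submodule.mem_sup.1 hy
        rw [map_add, h3 x hx w hw, add_zero, S.symm, ho t ht x (Submodule.mem_sup_left hx)]

theorem equiv_sup {u' : V ≃ₗ[F] V} (S : Setting B u Q lo) (S' : Setting B u' Q lo)
    {T T' W W' : Submodule F V} (hT : Inv u T) (hW : Inv u W) (hnd : NonDeg B (T ⊔ W))
    (hnd' : NonDeg B (T' ⊔ W'))
    (ho : ∀ x ∈ T, ∀ y ∈ W, B x y = 0) (ho' : ∀ x ∈ T', ∀ y ∈ W', B x y = 0)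
    (h1 : Equiv' B Q lo u u' T T') (h2 : Equiv' B Q lo u u' W W') :
    Equiv' B Q lo u u' (T ⊔ W) (T' ⊔ W') := by
  obtain ⟨f, hf, hfQ, hfu⟩ := h1
  obtain ⟨g, hg, hgQ, hgu⟩ := h2
  let v : T ⊕ W → V := Sum.elim (fun t => (t : V)) fun w => (w : V)
  let w : T ⊕ W → V := Sum.elim (fun t => (f t : V)) fun w => (g w : V)
  let σ : T ⊕ W → T ⊕ W := Sum.map (fun t => ⟨u t, hT t t.2⟩) fun w => ⟨u w, hW w w.2⟩
  have hspan : ∀ (A C : Submodule F V) (φ : T → A) (ψ : W → C), Function.Surjective φ → Function.Surjective ψ →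
      Submodule.span F (Set.range (Sum.elim (fun t => (φ t : V)) fun w => (ψ w : V))) = A ⊔ C := by
    intro A C φ ψ hφ hψ
    rw [Set.Sum.elim_range, Submodule.span_union]
    congr 1
    · rw [show Set.range (fun t => (φ t : V)) = (A : Set V) from (Set.range_comp Subtype.val φ).trans (by
        rw [hφ.range_eq, Set.image_univ, Subtype.range_coe]), Submodule.span_eq]
    · rw [show Set.range (fun t => (ψ t : V)) = (C : Set V) from (Set.range_comp Subtype.val ψ).trans (by
        rw [hψ.range_eq, Set.image_univ, Subtype.range_coe]), Submodule.span_eq]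
  have hv : Submodule.span F (Set.range v) = T ⊔ W := hspan T W id id Function.surjective_id Function.surjective_id
  have hw : Submodule.span F (Set.range w) = T' ⊔ W' := hspan T' W' f g f.surjective g.surjective
  have := equiv_of_gram S (u' := u') σ v w (fun i => by rcases i with i | i <;> rfl)
    (fun i => by
      rcases i with i | i
      · exact (hfu i (hT i i.2)).symm
      · exact (hgu i (hW i i.2)).symm)
    (fun i j => by
      rcases i with i | i <;> rcases j with j | j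
      · exact hf i j
      · exact (ho' _ (f i).2 _ (g j).2).trans (ho _ i.2 _ j.2).symm
      · show B (g i : V) (f j : V) = B (i : V) (j : V)
        rw [S.symm, ho' _ (f j).2 _ (g i).2, S.symm, ho _ j.2 _ i.2]
      · exact hg i j)
    (fun h0 i => by rcases i with i | i; exact hfQ h0 i; exact hgQ h0 i)
    (hv.symm ▸ hnd) (hw.symm ▸ hnd')
  rw [hv, hw] at this
  exact this

theorem vstd_equiv {u' : V ≃ₗ[F] V} (S : Setting B u Q lo) (S' : Setting B u' Q lo) (hlo : lo ≤ 1) {b : Blk}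
    {T T' : Submodule F V} (h : IsBlk B u Q lo δ b T) (h' : IsBlk B u' Q lo δ b T') :
    Equiv' B Q lo u u' T T' := by
  have hT := (h.props S hlo).2.2.1
  have hT' := (h'.props S' hlo).2.2.1
  have shift : ∀ {r : ℕ} (x : Fin r → V) (w : V ≃ₗ[F] V) (p : Fin r × ℕ),
      w ((w.toLinearMap ^ p.2) (x p.1)) = (w.toLinearMap ^ (p.1, p.2 + 1).2) (x (p.1, p.2 + 1).1) := by
    intro r x w p
    rw [pow_succ', Module.End.mul_apply]
    rfl
  have hQ : lo = 0 → ∀ (w : V ≃ₗ[F] V), Setting B w Q lo → ∀ (j : ℕ) (z : V), Q ((w.toLinearMap ^ j) z) = Q z := by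
    intro h0 w Sw j
    induction j with
    | zero => intro z; rfl
    | succ j ih => intro z; rw [pow_succ', Module.End.mul_apply]; exact (Sw.qinv h0 _).trans (ih z)
  cases b with
  | V k bit =>
    obtain ⟨-, x, rfl, hx⟩ := h
    obtain ⟨-, x', rfl, hx'⟩ := h'
    have ht : ∀ i, tower B u' Q (i + 1) x' = tower B u Q (i + 1) x := fun i => by
      rw [hx.2 _ (by omega), hx'.2 _ (by omega)]
    refine equiv_of_gram S (fun p : Fin 1 × ℕ => (p.1, p.2 + 1)) _ _ (shift _ u) (shift _ u')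
      (fun i j => ?_) (fun h0 i => ?_) hT hT'
    · obtain ⟨a, i⟩ := i; obtain ⟨b, j⟩ := j
      fin_cases a; fin_cases b
      exact self_table_pair S.toIsoAlt S'.toIsoAlt ht i j
    · obtain ⟨a, i⟩ := i
      fin_cases a
      show Q ((u'.toLinearMap ^ i) x') = Q ((u.toLinearMap ^ i) x)
      rw [hQ h0 u' S' i, hQ h0 u S i]
      exact (hx'.2 0 (by omega)).trans (hx.2 0 (by omega)).symm
  | W e bit =>
    obtain ⟨-, x, y, rfl, hx⟩ := h
    obtain ⟨-, x', y', rfl, hx'⟩ := h'
    have htx : ∀ i, tower B u' Q (i + 1) x' = tower B u Q (i + 1) x := fun i => by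
      rw [(hx.2.2.2 _ (by omega)).1, (hx'.2.2.2 _ (by omega)).1]
    have hty : ∀ i, tower B u' Q (i + 1) y' = tower B u Q (i + 1) y := fun i => by
      rw [(hx.2.2.2 _ (by omega)).2, (hx'.2.2.2 _ (by omega)).2]
    have hxy : ∀ i j, B ((u'.toLinearMap ^ i) x') ((u'.toLinearMap ^ j) y') =
        B ((u.toLinearMap ^ i) x) ((u.toLinearMap ^ j) y) :=
      cross_table_swap S.toIsoAlt S'.toIsoAlt hx.1 hx'.1 fun d => by rw [hx'.2.2.1, hx.2.2.1]
    refine equiv_of_gram S (fun p : Fin 2 × ℕ => (p.1, p.2 + 1)) _ _ (shift _ u) (shift _ u')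
      (fun i j => ?_) (fun h0 i => ?_) hT hT'
    · obtain ⟨a, i⟩ := i; obtain ⟨b, j⟩ := j
      fin_cases a <;> fin_cases b
      · exact self_table_pair S.toIsoAlt S'.toIsoAlt htx i j
      · exact hxy i j
      · show B ((u'.toLinearMap ^ i) y') ((u'.toLinearMap ^ j) x') = B ((u.toLinearMap ^ i) y) ((u.toLinearMap ^ j) x)
        rw [S.symm, hxy, S.symm]
      · exact self_table_pair S.toIsoAlt S'.toIsoAlt hty i j
    · obtain ⟨a, i⟩ := i
      fin_cases a
      · show Q ((u'.toLinearMap ^ i) x') = Q ((u.toLinearMap ^ i) x)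
        rw [hQ h0 u' S' i, hQ h0 u S i]
        exact (hx'.2.2.2 0 (by omega)).1.trans (hx.2.2.2 0 (by omega)).1.symm
      · show Q ((u'.toLinearMap ^ i) y') = Q ((u.toLinearMap ^ i) y)
        rw [hQ h0 u' S' i, hQ h0 u S i]
        exact (hx'.2.2.2 0 (by omega)).2.trans (hx.2.2.2 0 (by omega)).2.symm

/-- Equal multisets of blocks give an intertwining isometry. -/
theorem Dec.equiv [FiniteDimensional F V] {u' : V ≃ₗ[F] V} (S : Setting B u Q lo) (S' : Setting B u' Q lo)
    (hlo : lo ≤ 1) {W : Submodule F V} {M : Multiset Blk} (h : Dec B u Q lo δ W M) :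
    ∀ {W' : Submodule F V}, Dec B u' Q lo δ W' M → Equiv' B Q lo u u' W W' := by
  induction h with
  | nil =>
    intro W' h'
    have h3 := (h'.props S' hlo).2.2.1
    simp only [Multiset.map_zero, Multiset.sum_zero, mul_zero, Submodule.finrank_eq_zero] at h3
    subst h3
    refine ⟨LinearEquiv.refl F _, fun x y => rfl, fun _ x => rfl, fun x hx => ?_⟩
    show u (x : V) = u' (x : V)
    rw [show (x : V) = 0 from (Submodule.mem_bot F).1 x.2, map_zero, map_zero]
  | @cons T W b M hb hd ho ih =>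
    intro W' h'
    obtain ⟨T', W₁, rfl, hb', hd', ho'⟩ := h'.extract S'.toIsoAlt (Multiset.mem_cons_self b M)
    rw [Multiset.erase_cons_head] at hd'
    have hp := hb.props S hlo
    have hp' := hb'.props S' hlo
    exact equiv_sup S S' hp.2.1 (hd.props S hlo).1 (nonDeg_sup S.toIsoAlt hp.2.2.1 (hd.props S hlo).2.1 ho)
      (nonDeg_sup S'.toIsoAlt hp'.2.2.1 (hd'.props S' hlo).2.1 ho') ho ho' (vstd_equiv S S' hlo hb hb') (ih hd')

/-- The height of a block inside a subspace killed by `n ^ e`. -/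
theorem IsBlk.size_le (S : Setting B u Q lo) (hlo : lo ≤ 1) {b : Blk} {T : Submodule F V} {e : ℕ}
    (h : IsBlk B u Q lo δ b T) (hTe : ∀ x ∈ T, (nOp u ^ e) x = 0) :
    b.ord ≤ e := by
  cases b with
  | V k bit =>
    obtain ⟨hok, x, rfl, hx⟩ := h
    by_contra hlt
    have := vstd_top S hlo hok.1 hx
    rw [n_pow_eq_zero_of_le u (show e ≤ 2 * k - 1 by simp only [Blk.ord] at hlt; omega)
      (hTe x (by simpa using mem_orb u ![x] 0)), map_zero, LinearMap.zero_apply] at this
    exact zero_ne_one this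
  | W e' bit =>
    obtain ⟨hok, x, y, rfl, hx⟩ := h
    by_contra hlt
    have := (wstd_top S hlo hok.1 hx).2.2
    rw [n_pow_eq_zero_of_le u (show e ≤ e' - 1 by simp only [Blk.ord] at hlt; omega)
      (hTe x (by simpa using mem_orb u ![x, y] 0)), map_zero, LinearMap.zero_apply] at this
    exact zero_ne_one this

variable [FiniteDimensional F V] [Finite F]

/-- Every unipotent isometry has a reduced decomposition. -/
theorem exists_red (S : Setting B u Q lo) (hlo : lo ≤ 1) (hδ : NotWp δ) : ∀ (d : ℕ) (W : Submodule F V),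
    finrank F W = d → Inv u W → NonDeg B W → (∃ N, ∀ x ∈ W, (nOp u ^ N) x = 0) →
    ∃ M, Dec B u Q lo δ W M ∧ Red lo M := by
  intro d
  induction d using Nat.strong_induction_on with
  | _ d ihd =>
  intro W hd hW hWn hN
  classical
  by_cases hbot : W = ⊥
  · subst hbot
    exact ⟨0, Dec.nil, red_zero lo⟩
  set e := Nat.find hN
  have hWe : ∀ x ∈ W, (nOp u ^ e) x = 0 := Nat.find_spec hN
  have he : 1 ≤ e := by
    rcases Nat.eq_zero_or_pos e with h | h
    · refine absurd ?_ hbot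
      rw [Submodule.eq_bot_iff]
      intro x hx
      simpa [h] using hWe x hx
    · exact h
  obtain ⟨a, ha, hane⟩ : ∃ a ∈ W, (nOp u ^ (e - 1)) a ≠ 0 := by
    have := Nat.find_min hN (show e - 1 < Nat.find hN by show e - 1 < e; omega)
    simpa using this
  obtain ⟨b₀, hb₀, hab⟩ : ∃ b ∈ W, B ((nOp u ^ (e - 1)) a) b ≠ 0 := by
    by_contra h
    exact hane (hWn _ (hW.n_pow _ ha) fun y hy => by_contra fun hy' => h ⟨y, hy, hy'⟩)
  have hsymm : ∀ x ∈ W, ∀ y ∈ W, B ((nOp u ^ (e - 1)) x) y = B ((nOp u ^ (e - 1)) y) x := fun x _ y hy => by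
    rw [S.n_pow_top (by rw [Nat.sub_add_cancel he]; exact hWe y hy), S.symm]
  by_cases hP : ∃ x y, Pair B u W e x y
  · obtain ⟨x₀, y₀, P₀⟩ := hP
    obtain ⟨bit, x, y, hxW, hyW, hstd, hbit⟩ := exists_wblock S hlo hδ hW he hWe P₀
    have hok : (Blk.W e bit).Ok lo := ⟨he, fun h => (hbit h).imp fun k hk => ⟨hk.1, hk.2.1⟩⟩
    have hblk : IsBlk B u Q lo δ (.W e bit) (orb u ![x, y]) := ⟨hok, x, y, rfl, hstd⟩
    obtain ⟨-, hTi, hTn, hTd⟩ := hblk.props S hlo
    have hTW : orb u ![x, y] ≤ W := orb_le hW fun a => by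
      fin_cases a
      · exact hxW
      · exact hyW
    obtain ⟨hI', hn', hsup, hdim⟩ := complement S.toIsoAlt hTi hW hTW hTn hWn
    obtain ⟨M, hM, hR⟩ := ihd _ (by rw [← hd, hdim, hTd]; show _ < 2 * e + _; omega) _ rfl hI' hn'
      ⟨e, fun x hx => hWe x hx.1⟩
    have hsize : ∀ c ∈ M, c.ord ≤ e := fun c hc => by
      obtain ⟨T, hT, hcT⟩ := hM.le_of_mem hc
      exact hcT.size_le S hlo fun x hx => hWe x (hT hx).1
    refine ⟨.W e bit ::ₘ M, hsup ▸ Dec.cons hblk hM (fun s hs z hz => by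
      rw [S.symm]; exact mem_perp.1 hz.2 s hs), ?_⟩
    have hlink : bit = true → ∀ k, e = 2 * k + 1 → ∀ z ∈ W ⊓ perp B (orb u ![x, y]), tower B u Q k z = 0 :=
      fun h k hk z hz => by
        obtain ⟨k', hk', -, hz'⟩ := hbit h
        obtain rfl : k = k' := by omega
        exact hz' z hz.1 hz.2
    refine ⟨fun c hc => ?_, fun c hc => ?_, fun k => ?_, fun k b hk => ?_, fun k b hk => ?_⟩
    · rcases Multiset.mem_cons.1 hc with rfl | hc
      · exact hok
      · exact hR.ok c hc
    · rw [Multiset.count_cons]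
      split_ifs with h
      · subst h
        have hb : bit = true := hc
        subst hb
        obtain ⟨k, hk, hlk, -⟩ := hbit rfl
        refine le_of_eq ?_
        rw [Multiset.count_eq_zero.2 fun hmem => ?_]
        obtain ⟨T, hT, -, g₁, g₂, rfl, hg⟩ := hM.le_of_mem hmem
        have := hlink rfl k hk g₁ (hT (by simpa using mem_orb u ![g₁, g₂] 0))
        rw [(hg.2.2.2 k hlk).1, if_pos ⟨rfl, hk.symm⟩] at this
        exact one_ne_zero this
      · simpa using hR.bit c hc
    · rw [Multiset.count_cons_of_ne (by simp), Multiset.count_cons_of_ne (by simp)]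
      exact hR.two k
    · have hk' : Blk.V k true ∈ M := (Multiset.mem_cons.1 hk).resolve_left (by simp)
      have h2k : 2 * k ≤ e := hsize _ hk'
      have hk1 := (hR.ok _ hk').1
      simp only [Multiset.mem_cons, not_or]
      refine ⟨⟨by simp, (hR.headV k b hk').1⟩, ⟨fun h => ?_, (hR.headV k b hk').2⟩⟩
      simp only [Blk.W.injEq] at h
      omega
    · simp only [Multiset.mem_cons, not_or]
      refine ⟨by simp, ?_⟩
      rcases Multiset.mem_cons.1 hk with h | h
      · simp only [Blk.W.injEq] at h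
        obtain ⟨rfl⟩ : bit = true := h.2.symm
        intro hmem
        obtain ⟨T, hT, hok', g, rfl, hg⟩ := hM.le_of_mem hmem
        have := hlink rfl k h.1.symm g (hT (by simpa using mem_orb u ![g] 0))
        rw [hg.2 k (by have := hok'.1; omega), if_pos rfl] at this
        exact one_ne_zero this
      · exact hR.headW k b h
  · obtain ⟨x₀, hx₀W, hx₀⟩ : ∃ x ∈ W, B ((nOp u ^ (e - 1)) x) x ≠ 0 := by
      by_contra h
      set c := (B ((nOp u ^ (e - 1)) a) b₀)⁻¹
      refine hP ⟨c • a, b₀, W.smul_mem c ha, hb₀, hWe _ (W.smul_mem c ha), hWe _ hb₀,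
        by_contra fun h' => h ⟨_, W.smul_mem c ha, h'⟩, by_contra fun h' => h ⟨_, hb₀, h'⟩, ?_⟩
      rw [map_smul, map_smul, LinearMap.smul_apply, smul_eq_mul, inv_mul_cancel₀ hab]
    obtain ⟨k, hek⟩ : ∃ k, e = 2 * k := by
      rcases Nat.even_or_odd e with ⟨k, hk⟩ | ⟨k, hk⟩
      · exact ⟨k, by omega⟩
      · refine absurd ?_ hx₀
        rw [show e - 1 = 2 * k by omega]
        exact top_self_odd S (hk ▸ hWe x₀ hx₀W)
    have hk1 : 1 ≤ k := by omega
    have hne : tower B u Q k x₀ ≠ 0 := by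
      obtain ⟨j, rfl⟩ : ∃ j, k = j + 1 := ⟨k - 1, by omega⟩
      rwa [← top_self_even S (Q := Q) (k := j) (by rw [show 2 * j + 2 = e by omega]; exact hWe x₀ hx₀W),
        show 2 * j + 1 = e - 1 by omega]
    obtain ⟨bit, x, hxW, hstd, hbit⟩ := exists_vblock S hlo hδ hW hk1 (fun z hz => hek ▸ hWe z hz) hx₀W hne
    have hok : (Blk.V k bit).Ok lo := ⟨hk1, fun h => (hbit h).1⟩
    have hblk : IsBlk B u Q lo δ (.V k bit) (orb u ![x]) := ⟨hok, x, rfl, hstd⟩
    obtain ⟨-, hTi, hTn, hTd⟩ := hblk.props S hlo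
    have hTW : orb u ![x] ≤ W := orb_le hW fun a => by fin_cases a; exact hxW
    obtain ⟨hI', hn', hsup, hdim⟩ := complement S.toIsoAlt hTi hW hTW hTn hWn
    obtain ⟨M, hM, hR⟩ := ihd _ (by rw [← hd, hdim, hTd]; show _ < 2 * k + _; omega) _ rfl hI' hn'
      ⟨e, fun x hx => hWe x hx.1⟩
    have hsize : ∀ c ∈ M, c.ord ≤ e := fun c hc => by
      obtain ⟨T, hT, hcT⟩ := hM.le_of_mem hc
      exact hcT.size_le S hlo fun x hx => hWe x (hT hx).1
    refine ⟨.V k bit ::ₘ M, hsup ▸ Dec.cons hblk hM (fun s hs z hz => by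
      rw [S.symm]; exact mem_perp.1 hz.2 s hs), ?_⟩
    have hlink : bit = true → ∀ z ∈ W ⊓ perp B (orb u ![x]), tower B u Q k z = 0 → tower B u Q (k - 1) z = 0 :=
      fun h z hz hzk => (hbit h).2 z hz.1 hz.2 hzk
    refine ⟨fun c hc => ?_, fun c hc => ?_, fun k' => ?_, fun k' b hk => ?_, fun k' b hk => ?_⟩
    · rcases Multiset.mem_cons.1 hc with rfl | hc
      · exact hok
      · exact hR.ok c hc
    · rw [Multiset.count_cons]
      split_ifs with h
      · subst h
        have hb : bit = true := hc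
        subst hb
        have hkl := (hbit rfl).1
        refine le_of_eq ?_
        rw [Multiset.count_eq_zero.2 fun hmem => ?_]
        obtain ⟨T, hT, -, g, rfl, hg⟩ := hM.le_of_mem hmem
        have hz : nOp u g ∈ W ⊓ perp B (orb u ![x]) := hI'.n (hT (by simpa using mem_orb u ![g] 0))
        have := hlink rfl _ hz (by rw [tower_n S (by omega), hg.2 _ (by omega), if_neg (by omega),
          if_neg (by omega)])
        rw [tower_n S (by omega), hg.2 _ (by omega), if_pos (by omega)] at this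
        exact one_ne_zero this
      · simpa using hR.bit c hc
    · by_cases hkk : k' = k
      swap
      · rw [Multiset.count_cons_of_ne (by simp [hkk]), Multiset.count_cons_of_ne (by simp [hkk])]
        exact hR.two k'
      subst hkk
      have hle : M.count (.V k' false) + M.count (.V k' true) ≤ 1 := by
        by_contra hlt
        obtain ⟨b₁, b₂, hb₁, hb₂⟩ : ∃ b₁ b₂, Blk.V k' b₁ ∈ M ∧ Blk.V k' b₂ ∈ M.erase (.V k' b₁) := by
          rcases Nat.eq_zero_or_pos (M.count (Blk.V k' false)) with h0 | h0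
          · refine ⟨true, true, Multiset.count_pos.1 (by omega), ?_⟩
            rw [← Multiset.count_pos, Multiset.count_erase_self]; omega
          · refine ⟨false, ?_⟩
            rcases Nat.eq_zero_or_pos (M.count (Blk.V k' true)) with h1 | h1
            · refine ⟨false, Multiset.count_pos.1 h0, ?_⟩
              rw [← Multiset.count_pos, Multiset.count_erase_self]; omega
            · refine ⟨true, Multiset.count_pos.1 h0, ?_⟩
              rw [← Multiset.count_pos, Multiset.count_erase_of_ne (by simp)]; exact h1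
        obtain ⟨T₁, W₁, hW₁, ⟨hok₁, g₁, rfl, hg₁⟩, hM₁, ho₁⟩ := hM.extract S.toIsoAlt hb₁
        obtain ⟨T₂, hT₂, -, g₂, rfl, hg₂⟩ := hM₁.le_of_mem hb₂
        have m1 : g₁ ∈ W ⊓ perp B (orb u ![x]) :=
          hW₁.symm ▸ Submodule.mem_sup_left (by simpa using mem_orb u ![g₁] 0)
        have m2 : g₂ ∈ W ⊓ perp B (orb u ![x]) :=
          hW₁.symm ▸ Submodule.mem_sup_right (hT₂ (by simpa using mem_orb u ![g₂] 0))
        have hx' := vstd_top S hlo hk1 hstd
        have h11 := vstd_top S hlo hk1 hg₁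
        have h22 := vstd_top S hlo hk1 hg₂
        rw [← hek] at hx' h11 h22
        have hx1 : B ((nOp u ^ (e - 1)) x) g₁ = 0 := by
          rw [S.symm]; exact mem_perp.1 m1.2 _ ((inv_orb u _).n_pow _ (by simpa using mem_orb u ![x] 0))
        have hx2 : B ((nOp u ^ (e - 1)) x) g₂ = 0 := by
          rw [S.symm]; exact mem_perp.1 m2.2 _ ((inv_orb u _).n_pow _ (by simpa using mem_orb u ![x] 0))
        have h12 : B ((nOp u ^ (e - 1)) g₁) g₂ = 0 :=
          ho₁ _ ((inv_orb u _).n_pow _ (by simpa using mem_orb u ![g₁] 0)) _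
            (hT₂ (by simpa using mem_orb u ![g₂] 0))
        refine hP ⟨x + g₁, g₁ + g₂, W.add_mem hxW m1.1, W.add_mem m1.1 m2.1, hWe _ (W.add_mem hxW m1.1),
          hWe _ (W.add_mem m1.1 m2.1), ?_, ?_, ?_⟩
        · simp only [map_add, LinearMap.add_apply, hx', h11, hx1, hsymm g₁ m1.1 x hxW, add_zero, zero_add,
            CharTwo.add_self_eq_zero]
        · simp only [map_add, LinearMap.add_apply, h22, h11, h12, hsymm g₂ m2.1 g₁ m1.1, add_zero, zero_add,
            CharTwo.add_self_eq_zero]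
        · simp only [map_add, LinearMap.add_apply, h11, h12, hx1, hx2, add_zero, zero_add]
      simp only [Multiset.count_cons, Blk.V.injEq, true_and]
      rcases bit with _ | _ <;> simp <;> omega
    · rcases Multiset.mem_cons.1 hk with h | h
      · simp only [Blk.V.injEq] at h
        obtain ⟨rfl, hbt⟩ := h
        subst hbt
        have hkl := (hbit rfl).1
        simp only [Multiset.mem_cons, not_or]
        refine ⟨⟨fun h => ?_, fun hmem => ?_⟩, ⟨by simp, fun hmem => ?_⟩⟩
        · simp only [Blk.V.injEq] at h; omega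
        · obtain ⟨T, hT, hok', g, rfl, hg⟩ := hM.le_of_mem hmem
          have := hlink rfl g (hT (by simpa using mem_orb u ![g] 0)) (by
            rw [hg.2 _ (by omega), if_neg (by omega), if_neg (by omega)])
          rw [hg.2 _ (by omega), if_pos rfl] at this
          exact one_ne_zero this
        · obtain ⟨T, hT, -, g₁, g₂, rfl, hg⟩ := hM.le_of_mem hmem
          have m1 := hT (by simpa using mem_orb u ![g₁, g₂] 0 : g₁ ∈ orb u ![g₁, g₂])
          have m2 := hT (by simpa using mem_orb u ![g₁, g₂] 1 : g₂ ∈ orb u ![g₁, g₂])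
          have hq := hg.2.2.2 (k' - 1) (by omega)
          rcases b with _ | _
          · have hz := hlink rfl (g₁ + g₂) (add_mem m1 m2)
              (tower_eq_zero S (by rw [map_add, hg.1, hg.2.1, add_zero]) (by omega))
            have hc := cross_m S.toIsoAlt (i := k' - 1) (r := 0) hg.1 hg.2.1 (by omega)
            simp only [pow_zero, Module.End.one_apply, add_zero, if_true] at hc
            simp only [Bool.false_eq_true, false_and, if_false] at hq
            rw [tower_add S (by omega), hq.1, hq.2, hc, hg.2.2.1, if_pos (by omega)] at hz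
            simp at hz
          · have hz := hlink rfl g₁ m1 (tower_eq_zero S hg.1 (by omega))
            rw [hq.1, if_pos ⟨rfl, rfl⟩] at hz
            exact one_ne_zero hz
      · have h2k : 2 * k' ≤ e := hsize _ h
        have hk1' := (hR.ok _ h).1
        simp only [Multiset.mem_cons, not_or]
        refine ⟨⟨fun h' => ?_, (hR.headV k' b h).1⟩, ⟨by simp, (hR.headV k' b h).2⟩⟩
        simp only [Blk.V.injEq] at h'
        omega
    · have h : Blk.W (2 * k' + 1) true ∈ M := (Multiset.mem_cons.1 hk).resolve_left (by simp)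
      have h2k : 2 * k' + 1 ≤ e := hsize _ h
      simp only [Multiset.mem_cons, not_or]
      refine ⟨fun h' => ?_, hR.headW k' b h⟩
      simp only [Blk.V.injEq] at h'
      omega

end CfsgLib.ClassNumberEven
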