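import Cfsg.Agent.Lib.KnownA.ClassNumberEven.CharSum
import Cfsg.Agent.Lib.KnownA.ClassNumberEven.Bound0

/-!
# Reversing the sign of a reduced multiset
-/

set_option autoImplicit false
set_option linter.unusedSectionVars false

namespace CfsgLib.ClassNumberEven

/-- The block with the other bit. -/
def Blk.twin : Blk → Blk
  | .V k b => .V k (!b)
  | .W e b => .W e (!b)

/-- The blocks that carry a bit. -/
def Blk.Node : Blk → Prop
  | .V _ _ => True
  | .W e _ => Odd e

theorem Blk.twin_twin (b : Blk) : b.twin.twin = b := by cases b <;> simp [Blk.twin]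

theorem Blk.twin_wt (b : Blk) : b.twin.wt = b.wt := by cases b <;> rfl

theorem Blk.twin_ord (b : Blk) : b.twin.ord = b.ord := by cases b <;> rfl

theorem Blk.twin_node (b : Blk) : b.twin.Node ↔ b.Node := by cases b <;> rfl

theorem Blk.twin_bit (b : Blk) : b.twin.bit = !b.bit := by cases b <;> rfl

theorem bitSign_not (b : Bool) : bitSign (!b) = -bitSign b := by cases b <;> norm_num [bitSign]

/-- The node blocks of a given order. -/
def nodeAt (m : ℕ) (bit : Bool) : Blk := if m % 2 = 0 then .V (m / 2) bit else .W m bit

theorem eq_nodeAt {b : Blk} (hb : b.Node) : b = nodeAt b.ord b.bit := by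
  cases b with
  | V k b => simp [nodeAt, Blk.ord, Blk.bit]
  | W e b =>
    have : e % 2 = 1 := Nat.odd_iff.1 hb
    simp [nodeAt, Blk.ord, Blk.bit, this]

theorem nodeAt_twin (m : ℕ) (bit : Bool) : (nodeAt m bit).twin = nodeAt m (!bit) := by
  unfold nodeAt; split_ifs <;> rfl

open _root_.Classical in
/-- The lowest node. -/
noncomputable def lowNode (M : Multiset Blk) : ℕ :=
  if h : ∃ m, ∃ b ∈ M, b.Node ∧ b.ord = m then Nat.find h else 0

open _root_.Classical in
/-- The block whose bit is changed. -/
noncomputable def pick (M : Multiset Blk) : Blk :=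
  if nodeAt (lowNode M) true ∈ M then nodeAt (lowNode M) true else nodeAt (lowNode M) false

/-- The multiset with one bit changed. -/
noncomputable def flipM (M : Multiset Blk) : Multiset Blk := (pick M).twin ::ₘ M.erase (pick M)

variable {M : Multiset Blk}

theorem lowNode_spec (hn : ¬NoNode M) (hR : Red 0 M) :
    pick M ∈ M ∧ (pick M).Node ∧ (pick M).ord = lowNode M ∧ ∀ b ∈ M, b.Node → lowNode M ≤ b.ord := by
  classical
  have hex : ∃ m, ∃ b ∈ M, b.Node ∧ b.ord = m := by
    simp only [NoNode, not_forall, not_exists] at hn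
    obtain ⟨b, hb, hne⟩ := hn
    refine ⟨b.ord, b, hb, ?_, rfl⟩
    cases b with
    | V k b => trivial
    | W e bit =>
      rcases Nat.even_or_odd e with ⟨k, rfl⟩ | h
      · cases bit with
        | false => exact absurd (by rw [two_mul]) (hne k)
        | true =>
          obtain ⟨j, hj, -⟩ := (hR.ok _ hb).2 rfl
          omega
      · exact h
  have hlow : lowNode M = Nat.find hex := dif_pos hex
  obtain ⟨b, hb, hbn, hbo⟩ : ∃ b ∈ M, b.Node ∧ b.ord = lowNode M := hlow ▸ Nat.find_spec hex
  have hb' := eq_nodeAt hbn
  rw [hbo] at hb'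
  have hp : pick M ∈ M ∧ ∃ bit, pick M = nodeAt (lowNode M) bit := by
    unfold pick
    split_ifs with h
    · exact ⟨h, _, rfl⟩
    · cases hbit : b.bit with
      | true => exact absurd (by rw [← hbit, ← hb']; exact hb) h
      | false => exact ⟨by rw [← hbit, ← hb']; exact hb, _, rfl⟩
  obtain ⟨hp1, bit, hp2⟩ := hp
  have hx : (nodeAt (lowNode M) bit).Node ∧ (nodeAt (lowNode M) bit).ord = lowNode M := by
    cases b with
    | V k bb =>
      have : lowNode M = 2 * k := hbo.symm
      simp [nodeAt, this, Blk.Node, Blk.ord]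
    | W e bb =>
      have he : lowNode M = e := hbo.symm
      have : e % 2 = 1 := Nat.odd_iff.1 hbn
      simp [nodeAt, he, this, Blk.Node, Blk.ord, Nat.odd_iff]
  exact ⟨hp1, hp2 ▸ hx.1, hp2 ▸ hx.2, fun b' hb'' hn' => hlow ▸ Nat.find_le ⟨b', hb'', hn', rfl⟩⟩

theorem flip_props (hn : ¬NoNode M) (hR : Red 0 M) :
    Red 0 (flipM M) ∧ ((flipM M).map Blk.wt).sum = (M.map Blk.wt).sum ∧ blkSign (flipM M) = -blkSign M ∧
      flipM (flipM M) = M := by
  classical
  obtain ⟨hx, hxn, hxo, hmin⟩ := lowNode_spec hn hR
  obtain ⟨x, hxdef⟩ : ∃ x, pick M = x := ⟨_, rfl⟩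
  rw [hxdef] at hx hxn hxo
  have hM : M = x ::ₘ M.erase x := (Multiset.cons_erase hx).symm
  have hF : flipM M = x.twin ::ₘ M.erase x := by rw [flipM, hxdef]
  have hmemF : ∀ b ∈ flipM M, b = x.twin ∨ b ∈ M := fun b hb => by
    rw [hF, Multiset.mem_cons] at hb
    exact hb.imp id Multiset.mem_of_mem_erase
  have hxb : x = nodeAt (lowNode M) x.bit := by rw [← hxo]; exact eq_nodeAt hxn
  have hcount : ∀ b, b ≠ x → b ≠ x.twin → (flipM M).count b = M.count b := fun b h1 h2 => by
    rw [hF, Multiset.count_cons_of_ne h2, Multiset.count_erase_of_ne h1]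
  have hwt : ((flipM M).map Blk.wt).sum = (M.map Blk.wt).sum := by
    conv_rhs => rw [hM]
    rw [hF, Multiset.map_cons, Multiset.map_cons, Multiset.sum_cons, Multiset.sum_cons, x.twin_wt]
  have hlow : lowNode (flipM M) = lowNode M := by
    have hiff : ∀ m, (∃ b ∈ flipM M, b.Node ∧ b.ord = m) ↔ ∃ b ∈ M, b.Node ∧ b.ord = m := by
      intro m
      constructor
      · rintro ⟨b, hb, hb1, hb2⟩
        rcases hmemF b hb with rfl | hb'
        · exact ⟨x, hx, x.twin_node.1 hb1, x.twin_ord ▸ hb2⟩
        · exact ⟨b, hb', hb1, hb2⟩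
      · rintro ⟨b, hb, hb1, hb2⟩
        rw [hM, Multiset.mem_cons] at hb
        rcases hb with rfl | hb
        · exact ⟨b.twin, hF ▸ Multiset.mem_cons_self _ _, b.twin_node.2 hb1, b.twin_ord.trans hb2⟩
        · exact ⟨b, hF ▸ Multiset.mem_cons_of_mem hb, hb1, hb2⟩
    unfold lowNode
    simp only [hiff]
  have hT : ∀ m, M.count (nodeAt m true) ≤ 1 := fun m => hR.bit _ (by unfold nodeAt; split_ifs <;> rfl)
  refine ⟨⟨fun b hb => ?_, fun b hb => ?_, fun k => ?_, fun k b hk => ?_, fun k b hk => ?_⟩, hwt, ?_, ?_⟩
  · rcases hmemF b hb with rfl | hb'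
    · have hok := hR.ok x hx
      cases x with
      | V k bb => exact ⟨hok.1, fun _ => hok.1⟩
      | W e bb =>
        obtain ⟨j, hj⟩ := hxn
        exact ⟨hok.1, fun _ => ⟨j, hj, Nat.zero_le _⟩⟩
    · exact hR.ok b hb'
  · by_cases h1 : b = x
    · subst h1
      rw [hF, Multiset.count_cons_of_ne (fun h => by
        have h' := congrArg Blk.bit h
        rw [Blk.twin_bit, hb] at h'
        exact Bool.noConfusion h')]
      exact (Multiset.count_le_of_le _ (Multiset.erase_le _ _)).trans (hR.bit b hb)
    · by_cases h2 : b = x.twin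
      · have hxf : x.bit = false := by
          subst h2
          rw [Blk.twin_bit] at hb
          simpa using hb
        have h0 : M.count b = 0 := by
          rw [Multiset.count_eq_zero]
          intro hmem
          have hbn : b = nodeAt (lowNode M) true := by
            rw [h2, hxb, nodeAt_twin, hxf]
            rfl
          have : x.bit = true := by
            rw [← hxdef, pick, if_pos (hbn ▸ hmem)]
            unfold nodeAt
            split_ifs <;> rfl
          rw [hxf] at this
          exact Bool.false_ne_true this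
        rw [hF, h2, Multiset.count_cons_self, Multiset.count_erase_of_ne (h2 ▸ h1), ← h2, h0]
      · rw [hcount b h1 h2]; exact hR.bit b hb
  · have key : (flipM M).count (.V k false) + (flipM M).count (.V k true) =
        M.count (.V k false) + M.count (.V k true) := by
      conv_rhs => rw [hM]
      rw [hF]
      cases x with
      | V k' bb =>
        by_cases hk : k = k'
        · subst hk
          cases bb <;> simp [Blk.twin] <;> omega
        · simp [Blk.twin, hk]
      | W e bb => simp [Blk.twin]
    rw [key]
    exact hR.two k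
  · have hlowk : Blk.V (k - 1) b ∉ flipM M ∧ Blk.W (2 * (k - 1) + 1) b ∉ flipM M ↔ True := by
      rw [iff_true]
      have mem_kind : ∀ c : Blk, c ∈ flipM M → c ∈ M ∨ c.twin ∈ M := fun c hc => by
        rcases hmemF c hc with rfl | h
        · exact Or.inr (x.twin_twin.symm ▸ hx)
        · exact Or.inl h
      rcases hmemF _ hk with hk' | hk'
      · have hxV : x = .V k false := by rw [← x.twin_twin, ← hk']; rfl
        have hk1 : 1 ≤ k := by have := (hR.ok x hx); rw [hxV] at this; exact this.1
        have h2k : lowNode M = 2 * k := by rw [← hxo, hxV]; rfl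
        refine ⟨fun h => ?_, fun h => ?_⟩
        · rcases mem_kind _ h with h' | h' <;>
          · have := hmin _ h' trivial
            simp [Blk.ord, Blk.twin] at this
            omega
        · rcases mem_kind _ h with h' | h' <;>
          · have := hmin _ h' (⟨k - 1, rfl⟩ : Odd (2 * (k - 1) + 1))
            simp [Blk.ord, Blk.twin] at this
            omega
      · refine ⟨fun h => ?_, fun h => ?_⟩
        · rcases mem_kind _ h with h' | h'
          · exact (hR.headV k b hk').1 h'
          · exact (hR.headV k (!b) hk').1 h'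
        · rcases mem_kind _ h with h' | h'
          · exact (hR.headV k b hk').2 h'
          · exact (hR.headV k (!b) hk').2 h'
    exact hlowk.2 trivial
  · intro h
    have mem_kind : Blk.V k b ∈ M ∨ Blk.V k (!b) ∈ M := by
      rcases hmemF _ h with h' | h'
      · refine Or.inr ?_
        have : x = .V k (!b) := by rw [← x.twin_twin, ← h']; rfl
        exact this ▸ hx
      · exact Or.inl h'
    rcases hmemF _ hk with hk' | hk'
    · have hxW : x = .W (2 * k + 1) false := by rw [← x.twin_twin, ← hk']; rfl
      have h2k : lowNode M = 2 * k + 1 := by rw [← hxo, hxW]; rfl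
      rcases mem_kind with h' | h' <;>
      · have := hmin _ h' trivial
        simp [Blk.ord] at this
        omega
    · rcases mem_kind with h' | h'
      · exact hR.headW k b hk' h'
      · exact hR.headW k (!b) hk' h'
  · conv_rhs => rw [hM]
    rw [hF, blkSign, blkSign, Multiset.map_cons, Multiset.map_cons, Multiset.prod_cons, Multiset.prod_cons,
      x.twin_bit, bitSign_not]
    ring
  · have hpick : pick (flipM M) = x.twin := by
      rw [pick, hlow]
      cases hb : x.bit with
      | true =>
        have hxT : x = nodeAt (lowNode M) true := hb ▸ hxb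
        have h0 : nodeAt (lowNode M) true ∉ flipM M := by
          rw [hF, ← hxT, Multiset.mem_cons, not_or]
          refine ⟨fun h => ?_, ?_⟩
          · have := congrArg Blk.bit h
            rw [x.twin_bit, hb] at this
            exact Bool.noConfusion this
          · rw [← Multiset.count_eq_zero, Multiset.count_erase_self]
            have := hT (lowNode M)
            rw [← hxT] at this
            omega
        rw [if_neg h0]
        conv_rhs => rw [hxT, nodeAt_twin]
        rfl
      | false =>
        have hxF : x = nodeAt (lowNode M) false := hb ▸ hxb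
        have ht : x.twin = nodeAt (lowNode M) true := by rw [hxF, nodeAt_twin]; rfl
        rw [if_pos (by rw [hF, ht]; exact Multiset.mem_cons_self _ _), ht]
    rw [flipM, hpick, hF, Multiset.erase_cons_head, x.twin_twin, ← hM]

end CfsgLib.ClassNumberEven
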