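import Cfsg.Agent.Lib.KnownA.ClassNumberEven.Classes
import Cfsg.Agent.Lib.KnownA.ClassNumberEven.Bound
import Cfsg.Agent.Lib.KnownA.ClassNumberForm.Symp

/-!
# The class number of the symplectic group in characteristic two
-/

set_option autoImplicit false
set_option linter.unusedSectionVars false

open Module Polynomial

namespace CfsgLib.ClassNumberEven

open CfsgLib.Classical

variable {F : Type*} [Field F] [CharP F 2] [Fintype F]

/-- The labels of classes. -/
abbrev ClassLab (F : Type*) [Field F] [CharP F 2] (n : ℕ) :=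
  Σ M : RedLab n, RTup F (2 * n) (n - (M.1.map Blk.wt).sum)

theorem card_classLab_le (n : ℕ) :
    Finite (ClassLab F n) ∧ 5 * Nat.card (ClassLab F n) ≤ 76 * Fintype.card F ^ n := by
  classical
  haveI := finite_redLab (n := n)
  haveI := Fintype.ofFinite (RedLab n)
  haveI : ∀ M : RedLab n, Finite (RTup F (2 * n) (n - (M.1.map Blk.wt).sum)) := fun M => (card_rtup _ _).1
  refine ⟨inferInstance, ?_⟩
  set q := Fintype.card F
  have hq : 2 ≤ q := Fintype.one_lt_card
  have hz1 : (q : ℚ)⁻¹ ≤ 1 / 2 := by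
    rw [one_div]; exact inv_anti₀ (by norm_num) (by exact_mod_cast hq)
  have h1 : (Nat.card (ClassLab F n) : ℚ) ≤ 76 / 5 * (q : ℚ) ^ n := by
    rw [Nat.card_sigma, Nat.cast_sum]
    refine (Finset.sum_le_sum fun M _ => (Nat.cast_le.2 (card_rtup (F := F) _ _).2).trans
      (le_of_eq (?_ : _ = (q : ℚ) ^ n * ((q : ℚ)⁻¹) ^ (M.1.map Blk.wt).sum))).trans ?_
    · obtain ⟨r, hr⟩ : ∃ r, n = r + (M.1.map Blk.wt).sum := ⟨_, (Nat.sub_add_cancel M.2.2).symm⟩
      rw [show n - (M.1.map Blk.wt).sum = r by omega, Nat.cast_pow, inv_pow]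
      have hq' : (q : ℚ) ^ n = (q : ℚ) ^ r * (q : ℚ) ^ (M.1.map Blk.wt).sum := by rw [← pow_add, ← hr]
      rw [hq']
      rw [mul_inv_cancel_right₀ (pow_ne_zero _ (by positivity))]
    · rw [← Finset.mul_sum, mul_comm]
      exact mul_le_mul_of_nonneg_right (sum_redLab_le (by positivity) hz1) (by positivity)
  have h2 : (5 : ℚ) * Nat.card (ClassLab F n) ≤ 76 * (q : ℚ) ^ n := by linarith
  exact_mod_cast h2

theorem card_classes_even_le {V : Type*} [AddCommGroup V] [Module F V] [FiniteDimensional F V]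
    {B : V →ₗ[F] V →ₗ[F] F} (halt : ∀ x, B x x = 0) (hN : ∀ v, (∀ w, B w v = 0) → v = 0) {n : ℕ}
    (hdim : finrank F V = 2 * n) :
    5 * Nat.card (ConjClasses (isomGroup B)) ≤ 76 * Fintype.card F ^ n := by
  classical
  obtain ⟨δ, hδ⟩ := exists_notWp (F := F)
  have H : ∀ g : isomGroup B, IsoAlt B g.1 := fun g => ⟨halt, g.2⟩
  choose M b hR hle hpal hsum hspec using fun g : isomGroup B => exists_spec (setting_of (H g)) le_rfl hN hδ hdim
  let rep : ConjClasses (isomGroup B) → isomGroup B := fun C => C.exists_rep.choose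
  let L : ConjClasses (isomGroup B) → ClassLab F n := fun C =>
    ⟨⟨M (rep C), hR _, hle _⟩, ⟨b (rep C), hpal _, hsum _⟩⟩
  have hL : Function.Injective L := by
    intro C C' h
    have e1 : M (rep C) = M (rep C') := congrArg (fun p : ClassLab F n => p.1.1) h
    have e2 : b (rep C) = b (rep C') := congrArg (fun p : ClassLab F n => p.2.1) h
    obtain ⟨f, hf, -, hfu⟩ := exists_intertwine_of_spec (setting_of (H (rep C))) (setting_of (H (rep C'))) le_rfl hN
      (hspec (rep C))
      (e1 ▸ e2 ▸ hspec (rep C'))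
    rw [← C.exists_rep.choose_spec, ← C'.exists_rep.choose_spec, ConjClasses.mk_eq_mk_iff_isConj]
    refine isConj_iff.2 ⟨⟨f, hf⟩, ?_⟩
    rw [mul_inv_eq_iff_eq_mul]
    exact Subtype.ext (LinearEquiv.ext hfu)
  haveI := (card_classLab_le (F := F) n).1
  exact le_trans (Nat.mul_le_mul_left 5 (Nat.card_le_card_of_injective L hL)) (card_classLab_le n).2

/-- The class number bounds for `Sp(2n, q)`, `q` even. -/
theorem symplectic_bounds_even (n : ℕ) :
    Fintype.card F ^ n ≤ Nat.card (ConjClasses (Matrix.symplecticGroup (Fin n) F)) ∧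
      5 * Nat.card (ConjClasses (Matrix.symplecticGroup (Fin n) F)) ≤ 76 * Fintype.card F ^ n := by
  classical
  constructor
  · let em : {Q : Polynomial F // Q.Monic ∧ Q.natDegree = n} ≃ (Fin n → F) :=
      (Polynomial.monicEquivDegreeLT n).trans (Polynomial.degreeLTEquiv F n).toEquiv
    choose g hg using fun Q : {Q : Polynomial F // Q.Monic ∧ Q.natDegree = n} =>
      CfsgLib.Involution.SpSemisimple.exists_symplectic_charpoly Q.2.1 Q.2.2
    have hinj : Function.Injective (fun a => ConjClasses.mk (g (em.symm a))) := by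
      intro a a' h
      obtain ⟨c, hc⟩ := isConj_iff.1 (ConjClasses.mk_eq_mk_iff_isConj.1 h)
      refine em.symm.injective (Subtype.ext
        (CfsgLib.Involution.SpSemisimple.sum_injective (em.symm a).2.2.le (em.symm a').2.2.le ?_))
      rw [← hg, ← hg, ← hc, Submonoid.coe_mul, Submonoid.coe_mul, Matrix.charpoly_mul_comm,
        ← Matrix.mul_assoc, sp_inv_mul, Matrix.one_mul]
    refine le_trans (le_of_eq ?_) (Nat.card_le_card_of_injective _ hinj)
    rw [Nat.card_eq_fintype_card, Fintype.card_fun, Fintype.card_fin]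
  · rw [ClassNumberForm.card_conjClasses_congr (spEquiv n)]
    refine card_classes_even_le (B := sympBil F n) (fun x => sympBil_isAlt n x) (fun v hv => (sympBil_nondegenerate n).2 v hv) ?_
    rw [Module.finrank_fintype_fun_eq_card, Fintype.card_sum, Fintype.card_fin]
    omega

end CfsgLib.ClassNumberEven
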