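import Cfsg.Agent.Lib.KnownA.ClassNumberEven.Span

/-!
# Normal tables of one block
-/

set_option autoImplicit false
set_option linter.unusedSectionVars false

open Module

namespace CfsgLib.ClassNumberEven

variable {F : Type*} [Field F] [CharP F 2] {V : Type*} [AddCommGroup V] [Module F V]
  {B : V →ₗ[F] V →ₗ[F] F} {u : V ≃ₗ[F] V} {Q : V → F} {lo : ℕ}

/-- `δ` is not of the form `t ^ 2 + t`. -/
def NotWp (δ : F) : Prop := ∀ t : F, t ^ 2 + t ≠ δ

theorem exists_sq [Finite F] (a : F) : ∃ t : F, t ^ 2 = a := by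
  haveI := Fintype.ofFinite F
  obtain ⟨t, ht⟩ := FiniteField.isSquare_of_char_two (ringChar.eq F 2) a
  exact ⟨t, by rw [ht, pow_two]⟩

/-- The Artin-Schreier map. -/
def wpHom : F →+ F where
  toFun t := t ^ 2 + t
  map_zero' := by simp
  map_add' a b := by rw [CharTwo.add_sq]; ring

theorem wpHom_apply (t : F) : wpHom t = t ^ 2 + t := rfl

theorem index_wp [Finite F] : (wpHom (F := F)).range.index = 2 := by
  have hk : Nat.card (wpHom (F := F)).ker = 2 := by
    have h : ((wpHom (F := F)).ker : Set F) = {0, 1} := by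
      ext t
      simp only [SetLike.mem_coe, AddMonoidHom.mem_ker, wpHom_apply, Set.mem_insert_iff, Set.mem_singleton_iff]
      constructor
      · intro ht
        have h2 : t * (t + 1) = 0 := by linear_combination ht
        exact (mul_eq_zero.1 h2).imp id CharTwo.add_eq_zero.1
      · rintro (rfl | rfl) <;> simp [CharTwo.add_self_eq_zero]
    show Nat.card ((wpHom (F := F)).ker : Set F) = 2
    rw [h, Nat.card_coe_set_eq, Set.ncard_pair zero_ne_one]
  have h1 := AddSubgroup.card_mul_index (wpHom (F := F)).ker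
  have h2 := AddSubgroup.card_mul_index (wpHom (F := F)).range
  rw [AddSubgroup.index_ker, hk] at h1
  rw [← h1, mul_comm 2] at h2
  exact Nat.eq_of_mul_eq_mul_left Nat.card_pos h2

theorem exists_notWp [Finite F] : ∃ δ : F, NotWp δ := by
  by_contra h
  simp only [NotWp, not_exists, not_forall, not_not] at h
  have htop : (wpHom (F := F)).range = ⊤ := (AddSubgroup.eq_top_iff' _).2 fun a =>
    (h a).imp fun t ht => ht
  have := index_wp (F := F)
  rw [htop, AddSubgroup.index_top] at this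
  omega

theorem wp_dichotomy [Finite F] {δ : F} (hδ : NotWp δ) (a : F) :
    (∃ t : F, t ^ 2 + t = a) ∨ ∃ t : F, t ^ 2 + t = a + δ := by
  refine or_iff_not_imp_left.2 fun h => ?_
  exact (AddSubgroup.add_mem_iff_of_index_two (index_wp (F := F))).2
    ⟨fun h1 => absurd h1 h, fun h2 => by obtain ⟨t, ht⟩ := h2; exact absurd ht (hδ t)⟩

variable (B u Q lo) in
/-- The normal table of a single generator of a block of size `2 k`. -/
def VStd (δ : F) (k : ℕ) (bit : Bool) (x : V) : Prop :=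
  (nOp u ^ (2 * k)) x = 0 ∧
    ∀ i, lo ≤ i → tower B u Q i x = if i = k then 1 else if i + 1 = k ∧ bit = true then δ else 0

variable (B u Q lo) in
/-- The normal table of two generators of a block of sizes `e`, `e`. -/
def WStd (δ : F) (e : ℕ) (bit : Bool) (x y : V) : Prop :=
  (nOp u ^ e) x = 0 ∧ (nOp u ^ e) y = 0 ∧
    (∀ d, B ((nOp u ^ d) x) y = if d + 1 = e then 1 else 0) ∧
    ∀ i, lo ≤ i → tower B u Q i x = (if bit = true ∧ 2 * i + 1 = e then 1 else 0) ∧
      tower B u Q i y = (if bit = true ∧ 2 * i + 1 = e then δ else 0)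

theorem n_pow_smul_add {e : ℕ} {a b : V} (ha : (nOp u ^ e) a = 0) (hb : (nOp u ^ e) b = 0) (c : F) :
    (nOp u ^ e) (a + c • b) = 0 := by
  rw [map_add, map_smul, ha, hb, smul_zero, add_zero]

theorem n_pow_n_pow {e r : ℕ} {b : V} (hb : (nOp u ^ e) b = 0) : (nOp u ^ e) ((nOp u ^ r) b) = 0 := by
  rw [← Module.End.mul_apply, ← pow_add]
  exact n_pow_eq_zero_of_le u (by omega) hb

/-- The tower at a linear combination. -/
theorem tower_smul_add (S : Setting B u Q lo) {i : ℕ} (hi : lo ≤ i) (a b : V) (c : F) :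
    tower B u Q i (a + c • b) = tower B u Q i a + c ^ 2 * tower B u Q i b + c * B ((mOp u ^ i) a) b := by
  rw [tower_add S hi, tower_smul S hi, map_smul, smul_eq_mul]

theorem v_step [FiniteDimensional F V] [Finite F] (S : Setting B u Q lo) {W : Submodule F V} (hW : Inv u W)
    {k j : ℕ} (hj : lo ≤ j) (hjk : j + 2 ≤ k) {x : V} (hxW : x ∈ W) (hx : (nOp u ^ (2 * k)) x = 0)
    (hk : tower B u Q k x = 1) :
    ∃ x' ∈ W, (nOp u ^ (2 * k)) x' = 0 ∧ tower B u Q j x' = 0 ∧
      ∀ i, j < i → tower B u Q i x' = tower B u Q i x := by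
  have hbig : ∀ i, k < i → tower B u Q i x = 0 := fun i hi => tower_eq_zero S hx (by omega)
  rcases eq_or_lt_of_le hjk with hd | hd
  · obtain ⟨c, hc⟩ := exists_sq (tower B u Q j x)
    have key : ∀ i, lo ≤ i → tower B u Q i (x + c • mOp u x) =
        tower B u Q i x + c ^ 2 * tower B u Q (i + 2) x := by
      intro i hi
      rw [tower_smul_add S hi, tower_m S hi, ← S.m_left, ← Module.End.mul_apply, ← pow_succ', S.m_pow_self,
        mul_zero, add_zero]
    refine ⟨x + c • mOp u x, W.add_mem hxW (W.smul_mem c (hW.m hxW)), n_pow_smul_add hx ?_ c, ?_,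
      fun i hi => ?_⟩
    · rw [← Module.End.mul_apply, ((commute_n_m u).pow_left _).eq, Module.End.mul_apply, hx, map_zero]
    · rw [key j hj, show j + 2 = k by omega, hk, mul_one, hc, CharTwo.add_self_eq_zero]
    · rw [key i (by omega), hbig (i + 2) (by omega), mul_zero, add_zero]
  · obtain ⟨t, ht⟩ : ∃ t, k = j + t + 3 := ⟨k - j - 3, by omega⟩
    set c := tower B u Q j x
    have key : ∀ i, j ≤ i → tower B u Q i (x + c • (mOp u ^ (t + 2)) (u x)) =
        tower B u Q i x + c * tower B u Q (i + (t + 3)) x := by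
      intro i hi
      rw [tower_smul_add S (hj.trans hi), tower_m_pow S (hj.trans hi), tower_u S (by omega),
        hbig (i + 2 * (t + 2)) (by omega), mul_zero, add_zero, show i + (t + 3) = (t + 2 + i) + 1 by omega,
        tower_succ, ← S.m_pow_left (t + 2), ← Module.End.mul_apply, ← pow_add, S.m_pow_left, S.symm]
    refine ⟨x + c • (mOp u ^ (t + 2)) (u x), W.add_mem hxW (W.smul_mem c (hW.m_pow _ (hW x hxW))),
      n_pow_smul_add hx ?_ c, ?_, fun i hi => ?_⟩
    · rw [← Module.End.mul_apply, ((commute_n_m u).pow_pow _ _).eq, Module.End.mul_apply,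
        show (nOp u ^ (2 * k)) (u x) = u ((nOp u ^ (2 * k)) x) from
          (LinearMap.congr_fun ((commute_u_n u).pow_right _).eq x).symm, hx, map_zero, map_zero]
    · rw [key j le_rfl, show j + (t + 3) = k by omega, hk, mul_one, CharTwo.add_self_eq_zero]
    · rw [key i hi.le, hbig (i + (t + 3)) (by omega), mul_zero, add_zero]

theorem v_normal [FiniteDimensional F V] [Finite F] (S : Setting B u Q lo) {W : Submodule F V} (hW : Inv u W)
    {k : ℕ} {x : V} (hxW : x ∈ W) (hx : (nOp u ^ (2 * k)) x = 0) (hk : tower B u Q k x = 1) : ∀ t : ℕ,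
    ∃ x' ∈ W, (nOp u ^ (2 * k)) x' = 0 ∧ (∀ i, k ≤ i + 1 → tower B u Q i x' = tower B u Q i x) ∧
      ∀ i, lo ≤ i → i + 2 ≤ k → k < i + 2 + t → tower B u Q i x' = 0
  | 0 => ⟨x, hxW, hx, fun _ _ => rfl, fun i _ h1 h2 => by omega⟩
  | t + 1 => by
    obtain ⟨x', hx'W, hx', htop, hlow⟩ := v_normal S hW hxW hx hk t
    by_cases hjk : lo + 2 + t ≤ k
    · obtain ⟨x'', hW'', hx'', hz, hkeep⟩ := v_step S hW (j := k - 2 - t) (k := k) (by omega) (by omega) hx'W hx'
        (by rw [htop k (by omega), hk])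
      refine ⟨x'', hW'', hx'', fun i hi => by rw [hkeep i (by omega), htop i hi], fun i h0 h1 h2 => ?_⟩
      rcases eq_or_lt_of_le (show k ≤ i + 2 + t by omega) with h | h
      · rwa [show i = k - 2 - t by omega]
      · rw [hkeep i (by omega), hlow i h0 h1 h]
    · exact ⟨x', hx'W, hx', htop, fun i h0 h1 h2 => hlow i h0 h1 (by omega)⟩

/-- A block of size `2 k` with normal table; its bit is forced only if nothing links to it. -/
theorem exists_vblock [FiniteDimensional F V] [Finite F] (S : Setting B u Q lo) (hlo : lo ≤ 1) {δ : F}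
    (hδ : NotWp δ) {W : Submodule F V} (hW : Inv u W) {k : ℕ} (hk : 1 ≤ k)
    (hWe : ∀ x ∈ W, (nOp u ^ (2 * k)) x = 0) {x₀ : V} (hx₀W : x₀ ∈ W) (hx₀ : tower B u Q k x₀ ≠ 0) :
    ∃ bit x, x ∈ W ∧ VStd B u Q lo δ k bit x ∧ (bit = true → lo + 1 ≤ k ∧
      ∀ z ∈ W, z ∈ perp B (orb u ![x]) → tower B u Q k z = 0 → tower B u Q (k - 1) z = 0) := by
  have hklo : lo ≤ k := by omega
  obtain ⟨c, hc⟩ := exists_sq (tower B u Q k x₀)⁻¹
  set x₁ := c • x₀
  have hx₁W : x₁ ∈ W := W.smul_mem c hx₀W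
  have hx₁ : tower B u Q k x₁ = 1 := by rw [tower_smul S hklo, hc, inv_mul_cancel₀ hx₀]
  have fin : ∀ (bit : Bool) (x : V), x ∈ W → tower B u Q k x = 1 →
      (lo + 1 ≤ k → tower B u Q (k - 1) x = if bit = true then δ else 0) →
      ∃ x', x' ∈ W ∧ VStd B u Q lo δ k bit x' := by
    intro bit x hxW hxk hxe
    obtain ⟨x', hx'W, hx', htop, hlow⟩ := v_normal S hW hxW (hWe x hxW) hxk k
    refine ⟨x', hx'W, hx', fun i hi => ?_⟩
    rcases lt_trichotomy i k with h | h | h
    · rw [if_neg h.ne]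
      by_cases h1 : i + 1 = k
      · have h2 : i = k - 1 := by omega
        rw [htop i (by omega), h2, hxe (by omega)]
        simp [show k - 1 + 1 = k by omega]
      · rw [if_neg (by simp [h1]), hlow i hi (by omega) (by omega)]
    · rw [if_pos h, h, htop k (by omega), hxk]
    · rw [if_neg h.ne', if_neg (by rintro ⟨h', -⟩; omega), tower_eq_zero S hx' (by omega)]
  have adj : ∀ x ∈ W, tower B u Q k x = 1 → lo + 1 ≤ k → ∀ γ : F, ∃ x' ∈ W, tower B u Q k x' = 1 ∧
      tower B u Q (k - 1) x' = tower B u Q (k - 1) x + (γ ^ 2 + γ) := by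
    intro x hxW hxk h γ
    refine ⟨x + γ • nOp u x, W.add_mem hxW (W.smul_mem γ (hW.n hxW)), ?_, ?_⟩
    · rw [tower_smul_add S hklo, m_pow_zero u (hWe x hxW), map_zero, LinearMap.zero_apply, mul_zero, add_zero,
        tower_n S hklo, tower_eq_zero S (hWe x hxW) (j := k + 1) (by omega), mul_zero, add_zero, hxk]
    · rw [tower_smul_add S (by omega), tower_n S (by omega), show k - 1 + 1 = k by omega, hxk, mul_one,
        S.m_pow_left, S.symm x, nOp_apply, map_add (mOp u ^ (k - 1)), map_add, LinearMap.add_apply, S.m_pow_self,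
        add_zero, ← tower_succ (Q := Q), show k - 1 + 1 = k by omega, hxk, mul_one, add_assoc]
  by_cases hl : lo + 1 ≤ k
  · by_cases hA : ∃ x ∈ W, tower B u Q k x = 1 ∧ ∃ γ, γ ^ 2 + γ = tower B u Q (k - 1) x
    · obtain ⟨x, hxW, hxk, γ, hγ⟩ := hA
      obtain ⟨x', hx'W, hx'k, hx'e⟩ := adj x hxW hxk hl γ
      obtain ⟨x'', h1, h2⟩ := fin false x' hx'W hx'k (fun _ => by
        rw [hx'e, hγ, CharTwo.add_self_eq_zero]; rfl)
      exact ⟨false, x'', h1, h2, fun h => absurd h (by decide)⟩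
    · obtain ⟨γ, hγ⟩ := (wp_dichotomy hδ (tower B u Q (k - 1) x₁)).resolve_left
        fun ⟨γ, hγ⟩ => hA ⟨x₁, hx₁W, hx₁, γ, hγ⟩
      obtain ⟨x', hx'W, hx'k, hx'e⟩ := adj x₁ hx₁W hx₁ hl γ
      obtain ⟨x'', h1, h2⟩ := fin true x' hx'W hx'k (fun _ => by
        rw [hx'e, hγ, ← add_assoc, CharTwo.add_self_eq_zero, zero_add]; rfl)
      refine ⟨true, x'', h1, h2, fun _ => ⟨hl, fun z hzW hzp hzk => by_contra fun hz => hA ?_⟩⟩
      obtain ⟨c, hc⟩ := exists_sq (δ / tower B u Q (k - 1) z)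
      have e1 := h2.2 k hklo
      have e2 := h2.2 (k - 1) (by omega)
      rw [if_pos rfl] at e1
      rw [if_neg (by omega), if_pos ⟨by omega, rfl⟩] at e2
      refine ⟨x'' + c • z, W.add_mem h1 (W.smul_mem c hzW), ?_, 0, ?_⟩
      · rw [tower_smul_add S hklo, m_pow_zero u h2.1, hzk, map_zero, LinearMap.zero_apply, mul_zero, mul_zero,
          add_zero, add_zero, e1]
      · have hcross : B ((mOp u ^ (k - 1)) x'') z = 0 := by
          rw [S.symm]
          exact mem_perp.1 hzp _ ((inv_orb u ![x'']).m_pow _ (by simpa using mem_orb u ![x''] 0))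
        rw [tower_smul_add S (by omega), hcross, e2, hc, div_mul_cancel₀ _ hz, CharTwo.add_self_eq_zero,
          mul_zero, add_zero]
        ring
  · obtain ⟨x'', h1, h2⟩ := fin false x₁ hx₁W hx₁ (fun h => absurd h hl)
    exact ⟨false, x'', h1, h2, fun h => absurd h (by decide)⟩

/-- Vanishing of the tower from half of the order on, for isotropic top vectors. -/
theorem tower_half (S : Setting B u Q lo) {e j : ℕ} (he : 1 ≤ e) {x : V} (hx : (nOp u ^ e) x = 0)
    (hd : B ((nOp u ^ (e - 1)) x) x = 0) (hj : e ≤ 2 * j) : tower B u Q j x = 0 := by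
  rcases eq_or_lt_of_le hj with h | h
  · obtain ⟨j, rfl⟩ : ∃ i, j = i + 1 := ⟨j - 1, by omega⟩
    subst h
    rw [← top_self_even S (Q := Q) (k := j) (by simpa [mul_add] using hx)]
    simpa [mul_add] using hd
  · exact tower_eq_zero S hx h

theorem cross_m (S : IsoAlt B u) {e i r : ℕ} {a b : V} (ha : (nOp u ^ e) a = 0) (hb : (nOp u ^ e) b = 0)
    (h : e ≤ 2 * i + r + 1) :
    B ((mOp u ^ i) a) ((nOp u ^ r) b) = if 2 * i + r + 1 = e then B ((nOp u ^ (e - 1)) a) b else 0 := by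
  rw [S.m_pow_left]
  split_ifs with h1
  · subst h1
    rw [m_pow_n_pow u hb, Nat.add_sub_cancel, S.n_pow_top hb]
  · rw [m_pow_n_pow_zero u (n_pow_eq_zero_of_le u (by omega) hb), map_zero]

theorem cross_n (S : IsoAlt B u) {e d r : ℕ} {a b : V} (hb : (nOp u ^ e) b = 0)
    (h : e ≤ d + r + 1) :
    B ((nOp u ^ d) a) ((nOp u ^ r) b) = if d + r + 1 = e then B ((nOp u ^ (e - 1)) a) b else 0 := by
  split_ifs with h1
  · rw [(top_pairing S hb).2 h1, S.n_pow_top (by rw [Nat.sub_add_cancel (by omega)]; exact hb)]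
  · exact (top_pairing S hb).1 (by omega)

/-- Perturbation by a higher term. -/
theorem kick (S : Setting B u Q lo) {e r i : ℕ} {a b : V} (ha : (nOp u ^ e) a = 0) (hb : (nOp u ^ e) b = 0)
    (hbd : B ((nOp u ^ (e - 1)) b) b = 0) (hr : 1 ≤ r) (hi : lo ≤ i) (h : e ≤ 2 * i + r + 1) (c : F) :
    tower B u Q i (a + c • (nOp u ^ r) b) =
      tower B u Q i a + if 2 * i + r + 1 = e then c * B ((nOp u ^ (e - 1)) a) b else 0 := by
  rw [tower_smul_add S hi, cross_m S.toIsoAlt ha hb h, tower_n_pow S hi]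
  rcases Nat.eq_zero_or_pos e with he | he
  · subst he
    rw [tower_eq_zero S hb (by omega), if_neg (by omega), if_neg (by omega)]
    ring
  rw [tower_half S he hb hbd (by omega)]
  split_ifs <;> ring

/-- The state of the normalisation of a pair. -/
structure Pair (B : V →ₗ[F] V →ₗ[F] F) (u : V ≃ₗ[F] V) (W : Submodule F V) (e : ℕ) (x y : V) : Prop where
  memx : x ∈ W
  memy : y ∈ W
  nx : (nOp u ^ e) x = 0
  ny : (nOp u ^ e) y = 0
  xx : B ((nOp u ^ (e - 1)) x) x = 0
  yy : B ((nOp u ^ (e - 1)) y) y = 0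
  xy : B ((nOp u ^ (e - 1)) x) y = 1

theorem Pair.swap (S : IsoAlt B u) {W : Submodule F V} {e : ℕ} (he : 1 ≤ e) {x y : V} (P : Pair B u W e x y) :
    Pair B u W e y x :=
  ⟨P.memy, P.memx, P.ny, P.nx, P.yy, P.xx, by
    rw [S.n_pow_top (by rw [Nat.sub_add_cancel he]; exact P.nx), S.symm, P.xy]⟩

theorem Pair.kick_right (S : IsoAlt B u) {W : Submodule F V} (hW : Inv u W) {e : ℕ} (he : 1 ≤ e) {x y b : V}
    (P : Pair B u W e x y) (hbW : b ∈ W) (hb : (nOp u ^ e) b = 0) {r : ℕ} (hr : 1 ≤ r) (c : F) :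
    Pair B u W e x (y + c • (nOp u ^ r) b) where
  memx := P.memx
  memy := W.add_mem P.memy (W.smul_mem c (hW.n_pow r hbW))
  nx := P.nx
  ny := n_pow_smul_add P.ny (n_pow_n_pow hb) c
  xx := P.xx
  yy := by
    have h1 : ∀ w, B ((nOp u ^ (e - 1)) w) ((nOp u ^ r) b) = 0 := fun w => (top_pairing S hb).1 (by omega)
    have h2 : (nOp u ^ (e - 1)) ((nOp u ^ r) b) = 0 := by
      rw [← Module.End.mul_apply, ← pow_add]; exact n_pow_eq_zero_of_le u (by omega) hb
    rw [map_add (nOp u ^ (e - 1)), map_smul, h2, smul_zero, add_zero, map_add, P.yy, map_smul, h1, smul_zero,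
      add_zero]
  xy := by
    rw [map_add, P.xy, map_smul, (top_pairing S hb).1 (by omega), smul_zero, add_zero]

/-- Clearing the entries of a pair in descending degree. -/
theorem pair_normal (S : Setting B u Q lo) {W : Submodule F V} (hW : Inv u W) {e : ℕ} (he : 1 ≤ e) {x y : V}
    (P : Pair B u W e x y) : ∀ t : ℕ, ∃ x' y', Pair B u W e x' y' ∧
      (∀ i, lo ≤ i → e ≤ 2 * i + 1 → tower B u Q i x' = tower B u Q i x ∧ tower B u Q i y' = tower B u Q i y) ∧
      (∀ d, d + 1 < e → e ≤ d + 1 + t → B ((nOp u ^ d) x') y' = 0) ∧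
      ∀ i, lo ≤ i → 2 * i + 1 < e → e ≤ 2 * i + 1 + t → tower B u Q i x' = 0 ∧ tower B u Q i y' = 0
  | 0 => ⟨x, y, P, fun _ _ _ => ⟨rfl, rfl⟩, fun d h1 h2 => by omega, fun i _ h1 h2 => by omega⟩
  | t + 1 => by
    obtain ⟨x₁, y₁, P₁, htop, hp, hq⟩ := pair_normal S hW he P t
    by_cases ht : t + 2 ≤ e
    swap
    · exact ⟨x₁, y₁, P₁, htop, fun d h1 h2 => hp d h1 (by omega), fun i h0 h1 h2 => hq i h0 h1 (by omega)⟩
    obtain ⟨r, rfl⟩ : ∃ r, t + 1 = r := ⟨_, rfl⟩
    set r := t + 1 with hr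
    -- the first vector
    set c₁ : F := if h : Even (e - 1 - r) ∧ lo ≤ (e - 1 - r) / 2 then tower B u Q ((e - 1 - r) / 2) x₁ else 0
    set x₂ := x₁ + c₁ • (nOp u ^ r) y₁
    have P₂ : Pair B u W e x₂ y₁ := ((P₁.swap S.toIsoAlt he).kick_right S.toIsoAlt hW he P₁.memy P₁.ny (by omega) c₁).swap
      S.toIsoAlt he
    -- the second vector
    set c₂ : F := if h : Even (e - 1 - r) ∧ lo ≤ (e - 1 - r) / 2 then tower B u Q ((e - 1 - r) / 2) y₁ else 0
    set y₂ := y₁ + c₂ • (nOp u ^ r) x₂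
    have P₃ : Pair B u W e x₂ y₂ := P₂.kick_right S.toIsoAlt hW he P₂.memx P₂.nx (by omega) c₂
    -- the pairing
    set c₃ : F := B ((nOp u ^ (e - 1 - r)) x₂) y₂
    set y₃ := y₂ + c₃ • (nOp u ^ r) y₂
    have P₄ : Pair B u W e x₂ y₃ := P₃.kick_right S.toIsoAlt hW he P₃.memy P₃.ny (by omega) c₃
    have hx2 : ∀ i, lo ≤ i → e ≤ 2 * i + r + 1 → tower B u Q i x₂ =
        tower B u Q i x₁ + if 2 * i + r + 1 = e then c₁ else 0 := by
      intro i hi h
      rw [show x₂ = x₁ + c₁ • (nOp u ^ r) y₁ from rfl, kick S P₁.nx P₁.ny P₁.yy (by omega) hi h, P₁.xy, mul_one]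
    have hy2 : ∀ i, lo ≤ i → e ≤ 2 * i + r + 1 → tower B u Q i y₂ =
        tower B u Q i y₁ + if 2 * i + r + 1 = e then c₂ else 0 := by
      intro i hi h
      rw [show y₂ = y₁ + c₂ • (nOp u ^ r) x₂ from rfl, kick S P₁.ny P₂.nx P₂.xx (by omega) hi h,
        (P₂.swap S.toIsoAlt he).xy, mul_one]
    have hy3 : ∀ i, lo ≤ i → e ≤ 2 * i + r + 1 → tower B u Q i y₃ = tower B u Q i y₂ := by
      intro i hi h
      rw [show y₃ = y₂ + c₃ • (nOp u ^ r) y₂ from rfl, kick S P₃.ny P₃.ny P₃.yy (by omega) hi h, P₃.yy,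
        mul_zero, ite_self, add_zero]
    have hp2 : ∀ d, e ≤ d + r + 1 → B ((nOp u ^ d) x₂) y₂ = B ((nOp u ^ d) x₁) y₁ := by
      intro d h
      have e1 : B ((nOp u ^ d) ((nOp u ^ r) y₁)) y₁ = 0 := by
        rw [← Module.End.mul_apply, ← pow_add]
        rcases eq_or_lt_of_le h with h' | h'
        · rw [show d + r = e - 1 by omega, P₁.yy]
        · rw [n_pow_eq_zero_of_le u (by omega) P₁.ny, map_zero, LinearMap.zero_apply]
      have e2 : B ((nOp u ^ d) x₂) ((nOp u ^ r) x₂) = 0 := by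
        rw [cross_n S.toIsoAlt P₂.nx h, P₂.xx, ite_self]
      rw [show y₂ = y₁ + c₂ • (nOp u ^ r) x₂ from rfl, map_add, map_smul, e2, smul_zero, add_zero,
        show x₂ = x₁ + c₁ • (nOp u ^ r) y₁ from rfl, map_add (nOp u ^ d), map_smul, map_add, map_smul,
        LinearMap.add_apply, LinearMap.smul_apply, e1, smul_zero, add_zero]
    have hp3 : ∀ d, e ≤ d + r + 1 → B ((nOp u ^ d) x₂) y₃ =
        B ((nOp u ^ d) x₂) y₂ + if d + r + 1 = e then c₃ else 0 := by
      intro d h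
      rw [show y₃ = y₂ + c₃ • (nOp u ^ r) y₂ from rfl, map_add, map_smul, cross_n S.toIsoAlt P₃.ny h, P₃.xy,
        smul_eq_mul, mul_ite, mul_one, mul_zero]
    refine ⟨x₂, y₃, P₄, fun i hi h => ?_, fun d h1 h2 => ?_, fun i hi h1 h2 => ?_⟩
    · rw [hy3 i hi (by omega), hy2 i hi (by omega), hx2 i hi (by omega), if_neg (by omega), if_neg (by omega),
        add_zero, add_zero]
      exact htop i hi h
    · rw [hp3 d (by omega)]
      split_ifs with h
      · rw [show c₃ = B ((nOp u ^ (e - 1 - r)) x₂) y₂ from rfl, show e - 1 - r = d by omega,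
          CharTwo.add_self_eq_zero]
      · rw [hp2 d (by omega), hp d h1 (by omega), add_zero]
    · rw [hy3 i hi (by omega), hy2 i hi (by omega), hx2 i hi (by omega)]
      by_cases h : 2 * i + r + 1 = e
      · have hev : Even (e - 1 - r) ∧ lo ≤ (e - 1 - r) / 2 := ⟨⟨i, by omega⟩, by omega⟩
        rw [if_pos h, if_pos h, show c₁ = _ from dif_pos hev, show c₂ = _ from dif_pos hev,
          show (e - 1 - r) / 2 = i by omega, CharTwo.add_self_eq_zero, CharTwo.add_self_eq_zero]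
        exact ⟨rfl, rfl⟩
      · rw [if_neg h, if_neg h, add_zero, add_zero]
        exact hq i hi h1 (by omega)

/-- A block of two generators with normal table; its bit is forced only if nothing links to it. -/
theorem exists_wblock [FiniteDimensional F V] [Finite F] (S : Setting B u Q lo) (hlo : lo ≤ 1) {δ : F}
    (hδ : NotWp δ) {W : Submodule F V} (hW : Inv u W) {e : ℕ} (he : 1 ≤ e) (hWe : ∀ x ∈ W, (nOp u ^ e) x = 0)
    {x₀ y₀ : V} (P₀ : Pair B u W e x₀ y₀) :
    ∃ bit x y, x ∈ W ∧ y ∈ W ∧ WStd B u Q lo δ e bit x y ∧ (bit = true → ∃ k, e = 2 * k + 1 ∧ lo ≤ k ∧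
      ∀ z ∈ W, z ∈ perp B (orb u ![x, y]) → tower B u Q k z = 0) := by
  have fin : ∀ (bit : Bool) (x y : V), Pair B u W e x y →
      (∀ k, e = 2 * k + 1 → lo ≤ k → tower B u Q k x = (if bit = true then 1 else 0) ∧
        tower B u Q k y = if bit = true then δ else 0) →
      ∃ x' y', x' ∈ W ∧ y' ∈ W ∧ WStd B u Q lo δ e bit x' y' := by
    intro bit x y P hk
    obtain ⟨x', y', P', htop, hp, hq⟩ := pair_normal S hW he P e
    refine ⟨x', y', P'.memx, P'.memy, P'.nx, P'.ny, fun d => ?_, fun i hi => ?_⟩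
    · rcases lt_trichotomy (d + 1) e with h | h | h
      · rw [if_neg h.ne, hp d h (by omega)]
      · rw [if_pos h, show d = e - 1 by omega, P'.xy]
      · rw [if_neg h.ne', n_pow_eq_zero_of_le u (by omega) P'.nx, map_zero, LinearMap.zero_apply]
    · rcases lt_trichotomy (2 * i + 1) e with h | h | h
      · rw [if_neg (by simp [h.ne]), if_neg (by simp [h.ne])]
        exact hq i hi h (by omega)
      · obtain ⟨h1, h2⟩ := htop i hi h.ge
        rw [h1, h2, (hk i h.symm hi).1, (hk i h.symm hi).2]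
        simp [h]
      · rw [if_neg (by simp [h.ne']), if_neg (by simp [h.ne'])]
        exact ⟨tower_half S he P'.nx P'.xx (by omega), tower_half S he P'.ny P'.yy (by omega)⟩
  by_cases hk : ∃ k, e = 2 * k + 1 ∧ lo ≤ k
  · obtain ⟨k, hek, hlk⟩ := hk
    subst hek
    have hdiag : ∀ z ∈ W, B ((nOp u ^ (2 * k + 1 - 1)) z) z = 0 := fun z hz => by
      simpa using top_self_odd S (hWe z hz)
    have hcross : ∀ {x y}, Pair B u W (2 * k + 1) x y → B ((mOp u ^ k) x) y = 1 := fun {x y} P => by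
      have := cross_m S.toIsoAlt (i := k) (r := 0) P.nx P.ny (by omega)
      simpa [← P.xy] using this
    by_cases hA : ∃ x y, Pair B u W (2 * k + 1) x y ∧ tower B u Q k x = 0
    · obtain ⟨x, y, P, hx⟩ := hA
      set c := tower B u Q k y
      have P' : Pair B u W (2 * k + 1) x (y + c • x) :=
        ⟨P.memx, W.add_mem P.memy (W.smul_mem c P.memx), P.nx, n_pow_smul_add P.ny P.nx c, P.xx,
          hdiag _ (W.add_mem P.memy (W.smul_mem c P.memx)), by
            rw [map_add, P.xy, map_smul, P.xx, smul_zero, add_zero]⟩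
      have hy' : tower B u Q k (y + c • x) = 0 := by
        rw [tower_smul_add S hlk, hx, hcross (P.swap S.toIsoAlt (by omega)), mul_zero, add_zero, mul_one,
          CharTwo.add_self_eq_zero]
      obtain ⟨x', y', h1, h2, h3⟩ := fin false x (y + c • x) P' (fun k' hk' _ => by
        obtain rfl : k' = k := by omega
        simp [hx, hy'])
      exact ⟨false, x', y', h1, h2, h3, fun h => absurd h (by decide)⟩
    · have hne : tower B u Q k x₀ ≠ 0 := fun h => hA ⟨x₀, y₀, P₀, h⟩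
      obtain ⟨c, hc⟩ := exists_sq (tower B u Q k x₀)⁻¹
      have hc0 : c ≠ 0 := fun h => by rw [h] at hc; exact inv_ne_zero hne (by rw [← hc]; ring)
      set x₁ := c • x₀
      set y₁ := c⁻¹ • y₀
      have P₁ : Pair B u W (2 * k + 1) x₁ y₁ :=
        ⟨W.smul_mem c P₀.memx, W.smul_mem _ P₀.memy, hWe _ (W.smul_mem c P₀.memx), hWe _ (W.smul_mem _ P₀.memy),
          hdiag _ (W.smul_mem c P₀.memx), hdiag _ (W.smul_mem _ P₀.memy), by
            rw [map_smul, map_smul, map_smul, LinearMap.smul_apply, P₀.xy, smul_eq_mul, smul_eq_mul, mul_one,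
              inv_mul_cancel₀ hc0]⟩
      have hx₁ : tower B u Q k x₁ = 1 := by rw [tower_smul S hlk, hc, inv_mul_cancel₀ hne]
      have adj : ∀ γ : F, Pair B u W (2 * k + 1) x₁ (y₁ + γ • x₁) ∧
          tower B u Q k (y₁ + γ • x₁) = tower B u Q k y₁ + (γ ^ 2 + γ) := fun γ => by
        refine ⟨⟨P₁.memx, W.add_mem P₁.memy (W.smul_mem γ P₁.memx), P₁.nx, n_pow_smul_add P₁.ny P₁.nx γ, P₁.xx,
          hdiag _ (W.add_mem P₁.memy (W.smul_mem γ P₁.memx)), by
            rw [map_add, P₁.xy, map_smul, P₁.xx, smul_zero, add_zero]⟩, ?_⟩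
        rw [tower_smul_add S hlk, hx₁, hcross (P₁.swap S.toIsoAlt (by omega))]
        ring
      obtain ⟨γ, hγ⟩ := (wp_dichotomy hδ (tower B u Q k y₁)).resolve_left fun ⟨γ, hγ⟩ => hA ⟨_, _,
        (adj γ).1.swap S.toIsoAlt (by omega), by rw [(adj γ).2, hγ, CharTwo.add_self_eq_zero]⟩
      obtain ⟨x', y', h1, h2, h3⟩ := fin true _ _ (adj γ).1 (fun k' hk' _ => by
        obtain rfl : k' = k := by omega
        rw [(adj γ).2, hγ, ← add_assoc, CharTwo.add_self_eq_zero, zero_add]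
        simp [hx₁])
      refine ⟨true, x', y', h1, h2, h3, fun _ => ⟨k, rfl, hlk, fun z hzW hzp => by_contra fun hz => hA ?_⟩⟩
      obtain ⟨d, hd⟩ := exists_sq (tower B u Q k z)⁻¹
      have hoz : ∀ w ∈ orb u ![x', y'], B w z = 0 := fun w hw => by rw [S.symm]; exact mem_perp.1 hzp w hw
      have hx'o : x' ∈ orb u ![x', y'] := mem_orb u ![x', y'] 0
      have hy'o : y' ∈ orb u ![x', y'] := mem_orb u ![x', y'] 1
      refine ⟨x' + d • z, y', ⟨W.add_mem h1 (W.smul_mem d hzW), h2, hWe _ (W.add_mem h1 (W.smul_mem d hzW)),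
        h3.2.1, hdiag _ (W.add_mem h1 (W.smul_mem d hzW)), hdiag _ h2, ?_⟩, ?_⟩
      · rw [S.n_pow_top (by simpa using h3.2.1), map_add, LinearMap.add_apply, map_smul, LinearMap.smul_apply,
          S.symm z, hoz _ ((inv_orb u _).n_pow _ hy'o), smul_zero, add_zero,
          ← S.n_pow_top (by simpa using h3.2.1), h3.2.2.1, if_pos (by omega)]
      · rw [tower_smul_add S hlk, hoz _ ((inv_orb u _).m_pow _ hx'o), (h3.2.2.2 k hlk).1, if_pos ⟨rfl, rfl⟩, hd,
          inv_mul_cancel₀ hz, mul_zero, add_zero, CharTwo.add_self_eq_zero]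
  · obtain ⟨x', y', h1, h2, h3⟩ := fin false x₀ y₀ P₀ (fun k h1 h2 => absurd ⟨k, h1, h2⟩ hk)
    exact ⟨false, x', y', h1, h2, h3, fun h => absurd h (by decide)⟩

end CfsgLib.ClassNumberEven
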