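import Cfsg.Agent.Lib.KnownA.ClassNumberEven.OrthModel

/-!
# The class number of an orthogonal group in characteristic two: lower bound
-/

set_option autoImplicit false
set_option linter.unusedSectionVars false

open Module Polynomial

namespace CfsgLib.ClassNumberEven

variable {F : Type*} [Field F] [CharP F 2] [Fintype F]

theorem psi_cases (a : F) : psi a = 1 ∨ psi a = -1 := by
  unfold psi; split_ifs <;> simp

theorem blkSign_replicate (a b : ℕ) :
    blkSign (Multiset.replicate a (Blk.W 1 false) + Multiset.replicate b (Blk.W 1 true)) = (-1) ^ b := by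
  simp [blkSign, Multiset.map_replicate, Multiset.prod_replicate, bitSign, Blk.bit]

/-- A reduced multiset of blocks of order one. -/
theorem red_order_one {M : Multiset Blk} (hR : Red 0 M) (h : ∀ b ∈ M, b.ord ≤ 1) :
    M = Multiset.replicate (M.count (.W 1 false)) (.W 1 false) +
      Multiset.replicate (M.count (.W 1 true)) (.W 1 true) ∧ M.count (.W 1 true) ≤ 1 := by
  refine ⟨?_, hR.bit _ rfl⟩
  ext b
  rw [Multiset.count_add, Multiset.count_replicate, Multiset.count_replicate]
  by_cases hb : b ∈ M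
  · have h1 := h b hb
    have h2 := hR.ok b hb
    cases b with
    | V k bit =>
      have := h2.1
      simp [Blk.ord] at h1
      omega
    | W e bit =>
      have := h2.1
      simp [Blk.ord] at h1
      obtain rfl : e = 1 := by omega
      cases bit <;> simp
  · rw [Multiset.count_eq_zero.2 hb]
    split_ifs with h1 h2 h3 <;> simp_all

theorem sign_class {V : Type*} [AddCommGroup V] [Module F V] [FiniteDimensional F V] [Fintype V]
    {B : V →ₗ[F] V →ₗ[F] F} {Q : V → F} (h : IsQ B Q) {δ : F} (hδ : NotWp δ) {n : ℕ} {W : Submodule F V}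
    (hWn : NonDeg B W) (hd : finrank F W = 2 * n) :
    ∃ t : ℕ, t ≤ 1 ∧ t ≤ n ∧ gs Q W = (-1) ^ t * (Fintype.card F : ℚ) ^ n ∧
      Dec B (LinearEquiv.refl F V) Q 0 δ W
        (Multiset.replicate (n - t) (.W 1 false) + Multiset.replicate t (.W 1 true)) := by
  have S : Setting B (LinearEquiv.refl F V) Q 0 := setting_q h (1 : qGroup Q)
  have hN1 : ∀ x : V, (nOp (LinearEquiv.refl F V) ^ 1) x = 0 := fun x => by
    rw [pow_one, nOp_apply, LinearEquiv.refl_apply, add_self_of_two F]
  obtain ⟨M, hM, hR⟩ := exists_red S zero_le_one hδ _ W rfl (fun x hx => hx) hWn ⟨1, fun x _ => hN1 x⟩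
  obtain ⟨hMeq, ht⟩ := red_order_one hR fun b hb => by
    obtain ⟨T, -, hT⟩ := hM.le_of_mem hb
    exact hT.size_le S zero_le_one fun x _ => hN1 x
  set a := M.count (Blk.W 1 false)
  set t := M.count (Blk.W 1 true)
  have hw : (M.map Blk.wt).sum = a + t := by
    rw [hMeq]; simp [Blk.wt]
  have hdim := (hM.props S zero_le_one).2.2.1
  refine ⟨t, ht, by omega, ?_, ?_⟩
  · rw [gs_dec S hδ hM, hw, show a + t = n by omega]
    conv_lhs => rw [hMeq, blkSign_replicate]
  · rw [show n - t = a by omega, ← hMeq]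
    exact hM

/-- Forms of the same dimension and sign are isometric. -/
theorem form_iso {V₁ V₂ : Type*} [AddCommGroup V₁] [Module F V₁] [FiniteDimensional F V₁] [Fintype V₁]
    [AddCommGroup V₂] [Module F V₂] [FiniteDimensional F V₂] [Fintype V₂]
    {B₁ : V₁ →ₗ[F] V₁ →ₗ[F] F} {Q₁ : V₁ → F} {B₂ : V₂ →ₗ[F] V₂ →ₗ[F] F} {Q₂ : V₂ → F}
    (h₁ : IsQ B₁ Q₁) (h₂ : IsQ B₂ Q₂) (hN₁ : ∀ v, (∀ w, B₁ w v = 0) → v = 0)
    (hN₂ : ∀ v, (∀ w, B₂ w v = 0) → v = 0) {n : ℕ} (hd₁ : finrank F V₁ = 2 * n) (hd₂ : finrank F V₂ = 2 * n)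
    (hgs : gsT Q₁ = gsT Q₂) : ∃ f : V₁ ≃ₗ[F] V₂, ∀ x, Q₂ (f x) = Q₁ x := by
  classical
  obtain ⟨δ, hδ⟩ := exists_notWp (F := F)
  let Bs : (V₁ × V₂) →ₗ[F] (V₁ × V₂) →ₗ[F] F :=
    B₁.compl₁₂ (LinearMap.fst F V₁ V₂) (LinearMap.fst F V₁ V₂) +
      B₂.compl₁₂ (LinearMap.snd F V₁ V₂) (LinearMap.snd F V₁ V₂)
  let Qs : V₁ × V₂ → F := fun p => Q₁ p.1 + Q₂ p.2
  have hs : IsQ Bs Qs := by
    refine ⟨fun p r => ?_, fun c p => ?_⟩
    · simp only [Qs, Bs, LinearMap.add_apply, LinearMap.compl₁₂_apply, LinearMap.fst_apply, LinearMap.snd_apply,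
        Prod.fst_add, Prod.snd_add, h₁.add, h₂.add]
      ring
    · simp only [Qs, Prod.smul_fst, Prod.smul_snd, h₁.smul, h₂.smul]
      ring
  let W₁ : Submodule F (V₁ × V₂) := LinearMap.range (LinearMap.inl F V₁ V₂)
  let W₂ : Submodule F (V₁ × V₂) := LinearMap.range (LinearMap.inr F V₁ V₂)
  have n₁ : NonDeg Bs W₁ := by
    rintro _ ⟨a, rfl⟩ h
    have : a = 0 := hN₁ a fun w => by
      have h0 := h (LinearMap.inl F V₁ V₂ w) ⟨w, rfl⟩
      have hsym : B₁ w a = B₁ a w := by
        have e1 := h₁.add a w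
        rw [add_comm a w, h₁.add w a] at e1
        linear_combination e1
      rw [hsym]
      simpa [Bs] using h0
    rw [this, map_zero]
  have n₂ : NonDeg Bs W₂ := by
    rintro _ ⟨a, rfl⟩ h
    have : a = 0 := hN₂ a fun w => by
      have h0 := h (LinearMap.inr F V₁ V₂ w) ⟨w, rfl⟩
      have hsym : B₂ w a = B₂ a w := by
        have e1 := h₂.add a w
        rw [add_comm a w, h₂.add w a] at e1
        linear_combination e1
      rw [hsym]
      simpa [Bs] using h0
    rw [this, map_zero]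
  let e₁ : V₁ ≃ₗ[F] W₁ := LinearEquiv.ofInjective _ LinearMap.inl_injective
  let e₂ : V₂ ≃ₗ[F] W₂ := LinearEquiv.ofInjective _ LinearMap.inr_injective
  have q₁ : ∀ x, Qs (e₁ x : V₁ × V₂) = Q₁ x := fun x => by
    show Q₁ x + Q₂ 0 = _
    rw [h₂.zero, add_zero]
  have q₂ : ∀ x, Qs (e₂ x : V₁ × V₂) = Q₂ x := fun x => by
    show Q₁ 0 + Q₂ x = _
    rw [h₁.zero, zero_add]
  obtain ⟨t₁, ht₁, htn₁, hg₁, hM₁⟩ := sign_class hs hδ n₁ (e₁.finrank_eq.symm.trans hd₁)
  obtain ⟨t₂, ht₂, htn₂, hg₂, hM₂⟩ := sign_class hs hδ n₂ (e₂.finrank_eq.symm.trans hd₂)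
  have key₁ : gs Qs W₁ = gsT Q₁ := by
    rw [gs, Finset.sum_subtype (elems W₁) (fun x => mem_elems) fun x => psi (Qs x),
      ← e₁.toEquiv.sum_comp (fun x : W₁ => psi (Qs (x : V₁ × V₂)))]
    exact Finset.sum_congr rfl fun x _ => congrArg psi (q₁ x)
  have key₂ : gs Qs W₂ = gsT Q₂ := by
    rw [gs, Finset.sum_subtype (elems W₂) (fun x => mem_elems) fun x => psi (Qs x),
      ← e₂.toEquiv.sum_comp (fun x : W₂ => psi (Qs (x : V₁ × V₂)))]
    exact Finset.sum_congr rfl fun x _ => congrArg psi (q₂ x)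
  have htt : t₁ = t₂ := by
    have hpow : ((Fintype.card F : ℚ) ^ n) ≠ 0 := pow_ne_zero _ (by exact_mod_cast Fintype.card_ne_zero)
    have := mul_right_cancel₀ hpow (hg₁.symm.trans (key₁.trans (hgs.trans (key₂.symm.trans hg₂))))
    interval_cases t₁ <;> interval_cases t₂ <;> first | rfl | norm_num at this
  subst htt
  have S : Setting Bs (LinearEquiv.refl F (V₁ × V₂)) Qs 0 := setting_q hs (1 : qGroup Qs)
  obtain ⟨f, -, hfQ, -⟩ := hM₁.equiv S S zero_le_one hM₂
  refine ⟨e₁.trans (f.trans e₂.symm), fun x => ?_⟩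
  rw [← q₂, LinearEquiv.trans_apply, LinearEquiv.trans_apply, e₂.apply_symm_apply, hfQ rfl, q₁]

/-- The annihilator of degree `n` of the operator `u + u⁻¹`. -/
def IsAnn {V : Type*} [AddCommGroup V] [Module F V] (u : V ≃ₗ[F] V) (n : ℕ) (P : F[X]) : Prop :=
  P.Monic ∧ P.natDegree = n ∧ aeval (mOp u) P = 0 ∧ ∀ f : F[X], f.natDegree < n → aeval (mOp u) f = 0 → f = 0

theorem IsAnn.unique {V : Type*} [AddCommGroup V] [Module F V] {u : V ≃ₗ[F] V} {n : ℕ} {P P' : F[X]}
    (h : IsAnn u n P) (h' : IsAnn u n P') : P = P' := by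
  by_cases hn : n = 0
  · rw [eq_one_of_monic_natDegree_zero h.1 (h.2.1.trans hn), eq_one_of_monic_natDegree_zero h'.1 (h'.2.1.trans hn)]
  refine sub_eq_zero.1 (h.2.2.2 _ ?_ (by rw [map_sub, h.2.2.1, h'.2.2.1, sub_zero]))
  refine lt_of_le_of_lt (natDegree_le_iff_coeff_eq_zero.2 fun i hi => ?_) (show n - 1 < n by omega)
  rw [coeff_sub]
  rcases eq_or_lt_of_le (show n ≤ i by omega) with h1 | h1
  · subst h1
    have e1 := h.1.coeff_natDegree
    have e2 := h'.1.coeff_natDegree
    rw [h.2.1] at e1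
    rw [h'.2.1] at e2
    rw [e1, e2, sub_self]
  · rw [coeff_eq_zero_of_natDegree_lt (show P.natDegree < i by rw [h.2.1]; omega),
      coeff_eq_zero_of_natDegree_lt (show P'.natDegree < i by rw [h'.2.1]; omega), sub_zero]

theorem aeval_conj {V V' : Type*} [AddCommGroup V] [Module F V] [AddCommGroup V'] [Module F V']
    {u : V ≃ₗ[F] V} {u' : V' ≃ₗ[F] V'} (f : V ≃ₗ[F] V') (hf : ∀ x, f (u x) = u' (f x)) (P : F[X]) (x : V) :
    f (aeval (mOp u) P x) = aeval (mOp u') P (f x) := by
  have hm : ∀ x, f (mOp u x) = mOp u' (f x) := fun x => by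
    have hs : f (u.symm x) = u'.symm (f x) := by
      apply u'.injective
      rw [u'.apply_symm_apply, ← hf, u.apply_symm_apply]
    rw [mOp_apply, mOp_apply, map_add, hf, hs]
  induction P using Polynomial.induction_on' with
  | add P R hP hR => rw [map_add, map_add, LinearMap.add_apply, LinearMap.add_apply, map_add, hP, hR]
  | monomial k a =>
    rw [aeval_monomial, aeval_monomial, Module.End.mul_apply, Module.End.mul_apply, Module.algebraMap_end_apply,
      Module.algebraMap_end_apply, map_smul]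
    congr 1
    induction k generalizing x with
    | zero => rfl
    | succ k ih => rw [pow_succ, pow_succ, Module.End.mul_apply, Module.End.mul_apply, ih, hm]

theorem IsAnn.conj {V V' : Type*} [AddCommGroup V] [Module F V] [AddCommGroup V'] [Module F V']
    {u : V ≃ₗ[F] V} {u' : V' ≃ₗ[F] V'} (f : V ≃ₗ[F] V') (hf : ∀ x, f (u x) = u' (f x)) {n : ℕ} {P : F[X]}
    (h : IsAnn u n P) : IsAnn u' n P := by
  refine ⟨h.1, h.2.1, LinearMap.ext fun y => ?_, fun g hg hg0 => h.2.2.2 g hg (LinearMap.ext fun x => f.injective ?_)⟩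
  · obtain ⟨x, rfl⟩ := f.surjective y
    rw [← aeval_conj f hf, h.2.2.1]
    simp
  · rw [aeval_conj f hf, hg0]
    simp

/-- The polynomial with given lower coefficients. -/
noncomputable def polyOf {m : ℕ} (c : Fin m → F) : F[X] := X ^ m + ∑ i : Fin m, monomial (i : ℕ) (c i)

theorem polyOf_props {m : ℕ} (c : Fin m → F) :
    (polyOf c).Monic ∧ (polyOf c).natDegree = m ∧ ∀ i : Fin m, (polyOf c).coeff i = c i := by
  have hs : (∑ i : Fin m, monomial (i : ℕ) (c i)).degree < (m : WithBot ℕ) := by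
    refine lt_of_le_of_lt (degree_sum_le _ _) ((Finset.sup_lt_iff (WithBot.bot_lt_coe m)).2 fun i _ => ?_)
    exact lt_of_le_of_lt (degree_monomial_le _ _) (WithBot.coe_lt_coe.2 i.2)
  refine ⟨monic_X_pow_add hs, ?_, fun i => ?_⟩
  · refine natDegree_eq_of_degree_eq_some ?_
    rw [polyOf, degree_add_eq_left_of_degree_lt (by rw [degree_X_pow]; exact hs), degree_X_pow]
  · rw [polyOf, coeff_add, coeff_X_pow, if_neg (Nat.ne_of_lt i.2), zero_add, finsetSum_coeff,
      Finset.sum_eq_single i]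
    · rw [coeff_monomial, if_pos rfl]
    · intro j _ hj
      rw [coeff_monomial, if_neg (fun h => hj (Fin.ext h))]
    · simp

theorem polyOf_injective {m : ℕ} : Function.Injective (polyOf : (Fin m → F) → F[X]) := fun c c' h =>
  funext fun i => by rw [← (polyOf_props c).2.2 i, ← (polyOf_props c').2.2 i, h]

/-- The binary form `c x² + x y + y²`. -/
def bQ (c : F) (p : F × F) : F := c * p.1 ^ 2 + p.1 * p.2 + p.2 ^ 2

/-- Its polar form. -/
def bB (F : Type*) [Field F] : (F × F) →ₗ[F] (F × F) →ₗ[F] F :=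
  LinearMap.mk₂ F (fun p r => p.1 * r.2 + p.2 * r.1) (fun a b c => by simp; ring) (fun a b c => by simp; ring)
    (fun a b c => by simp; ring) (fun a b c => by simp; ring)

theorem bQ_isQ (c : F) : IsQ (bB F) (bQ c) where
  add p r := by
    simp only [bQ, bB, LinearMap.mk₂_apply, Prod.fst_add, Prod.snd_add, CharTwo.add_sq]
    ring
  smul a p := by simp only [bQ, Prod.smul_fst, Prod.smul_snd, smul_eq_mul]; ring

theorem gsT_bQ (c : F) : gsT (bQ c) = psi c * (Fintype.card F : ℚ) := by
  classical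
  rw [gsT, Fintype.sum_prod_type]
  have e : ∀ x y : F, psi (bQ c (x, y)) = psi (c * x ^ 2) * psi ((x + 1) * y) := fun x y => by
    rw [bQ, add_mul, one_mul, psi_add, psi_add, psi_add, psi_sq]
    ring
  simp only [e, ← Finset.mul_sum]
  rw [Finset.sum_eq_single 1]
  · simp [CharTwo.add_self_eq_zero, psi_zero]
  · intro x _ hx
    have hne : x + 1 ≠ 0 := fun h0 => hx (CharTwo.add_eq_zero.1 h0)
    obtain ⟨δ, hδ⟩ := exists_notWp (F := F)
    rw [show ∑ y, psi ((x + 1) * y) = ∑ y, psi y from Equiv.sum_comp (Equiv.mulLeft₀ (x + 1) hne) psi]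
    have hs : ∑ y : F, psi y = ∑ y : F, psi (y + δ) := (Equiv.sum_comp (Equiv.addRight δ) psi).symm
    simp only [psi_add, psi_delta hδ, mul_neg, mul_one, Finset.sum_neg_distrib] at hs
    rw [show ∑ y : F, psi y = 0 by linarith, mul_zero]
  · simp

theorem gsT_prod {V W : Type*} [Fintype V] [Fintype W] (Q : V → F) (R : W → F) :
    gsT (fun p : V × W => Q p.1 + R p.2) = gsT Q * gsT R := by
  simp only [gsT, Fintype.sum_prod_type, psi_add, Finset.sum_mul_sum]

variable {V : Type*} [AddCommGroup V] [Module F V] [FiniteDimensional F V] [Fintype V]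
  {B : V →ₗ[F] V →ₗ[F] F} {Q : V → F}

theorem finrank_quot {P : F[X]} (hP : P.Monic) :
    Module.Finite F (AdjoinRoot P) ∧ finrank F (AdjoinRoot P) = P.natDegree := by
  refine ⟨hP.finite_adjoinRoot, ?_⟩
  rw [(AdjoinRoot.powerBasis hP.ne_zero).finrank, AdjoinRoot.powerBasis_dim]

/-- Transport of a class. -/
theorem exists_elem_of_model {V' : Type*} [AddCommGroup V'] [Module F V'] [FiniteDimensional F V'] [Fintype V']
    {B' : V' →ₗ[F] V' →ₗ[F] F} {Q' : V' → F} (h : IsQ B Q) (h' : IsQ B' Q')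
    (hN : ∀ v, (∀ w, B w v = 0) → v = 0) (hN' : ∀ v, (∀ w, B' w v = 0) → v = 0) {n : ℕ}
    (hd : finrank F V = 2 * n) (hd' : finrank F V' = 2 * n) (hgs : gsT Q' = gsT Q)
    (g : qGroup Q') {P : F[X]} (hg : IsAnn g.1 n P) : ∃ g₀ : qGroup Q, IsAnn g₀.1 n P := by
  obtain ⟨f, hf⟩ := form_iso h' h hN' hN hd' hd hgs
  refine ⟨⟨f.symm.trans (g.1.trans f), fun x => ?_⟩, hg.conj f fun x => ?_⟩
  · show Q (f (g.1 (f.symm x))) = Q x
    rw [hf, g.2]
    conv_rhs => rw [← f.apply_symm_apply x, hf]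
  · show f (g.1 x) = f (g.1 (f.symm (f x)))
    rw [f.symm_apply_apply]

/-- Elements without eigenvalue one. -/
theorem exists_regular (h : IsQ B Q) (hN : ∀ v, (∀ w, B w v = 0) → v = 0) {n : ℕ} (hn : 2 ≤ n)
    (hd : finrank F V = 2 * n) {P : F[X]} (hP : P.Monic) (hdeg : P.natDegree = n) (h0 : P.coeff 0 ≠ 0)
    (hs : gsT Q = (Fintype.card F : ℚ) ^ n * psi (P.coeff 1 / P.coeff 0)) :
    ∃ g : qGroup Q, IsAnn g.1 n P := by
  classical
  obtain ⟨hfin, hfr⟩ := finrank_quot hP
  haveI : Finite (AdjoinRoot P) := Module.finite_of_finite F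
  haveI := Fintype.ofFinite (AdjoinRoot P)
  have hcard : (Fintype.card (AdjoinRoot P) : ℚ) = (Fintype.card F : ℚ) ^ n := by
    rw [← Nat.cast_pow]
    exact_mod_cast (Module.card_eq_pow_finrank (K := F) (V := AdjoinRoot P)).trans (by rw [hfr, hdeg])
  refine exists_elem_of_model h (mQ_isQ hP) hN (mB_nondeg hP h0) hd ?_ ?_
    (⟨mG P, mG_inv hP⟩ : qGroup (mQ hP)) ?_
  · rw [Module.finrank_prod, hfr, hdeg]; omega
  · rw [gsT_model hP (by omega) h0, hcard, hs]
  · refine ⟨hP, hdeg, LinearMap.ext fun v => ?_, fun f hf hf0 => ?_⟩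
    · rw [aeval_mOp_mG, AdjoinRoot.mk_self, zero_mul, zero_mul]
      rfl
    · have := LinearMap.congr_fun hf0 (1, 1)
      rw [aeval_mOp_mG, LinearMap.zero_apply, Prod.mk_eq_zero, mul_one, AdjoinRoot.mk_eq_zero] at this
      exact eq_zero_of_dvd_of_degree_lt this.1 (degree_lt_degree (by omega))

/-- Elements with a two-dimensional fixed space. -/
theorem exists_fixed (h : IsQ B Q) (hN : ∀ v, (∀ w, B w v = 0) → v = 0) {m : ℕ} (hm : 1 ≤ m)
    (hd : finrank F V = 2 * (m + 1)) {P : F[X]} (hP : P.Monic) (hdeg : P.natDegree = m) (h0 : P.coeff 0 ≠ 0) :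
    ∃ g : qGroup Q, IsAnn g.1 (m + 1) (X * P) := by
  classical
  obtain ⟨hfin, hfr⟩ := finrank_quot hP
  haveI : Finite (AdjoinRoot P) := Module.finite_of_finite F
  haveI := Fintype.ofFinite (AdjoinRoot P)
  obtain ⟨δ, hδ⟩ := exists_notWp (F := F)
  have hQm := mQ_isQ hP
  -- the sign of the target
  obtain ⟨t, -, -, htarget, -⟩ := sign_class h hδ (W := (⊤ : Submodule F V))
    (fun x _ hx => hN x fun w => by
      have e1 := h.add x w
      rw [add_comm x w, h.add w x] at e1
      rw [show B w x = B x w by linear_combination e1]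
      exact hx w Submodule.mem_top) (finrank_top F V |>.trans hd)
  rw [gs_eq_gsT] at htarget
  obtain ⟨t', -, -, hmodel, -⟩ := sign_class hQm hδ (n := m) (W := (⊤ : Submodule F (AdjoinRoot P × AdjoinRoot P)))
    (fun x _ hx => mB_nondeg hP h0 x fun w => by
      have e1 := hQm.add x w
      rw [add_comm x w, hQm.add w x] at e1
      rw [show mB hP w x = mB hP x w by linear_combination e1]
      exact hx w Submodule.mem_top)
    (by rw [finrank_top, Module.finrank_prod, hfr, hdeg]; omega)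
  rw [gs_eq_gsT] at hmodel
  obtain ⟨c, hc⟩ : ∃ c : F, psi c = (-1 : ℚ) ^ (t + t') := by
    rcases Nat.even_or_odd (t + t') with he | ho
    · exact ⟨0, by rw [psi_zero, he.neg_one_pow]⟩
    · exact ⟨δ, by rw [psi_delta hδ, ho.neg_one_pow]⟩
  let B' : ((AdjoinRoot P × AdjoinRoot P) × (F × F)) →ₗ[F] ((AdjoinRoot P × AdjoinRoot P) × (F × F)) →ₗ[F] F :=
    (mB hP).compl₁₂ (LinearMap.fst F _ _) (LinearMap.fst F _ _) +
      (bB F).compl₁₂ (LinearMap.snd F _ _) (LinearMap.snd F _ _)
  let Q' : (AdjoinRoot P × AdjoinRoot P) × (F × F) → F := fun p => mQ hP p.1 + bQ c p.2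
  have h' : IsQ B' Q' := by
    refine ⟨fun p r => ?_, fun a p => ?_⟩
    · simp only [Q', B', LinearMap.add_apply, LinearMap.compl₁₂_apply, LinearMap.fst_apply, LinearMap.snd_apply,
        Prod.fst_add, Prod.snd_add, hQm.add, (bQ_isQ c).add]
      ring
    · simp only [Q', Prod.smul_fst, Prod.smul_snd, hQm.smul, (bQ_isQ c).smul]
      ring
  have hN' : ∀ v, (∀ w, B' w v = 0) → v = 0 := fun v hv => by
    refine Prod.ext (mB_nondeg hP h0 _ fun w => ?_) (Prod.ext ?_ ?_)
    · have := hv (w, 0)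
      simpa [B'] using this
    · have := hv (0, (0, 1))
      simpa [B', bB] using this
    · have := hv (0, (1, 0))
      simpa [B', bB] using this
  refine exists_elem_of_model h h' hN hN' hd ?_ ?_
    (⟨(mG P).prodCongr (LinearEquiv.refl F (F × F)), fun p => by
      show mQ hP (mG P p.1) + bQ c p.2 = mQ hP p.1 + bQ c p.2
      rw [mG_inv]⟩ : qGroup Q') ?_
  · rw [Module.finrank_prod, Module.finrank_prod, Module.finrank_prod, hfr, hdeg, Module.finrank_self]; omega
  · show gsT (fun p : (AdjoinRoot P × AdjoinRoot P) × (F × F) => mQ hP p.1 + bQ c p.2) = _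
    rw [gsT_prod, gsT_bQ, hmodel, hc, htarget, pow_add, pow_succ]
    have hsq : ((-1 : ℚ) ^ t') * (-1) ^ t' = 1 := by rw [← pow_add, ← two_mul, pow_mul]; norm_num
    linear_combination ((-1 : ℚ) ^ t * (Fintype.card F : ℚ) ^ m * (Fintype.card F : ℚ)) * hsq
  · have hev : ∀ (f : F[X]) (v : (AdjoinRoot P × AdjoinRoot P) × (F × F)),
        aeval (mOp ((mG P).prodCongr (LinearEquiv.refl F (F × F)))) f v =
          (aeval (mOp (mG P)) f v.1, f.coeff 0 • v.2) := by
      intro f v
      induction f using Polynomial.induction_on' with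
      | add f g hf hg =>
        rw [map_add, LinearMap.add_apply, hf, hg, map_add, LinearMap.add_apply, coeff_add, add_smul,
          Prod.mk_add_mk]
      | monomial k a =>
        rw [aeval_monomial, aeval_monomial, Module.End.mul_apply, Module.End.mul_apply,
          Module.algebraMap_end_apply, Module.algebraMap_end_apply]
        have hm : ∀ w, mOp ((mG P).prodCongr (LinearEquiv.refl F (F × F))) w = (mOp (mG P) w.1, 0) := fun w => by
          show (mG P w.1, w.2) + ((mG P).symm w.1, w.2) = _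
          rw [Prod.mk_add_mk, add_self_of_two F]
          rfl
        have hpow : ∀ k, (mOp ((mG P).prodCongr (LinearEquiv.refl F (F × F))) ^ (k + 1)) v =
            ((mOp (mG P) ^ (k + 1)) v.1, 0) := by
          intro k
          induction k with
          | zero => rw [pow_one, hm]; simp
          | succ k ih =>
            rw [pow_succ', Module.End.mul_apply, ih, hm, ← Module.End.mul_apply, ← pow_succ']
        rcases k with _ | k
        · simp [Prod.ext_iff]
        · rw [hpow, coeff_monomial, if_neg (Nat.succ_ne_zero k)]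
          simp
    refine ⟨monic_X.mul hP, by rw [natDegree_mul X_ne_zero hP.ne_zero, natDegree_X, hdeg, add_comm],
      LinearMap.ext fun v => ?_, fun f hf hf0 => ?_⟩
    · rw [hev, coeff_X_mul_zero, zero_smul, aeval_mOp_mG, map_mul, AdjoinRoot.mk_self, mul_zero, zero_mul,
        zero_mul]
      rfl
    · have h1 := LinearMap.congr_fun hf0 ((1, 1), (1, 0))
      rw [hev, aeval_mOp_mG, LinearMap.zero_apply, Prod.mk_eq_zero, Prod.mk_eq_zero, mul_one,
        AdjoinRoot.mk_eq_zero] at h1
      obtain ⟨⟨⟨s, hs⟩, -⟩, h2⟩ := h1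
      have hc0 : f.coeff 0 = 0 := by simpa using congrArg Prod.fst h2
      by_contra hne
      have hs0 : s ≠ 0 := fun h => hne (by rw [hs, h, mul_zero])
      have hsd : s.natDegree = 0 := by
        rw [hs, natDegree_mul hP.ne_zero hs0, hdeg] at hf
        omega
      rw [hs, mul_coeff_zero] at hc0
      rcases mul_eq_zero.1 hc0 with h | h
      · exact h0 h
      · exact hs0 (by rw [eq_C_of_natDegree_eq_zero hsd, h, C_0])

/-- The lower bound. -/
theorem card_classes_orth_ge (h : IsQ B Q) (hN : ∀ v, (∀ w, B w v = 0) → v = 0) {n : ℕ} (hn : 2 ≤ n)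
    (hdim : finrank F V = 2 * n) :
    Fintype.card F ^ n ≤ 2 * Nat.card (ConjClasses (qGroup Q)) := by
  classical
  obtain ⟨δ, hδ⟩ := exists_notWp (F := F)
  obtain ⟨k, rfl⟩ : ∃ k, n = k + 2 := ⟨n - 2, by omega⟩
  obtain ⟨t, -, -, htarget, -⟩ := sign_class h hδ (W := (⊤ : Submodule F V))
    (fun x _ hx => hN x fun w => by
      have e1 := h.add x w
      rw [add_comm x w, h.add w x] at e1
      rw [show B w x = B x w by linear_combination e1]
      exact hx w Submodule.mem_top) (finrank_top F V |>.trans hdim)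
  rw [gs_eq_gsT] at htarget
  set ε : ℚ := (-1) ^ t
  have hε : ε = 1 ∨ ε = -1 := neg_one_pow_eq_or ℚ t
  let A : Type _ := {c : Fin (k + 2) → F // c 0 ≠ 0}
  let σ : A → ℚ := fun c => psi (c.1 1 / c.1 0)
  let R : Type _ := {c : A // σ c = ε}
  let E : Type _ := {c : Fin (k + 1) → F // c 0 ≠ 0}
  have hreg : ∀ c : R, ∃ g : qGroup Q, IsAnn g.1 (k + 2) (polyOf c.1.1) := fun c => by
    obtain ⟨hm, hdeg, hco⟩ := polyOf_props c.1.1
    have h0' : (polyOf c.1.1).coeff 0 = c.1.1 0 := hco 0
    have h1' : (polyOf c.1.1).coeff 1 = c.1.1 1 := hco 1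
    refine exists_regular h hN (by omega) hdim hm hdeg (by rw [h0']; exact c.1.2) ?_
    rw [htarget, h0', h1', show psi (c.1.1 1 / c.1.1 0) = ε from c.2, mul_comm]
  have hfix : ∀ c : E, ∃ g : qGroup Q, IsAnn g.1 (k + 2) (X * polyOf c.1) := fun c => by
    obtain ⟨hm, hdeg, hco⟩ := polyOf_props c.1
    have h0' : (polyOf c.1).coeff 0 = c.1 0 := hco 0
    exact exists_fixed h hN (m := k + 1) (by omega) (by omega) hm hdeg (by rw [h0']; exact c.2)
  choose g₁ hg₁ using hreg
  choose g₂ hg₂ using hfix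
  let pol : R ⊕ E → F[X] := Sum.elim (fun c => polyOf c.1.1) (fun c => X * polyOf c.1)
  let el : R ⊕ E → qGroup Q := Sum.elim g₁ g₂
  have hel : ∀ i, IsAnn (el i).1 (k + 2) (pol i) := by
    rintro (c | c)
    · exact hg₁ c
    · exact hg₂ c
  have hpol : Function.Injective pol := by
    rintro (c | c) (c' | c') he
    · exact congrArg _ (Subtype.ext (Subtype.ext (polyOf_injective he)))
    · exfalso
      have := congrArg (fun P : F[X] => P.coeff 0) he
      simp only [pol, Sum.elim_inl, Sum.elim_inr, coeff_X_mul_zero] at this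
      exact c.1.2 (((polyOf_props c.1.1).2.2 0).symm.trans this)
    · exfalso
      have := congrArg (fun P : F[X] => P.coeff 0) he
      simp only [pol, Sum.elim_inl, Sum.elim_inr, coeff_X_mul_zero] at this
      exact c'.1.2 (((polyOf_props c'.1.1).2.2 0).symm.trans this.symm)
    · exact congrArg _ (Subtype.ext (polyOf_injective (mul_left_cancel₀ X_ne_zero he)))
  have hinj : Function.Injective fun i => ConjClasses.mk (el i) := by
    intro i j he
    obtain ⟨c, hc⟩ := isConj_iff.1 (ConjClasses.mk_eq_mk_iff_isConj.1 he)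
    refine hpol (((hel i).conj c.1 fun x => ?_).unique (hel j))
    have := LinearEquiv.congr_fun (congrArg Subtype.val hc) (c.1 x)
    simp only [Subgroup.coe_mul, InvMemClass.coe_inv, LinearEquiv.mul_apply] at this
    rw [← this]
    congr 2
    exact (c.1.symm_apply_apply x).symm
  haveI : Finite (V ≃ₗ[F] V) := Finite.of_injective (fun e => (e : V → V)) DFunLike.coe_injective
  have hle := Nat.card_le_card_of_injective _ hinj
  rw [Nat.card_sum] at hle
  have hhalf : Nat.card {c : A // σ c = ε} = Nat.card {c : A // ¬σ c = ε} := by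
    let τ : A ≃ A :=
      { toFun := fun c => ⟨Function.update c.1 1 (c.1 1 + δ * c.1 0), by
          rw [Function.update_of_ne (by simp)]; exact c.2⟩
        invFun := fun c => ⟨Function.update c.1 1 (c.1 1 + δ * c.1 0), by
          rw [Function.update_of_ne (by simp)]; exact c.2⟩
        left_inv := fun c => Subtype.ext (funext fun i => by
          by_cases hi : i = 1
          · subst hi
            simp only [Function.update_self]
            rw [Function.update_of_ne (by simp), add_assoc, CharTwo.add_self_eq_zero, add_zero]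
          · simp only [Function.update_of_ne hi])
        right_inv := fun c => Subtype.ext (funext fun i => by
          by_cases hi : i = 1
          · subst hi
            simp only [Function.update_self]
            rw [Function.update_of_ne (by simp), add_assoc, CharTwo.add_self_eq_zero, add_zero]
          · simp only [Function.update_of_ne hi]) }
    refine Nat.card_congr (τ.subtypeEquiv fun c => ?_)
    have hτ : σ (τ c) = -σ c := by
      show psi (Function.update c.1 1 (c.1 1 + δ * c.1 0) 1 / Function.update c.1 1 (c.1 1 + δ * c.1 0) 0) =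
        -psi (c.1 1 / c.1 0)
      rw [Function.update_self, Function.update_of_ne (by simp), add_div, mul_div_assoc, div_self c.2, mul_one,
        psi_add, psi_delta hδ, mul_neg, mul_one]
    rw [hτ]
    rcases hε with hε | hε <;> rcases psi_cases (c.1 1 / c.1 0) with hc | hc <;>
      simp only [σ, hε, hc] <;> norm_num
  have hAcard : ∀ m : ℕ, Nat.card {c : Fin (m + 1) → F // c 0 ≠ 0} = (Fintype.card F - 1) * Fintype.card F ^ m := by
    intro m
    let e : {c : Fin (m + 1) → F // c 0 ≠ 0} ≃ {a : F // a ≠ 0} × (Fin m → F) :=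
      { toFun := fun c => (⟨c.1 0, c.2⟩, Fin.tail c.1)
        invFun := fun p => ⟨Fin.cons p.1.1 p.2, by simpa using p.1.2⟩
        left_inv := fun c => Subtype.ext (Fin.cons_self_tail c.1)
        right_inv := fun p => by simp }
    rw [Nat.card_congr e, Nat.card_prod, Nat.card_eq_fintype_card, Nat.card_eq_fintype_card, Fintype.card_fun,
      Fintype.card_fin, Fintype.card_subtype_compl, Fintype.card_subtype_eq]
  have htot : Nat.card A = 2 * Nat.card R := by
    rw [← Nat.card_congr (Equiv.sumCompl fun c : A => σ c = ε), Nat.card_sum, ← hhalf]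
    show _ = 2 * Nat.card {c : A // σ c = ε}
    omega
  have hA1 : Nat.card A = (Fintype.card F - 1) * Fintype.card F ^ (k + 1) := hAcard (k + 1)
  have hE1 : Nat.card E = (Fintype.card F - 1) * Fintype.card F ^ k := hAcard k
  obtain ⟨p, hp⟩ : ∃ p, Fintype.card F = p + 2 := ⟨Fintype.card F - 2, by
    have : 1 < Fintype.card F := Fintype.one_lt_card
    omega⟩
  rw [hp, show p + 2 - 1 = p + 1 by omega] at hA1 hE1
  rw [hp]
  calc (p + 2) ^ (k + 2) ≤ (p + 1) * (p + 2) ^ (k + 1) + 2 * ((p + 1) * (p + 2) ^ k) := by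
        have : (p + 2) ^ k * ((p + 2) * (p + 2)) ≤ (p + 2) ^ k * ((p + 1) * (p + 2) + 2 * (p + 1)) :=
          Nat.mul_le_mul_left _ (by nlinarith)
        simp only [pow_succ] at this ⊢
        nlinarith
    _ = Nat.card A + 2 * Nat.card E := by rw [hA1, hE1]
    _ = 2 * (Nat.card R + Nat.card E) := by rw [htot, mul_add]
    _ ≤ _ := Nat.mul_le_mul_left 2 hle

end CfsgLib.ClassNumberEven
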