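import Cfsg.Agent.Lib.KnownA.ClassNumberEven.OrthLower
import Cfsg.Agent.Lib.KnownA.ClassNumberForm.Symp
import Cfsg.Agent.Lib.Orth.Standard

/-!
# The class numbers of the orthogonal groups in characteristic two
-/

set_option autoImplicit false
set_option linter.unusedSectionVars false

namespace CfsgLib.ClassNumberEven

open CfsgLib.Orth

variable {F : Type*} [Field F] [CharP F 2] [Fintype F] {ι : Type} [Fintype ι] [DecidableEq ι]

theorem orth_bounds {n : ℕ} (hn : 2 ≤ n) {Qf : (ι → F) → F} (Q : QuadraticForm F (ι → F))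
    (hQf : ∀ v, Qf v = Q v) (hnd : (QuadraticMap.polarBilin Q).Nondegenerate) (hι : Fintype.card ι = 2 * n) :
    Fintype.card F ^ n ≤ 2 * Nat.card (ConjClasses ↥(Cfsg.isometryGroup F Qf)) ∧
      Nat.card (ConjClasses ↥(Cfsg.isometryGroup F Qf)) ≤ 15 * Fintype.card F ^ n := by
  classical
  have h : IsQ (QuadraticMap.polarBilin Q) (fun v => Q v) := by
    refine ⟨fun x y => ?_, fun c x => ?_⟩
    · rw [QuadraticMap.polarBilin_apply_apply, QuadraticMap.polar]; ring
    · show Q (c • x) = c ^ 2 * Q x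
      rw [QuadraticMap.map_smul, smul_eq_mul, sq]
  have hN : ∀ v, (∀ w, QuadraticMap.polarBilin Q w v = 0) → v = 0 := hnd.2
  have hdim : Module.finrank F (ι → F) = 2 * n := by rw [Module.finrank_fintype_fun_eq_card, hι]
  let e : ↥(Cfsg.isometryGroup F Qf) ≃* ↥(qGroup (fun v => Q v)) :=
    (toOrth Q hQf).trans (MulEquiv.subgroupCongr (SetLike.ext fun g => Iff.rfl))
  rw [ClassNumberForm.card_conjClasses_congr e]
  exact ⟨card_classes_orth_ge h hN hn hdim, card_classes_orth_le h hN hdim⟩

end CfsgLib.ClassNumberEven
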