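import Cfsg.Agent.Lib.KnownA.ClassNumberEven.OrthUpper

/-!
# Models of isometries with a given polynomial, and forms with the same sum
-/

set_option autoImplicit false
set_option linter.unusedSectionVars false

open Module Polynomial

namespace CfsgLib.ClassNumberEven

variable {F : Type*} [Field F] [CharP F 2]

/-- The top coefficient of the reduction modulo `P`. -/
noncomputable def topCoeff (P : F[X]) : F[X] →ₗ[F] F :=
  (lcoeff F (P.natDegree - 1)).comp (P.modByMonicHom)

theorem topCoeff_apply (P f : F[X]) : topCoeff P f = (f %ₘ P).coeff (P.natDegree - 1) := rfl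

theorem modByMonic_eq_self_of_lt {P f : F[X]} (hP : P.Monic) (h : f.natDegree < P.natDegree) : f %ₘ P = f :=
  (modByMonic_eq_self_iff hP).2 (degree_lt_degree h)

variable [Finite F]

/-- The derivative is a square. -/
theorem exists_sqrt_derivative (P : F[X]) : ∃ h : F[X], h ^ 2 = derivative P := by
  choose r hr using fun i => exists_sq ((derivative P).coeff i)
  refine ⟨∑ i ∈ Finset.range (P.natDegree + 1), monomial i (r (2 * i)), ?_⟩
  rw [CharTwo.sum_sq]
  simp only [monomial_pow, hr]
  refine Polynomial.ext fun j => ?_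
  simp only [finsetSum_coeff, coeff_monomial]
  rcases Nat.even_or_odd j with ⟨k, hk⟩ | ⟨k, hk⟩
  · by_cases hkd : k ≤ P.natDegree
    · rw [Finset.sum_eq_single k, if_pos (by omega), hk, two_mul]
      · intro i _ hi; rw [if_neg (by omega)]
      · intro hni; exact absurd (Finset.mem_range.2 (by omega)) hni
    · rw [Finset.sum_eq_zero fun i hi => if_neg (by have := Finset.mem_range.1 hi; omega), eq_comm]
      exact coeff_eq_zero_of_natDegree_lt (lt_of_le_of_lt (natDegree_derivative_le P) (by omega))
  · rw [Finset.sum_eq_zero fun i _ => if_neg (by omega), hk, coeff_derivative]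
    have : ((2 * k + 1 : ℕ) : F) + 1 = 0 := by
      push_cast
      linear_combination ((k : F) + 1) * CharTwo.two_eq_zero (R := F)
    rw [this, mul_zero]

/-- Squares have the same top coefficient as their products with the root of the derivative, squared. -/
theorem topCoeff_sq {P h : F[X]} (hP : P.Monic) (hn : 1 ≤ P.natDegree) (hh : h ^ 2 = derivative P) (f : F[X]) :
    topCoeff P (f ^ 2) = topCoeff P (f * h) ^ 2 := by
  set n := P.natDegree with hn'
  have hP1 : P ≠ 1 := fun h1 => by rw [hn', h1, natDegree_one] at hn; omega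
  set a := f ^ 2 /ₘ P
  set b := f ^ 2 %ₘ P
  have hb : b.natDegree < n := natDegree_modByMonic_lt _ hP hP1
  set r := (f * h) %ₘ P
  have hr : r.natDegree < n := natDegree_modByMonic_lt _ hP hP1
  set w := (f * h) /ₘ P
  have h1 : f ^ 2 * derivative P = P ^ 2 * derivative a + derivative (P * b) := by
    have e : f ^ 2 * P = P ^ 2 * a + P * b := by
      linear_combination (-P) * modByMonic_add_div (f ^ 2) P
    have e2 := congrArg derivative e
    have hsq : derivative (f ^ 2) = 0 := by
      rw [derivative_pow, Nat.cast_two, CharTwo.two_eq_zero, C_0, zero_mul, zero_mul]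
    have hsq' : derivative (P ^ 2) = 0 := by
      rw [derivative_pow, Nat.cast_two, CharTwo.two_eq_zero, C_0, zero_mul, zero_mul]
    rw [derivative_mul, hsq, zero_mul, zero_add, derivative_add, derivative_mul, hsq', zero_mul, zero_add] at e2
    exact e2
  have h2 : f ^ 2 * derivative P = P ^ 2 * w ^ 2 + r ^ 2 := by
    rw [← hh, ← mul_pow, ← mul_pow, ← CharTwo.add_sq]
    congr 1
    linear_combination -(modByMonic_add_div (f * h) P)
  have hPn : (P ^ 2).natDegree = 2 * n := natDegree_pow P 2
  have hd1 : (derivative (P * b)).natDegree < 2 * n := by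
    refine lt_of_le_of_lt (natDegree_derivative_le _) ?_
    have := natDegree_mul_le (p := P) (q := b)
    omega
  have hd2 : (r ^ 2).natDegree < 2 * n := by
    rw [natDegree_pow]; omega
  have hmon : (P ^ 2).Monic := hP.pow 2
  have heq : derivative (P * b) = r ^ 2 :=
    (div_modByMonic_unique (f := f ^ 2 * derivative P) (derivative a) (derivative (P * b)) hmon
      ⟨by rw [h1, add_comm], degree_lt_degree (by rw [hPn]; exact hd1)⟩).2.symm.trans
    (div_modByMonic_unique (f := f ^ 2 * derivative P) (w ^ 2) (r ^ 2) hmon ⟨by rw [h2, add_comm], degree_lt_degree (by rw [hPn]; exact hd2)⟩).2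
  have hc := congrArg (fun p : F[X] => p.coeff (2 * (n - 1))) heq
  rw [topCoeff_apply, topCoeff_apply]
  show b.coeff (n - 1) = r.coeff (n - 1) ^ 2
  simp only [coeff_derivative, coeff_pow_of_natDegree_le (show r.natDegree ≤ n - 1 by omega)] at hc
  rw [← hc, show 2 * (n - 1) + 1 = n + (n - 1) by omega,
    coeff_mul_add_eq_of_natDegree_le (show P.natDegree ≤ n from le_rfl) (show b.natDegree ≤ n - 1 by omega),
    hP.coeff_natDegree, one_mul]
  have : ((2 * (n - 1) : ℕ) : F) = 0 := by
    push_cast
    rw [CharTwo.two_eq_zero, zero_mul]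
  rw [this, zero_add, mul_one]

/-- The functional on the quotient. -/
noncomputable def quotTop {P : F[X]} (hP : P.Monic) : AdjoinRoot P →ₗ[F] F :=
  (lcoeff F (P.natDegree - 1)).comp (AdjoinRoot.modByMonicHom hP)

theorem quotTop_mk {P : F[X]} (hP : P.Monic) (f : F[X]) : quotTop hP (AdjoinRoot.mk P f) = topCoeff P f := by
  rw [quotTop, LinearMap.comp_apply, lcoeff_apply, AdjoinRoot.modByMonicHom_mk, topCoeff_apply]

theorem quotTop_nondeg {P : F[X]} (hP : P.Monic) {x : AdjoinRoot P} (hx : ∀ y, quotTop hP (y * x) = 0) : x = 0 := by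
  induction x using AdjoinRoot.induction_on with
  | ih f =>
    have e : AdjoinRoot.mk P f = AdjoinRoot.mk P (f %ₘ P) := by
      rw [AdjoinRoot.mk_eq_mk]
      exact ⟨f /ₘ P, by linear_combination -(modByMonic_add_div f P)⟩
    rw [e] at hx ⊢
    set p := f %ₘ P
    by_contra hne
    have hp : p ≠ 0 := fun h => hne (by rw [h, map_zero])
    have hP1 : P ≠ 1 := fun h => hne (AdjoinRoot.mk_eq_zero.2 (h ▸ one_dvd _))
    have hdeg : p.natDegree < P.natDegree := Polynomial.natDegree_modByMonic_lt f hP hP1
    have h1 := hx (AdjoinRoot.mk P (X ^ (P.natDegree - 1 - p.natDegree)))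
    rw [← map_mul, quotTop_mk, topCoeff_apply, modByMonic_eq_self_of_lt hP] at h1
    · have h2 : (X ^ (P.natDegree - 1 - p.natDegree) * p).coeff
          (p.natDegree + (P.natDegree - 1 - p.natDegree)) = p.coeff p.natDegree := coeff_X_pow_mul p _ _
      rw [Nat.add_sub_cancel' (by omega), h1] at h2
      exact leadingCoeff_ne_zero.2 hp h2.symm
    · rw [natDegree_mul (pow_ne_zero _ X_ne_zero) hp, natDegree_X_pow]
      omega

section Model

variable {P : F[X]}

/-- The polar form of the model. -/
noncomputable def mB (hP : P.Monic) :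
    (AdjoinRoot P × AdjoinRoot P) →ₗ[F] (AdjoinRoot P × AdjoinRoot P) →ₗ[F] F :=
  LinearMap.mk₂ F (fun v w => quotTop hP (AdjoinRoot.root P * (v.1 * w.2 + v.2 * w.1)))
    (fun v v' w => by simp only [Prod.fst_add, Prod.snd_add, ← map_add]; congr 1; ring)
    (fun c v w => by
      simp only [Prod.smul_fst, Prod.smul_snd, smul_mul_assoc, ← smul_add, mul_smul_comm, map_smul])
    (fun v w w' => by simp only [Prod.fst_add, Prod.snd_add, ← map_add]; congr 1; ring)
    (fun c v w => by
      simp only [Prod.smul_fst, Prod.smul_snd, mul_smul_comm, ← smul_add, map_smul])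

/-- The quadratic form of the model. -/
noncomputable def mQ (hP : P.Monic) (v : AdjoinRoot P × AdjoinRoot P) : F :=
  quotTop hP (v.1 * v.1 + AdjoinRoot.root P * (v.1 * v.2) + v.2 * v.2)

theorem charP_quot (hd : 1 ≤ P.natDegree) (z : AdjoinRoot P) : z + z = 0 := by
  rw [← two_smul F z, CharTwo.two_eq_zero, zero_smul]

theorem mQ_isQ (hP : P.Monic) : IsQ (mB hP) (mQ hP) where
  add v w := by
    have e : ∀ z : AdjoinRoot P, (2 : AdjoinRoot P) * z = 0 := fun z => by
      rw [show (2 : AdjoinRoot P) = algebraMap F _ 2 from (map_ofNat _ 2).symm, CharTwo.two_eq_zero, map_zero,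
        zero_mul]
    show quotTop hP _ = quotTop hP _ + quotTop hP _ + quotTop hP _
    rw [← map_add, ← map_add, Prod.fst_add, Prod.snd_add]
    congr 1
    linear_combination e (v.1 * w.1) + e (v.2 * w.2)
  smul c v := by
    show quotTop hP _ = c ^ 2 * quotTop hP _
    rw [show (c • v).1 * (c • v).1 + AdjoinRoot.root P * ((c • v).1 * (c • v).2) + (c • v).2 * (c • v).2 =
        (c ^ 2) • (v.1 * v.1 + AdjoinRoot.root P * (v.1 * v.2) + v.2 * v.2) by
      simp only [Prod.smul_fst, Prod.smul_snd, smul_mul_assoc, mul_smul_comm, smul_smul, smul_add, pow_two],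
      map_smul, smul_eq_mul]

/-- Multiplication by the root is invertible. -/
theorem root_mul_inj (hP : P.Monic) (h0 : P.coeff 0 ≠ 0) :
    ∃ s : AdjoinRoot P, AdjoinRoot.root P * s = 1 := by
  refine ⟨AdjoinRoot.mk P (-C (P.coeff 0)⁻¹ * P.divX), ?_⟩
  rw [← AdjoinRoot.mk_X, ← map_mul, ← map_one (AdjoinRoot.mk P), AdjoinRoot.mk_eq_mk]
  refine ⟨-C (P.coeff 0)⁻¹, ?_⟩
  have hC : C (P.coeff 0)⁻¹ * C (P.coeff 0) = (1 : F[X]) := by rw [← C_mul, inv_mul_cancel₀ h0, C_1]
  linear_combination (-C (P.coeff 0)⁻¹) * X_mul_divX_add P + hC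

theorem mB_nondeg (hP : P.Monic) (h0 : P.coeff 0 ≠ 0) :
    ∀ v, (∀ w, mB hP w v = 0) → v = 0 := by
  intro v hv
  obtain ⟨s, hs⟩ := root_mul_inj hP h0
  refine Prod.ext (quotTop_nondeg hP fun y => ?_) (quotTop_nondeg hP fun y => ?_)
  · have h := hv (0, s * y)
    simp only [mB, LinearMap.mk₂_apply, zero_mul, zero_add] at h
    rwa [show AdjoinRoot.root P * (s * y * v.1) = y * v.1 by linear_combination (y * v.1) * hs] at h
  · have h := hv (s * y, 0)
    simp only [mB, LinearMap.mk₂_apply, zero_mul, add_zero] at h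
    rwa [show AdjoinRoot.root P * (s * y * v.2) = y * v.2 by linear_combination (y * v.2) * hs] at h

/-- The isometry of the model. -/
noncomputable def mG (P : F[X]) : (AdjoinRoot P × AdjoinRoot P) ≃ₗ[F] (AdjoinRoot P × AdjoinRoot P) where
  toFun v := (v.2, v.1 + AdjoinRoot.root P * v.2)
  map_add' v w := by simp only [Prod.fst_add, Prod.snd_add, Prod.mk_add_mk, mul_add]; congr 1; abel
  map_smul' c v := by simp only [Prod.smul_fst, Prod.smul_snd, mul_smul_comm, ← smul_add, RingHom.id_apply,
    Prod.smul_mk]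
  invFun v := (v.2 + AdjoinRoot.root P * v.1, v.1)
  left_inv v := by
    simp only
    rw [add_assoc, add_self_of_two F, add_zero]
  right_inv v := by
    simp only
    rw [add_assoc, add_self_of_two F, add_zero]

theorem mG_inv (hP : P.Monic) (v : AdjoinRoot P × AdjoinRoot P) : mQ hP (mG P v) = mQ hP v := by
  have e : ∀ z : AdjoinRoot P, (2 : AdjoinRoot P) * z = 0 := fun z => by
    rw [show (2 : AdjoinRoot P) = algebraMap F _ 2 from (map_ofNat _ 2).symm, CharTwo.two_eq_zero, map_zero,
      zero_mul]
  show quotTop hP _ = quotTop hP _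
  congr 1
  show v.2 * v.2 + AdjoinRoot.root P * (v.2 * (v.1 + AdjoinRoot.root P * v.2)) +
    (v.1 + AdjoinRoot.root P * v.2) * (v.1 + AdjoinRoot.root P * v.2) = _
  linear_combination e (AdjoinRoot.root P * (v.1 * v.2)) + e (AdjoinRoot.root P ^ 2 * (v.2 * v.2))

theorem mOp_mG (v : AdjoinRoot P × AdjoinRoot P) :
    mOp (mG P) v = (AdjoinRoot.root P * v.1, AdjoinRoot.root P * v.2) := by
  show (v.2, v.1 + AdjoinRoot.root P * v.2) + (v.2 + AdjoinRoot.root P * v.1, v.1) = _
  rw [Prod.mk_add_mk, ← add_assoc, add_self_of_two F, zero_add, add_comm v.1, add_assoc, add_self_of_two F,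
    add_zero]

theorem aeval_mOp_mG (f : F[X]) (v : AdjoinRoot P × AdjoinRoot P) :
    aeval (mOp (mG P)) f v = (AdjoinRoot.mk P f * v.1, AdjoinRoot.mk P f * v.2) := by
  induction f using Polynomial.induction_on' with
  | add f g hf hg =>
    rw [map_add, LinearMap.add_apply, hf, hg, Prod.mk_add_mk, map_add, add_mul, add_mul]
  | monomial k a =>
    rw [aeval_monomial, Module.End.mul_apply, Module.algebraMap_end_apply]
    have hpow : ∀ k : ℕ, (mOp (mG P) ^ k) v = (AdjoinRoot.root P ^ k * v.1, AdjoinRoot.root P ^ k * v.2) := by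
      intro k
      induction k with
      | zero => simp
      | succ k ih =>
        rw [pow_succ', Module.End.mul_apply, ih, mOp_mG]
        simp [pow_succ', mul_assoc]
    rw [hpow, ← C_mul_X_pow_eq_monomial, map_mul, map_pow, AdjoinRoot.mk_X, AdjoinRoot.mk_C, Prod.smul_mk,
      Algebra.smul_def, Algebra.smul_def, AdjoinRoot.algebraMap_eq, mul_assoc, mul_assoc]

end Model

/-- The character sum over a whole space. -/
noncomputable def gsT {W : Type*} [Fintype W] [Fintype F] (Q : W → F) : ℚ := ∑ x, psi (Q x)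

theorem gs_eq_gsT [Fintype F] {W : Type*} [AddCommGroup W] [Module F W] [Fintype W] (Q : W → F) :
    gs Q (⊤ : Submodule F W) = gsT Q := by
  rw [gs, gsT]
  exact Finset.sum_congr (Finset.ext fun x => by simp [mem_elems]) fun _ _ => rfl

/-- The sum of the model. -/
theorem gsT_model [Fintype F] {P : F[X]} (hP : P.Monic) (hn : 2 ≤ P.natDegree) (h0 : P.coeff 0 ≠ 0)
    [Fintype (AdjoinRoot P)] :
    gsT (mQ hP) = (Fintype.card (AdjoinRoot P) : ℚ) * psi (P.coeff 1 / P.coeff 0) := by
  classical
  obtain ⟨h, hh⟩ := exists_sqrt_derivative P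
  set η := AdjoinRoot.mk P h
  obtain ⟨s, hs⟩ := root_mul_inj hP h0
  set r := AdjoinRoot.root P
  have hsq : ∀ z : AdjoinRoot P, psi (quotTop hP (z * z)) = psi (quotTop hP (z * η)) := by
    intro z
    induction z using AdjoinRoot.induction_on with
    | ih f =>
      rw [← map_mul, ← map_mul, quotTop_mk, quotTop_mk, ← pow_two, topCoeff_sq hP (by omega) hh, psi_sq]
  have hinner : ∀ a : AdjoinRoot P, ∑ b : AdjoinRoot P, psi (quotTop hP ((η + r * a) * b)) =
      if a = s * η then (Fintype.card (AdjoinRoot P) : ℚ) else 0 := by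
    intro a
    split_ifs with ha
    · subst ha
      have : η + r * (s * η) = 0 := by
        rw [← mul_assoc, hs, one_mul, add_self_of_two F]
      simp [this, psi_zero]
    · rcases sum_functional (⊤ : Submodule F (AdjoinRoot P))
        ((quotTop hP).comp (LinearMap.mulLeft F (η + r * a))) with h1 | h1
      · refine absurd ?_ ha
        have h2 := quotTop_nondeg hP (x := η + r * a) fun y => by
          rw [mul_comm]
          exact h1 y Submodule.mem_top
        have h3 : r * a = η := (eq_of_add_eq_zero F h2).symm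
        rw [← h3]
        linear_combination (-a) * hs
      · refine Eq.trans ?_ h1
        exact Finset.sum_congr (Finset.ext fun x => by simp [mem_elems]) fun _ _ => rfl
  have hterm : ∀ a b : AdjoinRoot P, psi (mQ hP (a, b)) =
      psi (quotTop hP (a * η)) * psi (quotTop hP ((η + r * a) * b)) := by
    intro a b
    rw [mQ, map_add, map_add, psi_add, psi_add, hsq, hsq, mul_assoc, ← psi_add, ← map_add]
    congr 3
    ring
  rw [gsT, Fintype.sum_prod_type]
  simp only [hterm, ← Finset.mul_sum, hinner, mul_ite, mul_zero, Finset.sum_ite_eq', Finset.mem_univ, if_true]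
  rw [mul_comm]
  congr 1
  obtain ⟨g, rfl⟩ := AdjoinRoot.mk_surjective s
  rw [show AdjoinRoot.mk P g * η * η = AdjoinRoot.mk P (g * (h ^ 2)) by
    simp only [η, ← map_mul]; congr 1; ring, quotTop_mk, hh]
  -- the inverse of the root
  have hg : topCoeff P (g * derivative P) =
      topCoeff P ((-C (P.coeff 0)⁻¹ * P.divX) * derivative P) := by
    rw [← quotTop_mk hP, ← quotTop_mk hP]
    congr 1
    rw [map_mul (AdjoinRoot.mk P), map_mul (AdjoinRoot.mk P) _ (derivative P)]
    congr 1
    have hs' : r * AdjoinRoot.mk P (-C (P.coeff 0)⁻¹ * P.divX) = 1 := by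
      rw [show r = AdjoinRoot.mk P X from AdjoinRoot.mk_X.symm, ← map_mul, ← map_one (AdjoinRoot.mk P),
        AdjoinRoot.mk_eq_mk]
      have hC : C (P.coeff 0)⁻¹ * C (P.coeff 0) = (1 : F[X]) := by rw [← C_mul, inv_mul_cancel₀ h0, C_1]
      exact ⟨-C (P.coeff 0)⁻¹, by linear_combination (-C (P.coeff 0)⁻¹) * X_mul_divX_add P + hC⟩
    linear_combination (AdjoinRoot.mk P (-C (P.coeff 0)⁻¹ * P.divX)) * hs - (AdjoinRoot.mk P g) * hs'
  rw [hg]
  -- the derivative is a constant plus a multiple of `X`
  have hd : derivative P = C (P.coeff 1) + X * (derivative P).divX := by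
    conv_lhs => rw [← X_mul_divX_add (derivative P)]
    simp [coeff_derivative, add_comm]
  have hdx : P.divX.Monic ∧ P.divX.natDegree = P.natDegree - 1 := by
    have h1 : P.divX.natDegree = P.natDegree - 1 := natDegree_divX_eq_natDegree_tsub_one
    refine ⟨?_, h1⟩
    rw [Monic, leadingCoeff, h1, coeff_divX, Nat.sub_add_cancel (by omega), hP.coeff_natDegree]
  have hP1 : P ≠ 1 := fun h1 => by rw [h1, natDegree_one] at hn; omega
  have key : topCoeff P ((-C (P.coeff 0)⁻¹ * P.divX) * derivative P) = P.coeff 1 / P.coeff 0 := by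
    have h2 : (-C (P.coeff 0)⁻¹ * P.divX) * derivative P =
        C (-(P.coeff 0)⁻¹ * P.coeff 1) * P.divX +
          ((derivative P).divX + P * (-C (P.coeff 0)⁻¹ * (derivative P).divX)) := by
      have hC : C (P.coeff 0)⁻¹ * C (P.coeff 0) = (1 : F[X]) := by rw [← C_mul, inv_mul_cancel₀ h0, C_1]
      conv_lhs => rw [hd]
      rw [C_mul, C_neg]
      linear_combination (-C (P.coeff 0)⁻¹ * (derivative P).divX) * X_mul_divX_add P +
        (derivative P).divX * hC
    rw [h2, map_add, map_add, ← smul_eq_C_mul, map_smul, smul_eq_mul,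
      show topCoeff P P.divX = 1 from by
        rw [topCoeff_apply, modByMonic_eq_self_of_lt hP (by omega), ← hdx.2, hdx.1.coeff_natDegree],
      show topCoeff P (derivative P).divX = 0 from by
        have h3 : (derivative P).divX.natDegree < P.natDegree - 1 := by
          have := natDegree_divX_eq_natDegree_tsub_one (p := derivative P)
          have := natDegree_derivative_le P
          omega
        rw [topCoeff_apply, modByMonic_eq_self_of_lt hP (by omega), coeff_eq_zero_of_natDegree_lt h3],
      show topCoeff P (P * (-C (P.coeff 0)⁻¹ * (derivative P).divX)) = 0 from by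
        rw [topCoeff_apply, (modByMonic_eq_zero_iff_dvd hP).2 (dvd_mul_right _ _), coeff_zero],
      mul_one, add_zero, add_zero, CharTwo.neg_eq, div_eq_mul_inv, mul_comm]
  rw [key]

end CfsgLib.ClassNumberEven
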