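import Cfsg.Agent.Lib.KnownA.ClassNumberEven.Classes
import Cfsg.Agent.Lib.KnownA.ClassNumberEven.Flip

/-!
# The class number of an orthogonal group in characteristic two: upper bound
-/

set_option autoImplicit false
set_option linter.unusedSectionVars false

open Module Polynomial

namespace CfsgLib.ClassNumberEven

variable {F : Type*} [Field F] [CharP F 2] [Fintype F] {V : Type*} [AddCommGroup V] [Module F V]
  [FiniteDimensional F V] {B : V →ₗ[F] V →ₗ[F] F} {Q : V → F}

/-- The isometry group of a form. -/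
def qGroup (Q : V → F) : Subgroup (V ≃ₗ[F] V) where
  carrier := {g | ∀ x, Q (g x) = Q x}
  one_mem' := fun x => rfl
  mul_mem' := fun {a b} ha hb x => by rw [LinearEquiv.mul_apply, ha, hb]
  inv_mem' := fun {a} ha x => by
    have h := ha (a⁻¹ x)
    rw [← LinearEquiv.mul_apply, mul_inv_cancel] at h
    exact h.symm

variable [Fintype V]

theorem setting_q (h : IsQ B Q) (g : qGroup Q) : Setting B g.1 Q 0 where
  alt := h.alt
  iso x y := by
    have h1 := h.add (g.1 x) (g.1 y)
    rw [← map_add, g.2, g.2, g.2, h.add] at h1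
    linear_combination -h1
  qadd _ := h.add
  qsmul _ := h.smul
  qinv _ := g.2

theorem gs_top (h : IsQ B Q) (hN : ∀ v, (∀ w, B w v = 0) → v = 0) {u : V ≃ₗ[F] V} (S : Setting B u Q 0)
    {δ : F} (hδ : NotWp δ) {M : Multiset Blk} (hM : Dec B u Q 0 δ (eigS u) M) :
    gs Q (⊤ : Submodule F V) = blkSign M * (Fintype.card F : ℚ) ^ (M.map Blk.wt).sum * gs Q (regS u) := by
  rw [← (isCompl_eig_reg u).sup_eq_top,
    gs_sup h (isCompl_eig_reg u).disjoint (fun x hx y hy => orth_eig_reg S.toIsoAlt hx hy), gs_dec S hδ hM]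

theorem eigS_one : eigS (LinearEquiv.refl F V) = ⊤ := by
  rw [eq_top_iff]
  intro x _
  rcases Nat.eq_zero_or_pos (finrank F V) with h | h
  · haveI := Module.finrank_zero_iff.1 h
    rw [Subsingleton.elim x 0]
    exact zero_mem _
  · show (nOp (LinearEquiv.refl F V) ^ finrank F V) x = 0
    obtain ⟨k, hk⟩ : ∃ k, finrank F V = k + 1 := ⟨finrank F V - 1, by omega⟩
    rw [hk, pow_succ, Module.End.mul_apply, nOp_apply, LinearEquiv.refl_apply, add_self_of_two F, map_zero]

theorem blkSign_ne (M : Multiset Blk) : blkSign M ≠ 0 :=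
  Multiset.prod_ne_zero fun h => by
    obtain ⟨b, -, hb⟩ := Multiset.mem_map.1 h
    cases hbit : b.bit <;> simp [bitSign, hbit] at hb

theorem blkSign_cases (M : Multiset Blk) : blkSign M = 1 ∨ blkSign M = -1 := by
  induction M using Multiset.induction_on with
  | empty => simp [blkSign]
  | cons b M ih =>
    simp only [blkSign, Multiset.map_cons, Multiset.prod_cons] at ih ⊢
    rcases ih with ih | ih <;> rw [ih] <;> cases b.bit <;> simp [bitSign]

theorem gs_top_ne (h : IsQ B Q) (hN : ∀ v, (∀ w, B w v = 0) → v = 0) : gs Q (⊤ : Submodule F V) ≠ 0 := by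
  obtain ⟨δ, hδ⟩ := exists_notWp (F := F)
  have S : Setting B (LinearEquiv.refl F V) Q 0 := setting_q h (1 : qGroup Q)
  obtain ⟨M, hM, -⟩ := exists_red S zero_le_one hδ _ (⊤ : Submodule F V) rfl (fun _ _ => Submodule.mem_top)
    (fun x _ hx => hN x fun w => by rw [S.symm]; exact hx w Submodule.mem_top)
    ⟨finrank F V, fun x _ => by
      have : x ∈ eigS (LinearEquiv.refl F V) := eigS_one.ge Submodule.mem_top
      exact this⟩
  rw [gs_dec S hδ hM]
  exact mul_ne_zero (blkSign_ne M) (pow_ne_zero _ (by exact_mod_cast Fintype.card_ne_zero))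

/-- The tuple determines the sign. -/
theorem sign_eq (h : IsQ B Q) (hN : ∀ v, (∀ w, B w v = 0) → v = 0) {u u' : V ≃ₗ[F] V}
    (S : Setting B u Q 0) (S' : Setting B u' Q 0) {δ : F} (hδ : NotWp δ) {n : ℕ} {M M' : Multiset Blk}
    {b : Fin (2 * n) → F[X]} (hw : (M.map Blk.wt).sum = (M'.map Blk.wt).sum)
    (hs : Spec S.toIsoAlt Q 0 δ n M b) (hs' : Spec S'.toIsoAlt Q 0 δ n M' b) : blkSign M = blkSign M' := by
  obtain ⟨hM, ψ, hb⟩ := hs
  obtain ⟨hM', ψ', hb'⟩ := hs'
  revert ψ'
  rw [← hw]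
  intro ψ' hb'
  obtain ⟨f, -, hfQ, -⟩ := reg_equiv S S' hN ψ ψ' (hb.symm.trans hb')
  have e1 := gs_top h hN S hδ hM
  have e2 := gs_top h hN S' hδ hM'
  rw [← gs_equiv f (hfQ rfl), ← hw] at e2
  have hne := gs_top_ne h hN
  rw [e1] at hne
  have hne2 := right_ne_zero_of_mul hne
  have hne3 := right_ne_zero_of_mul (left_ne_zero_of_mul hne)
  exact mul_right_cancel₀ hne3 (mul_right_cancel₀ hne2 (e1.symm.trans e2))

/-- The labels for quadratic forms. -/
abbrev OrthLab (F : Type*) [Field F] [CharP F 2] (n : ℕ) :=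
  Σ M : RedLab0 n, RTup F (2 * n) (n - (M.1.map Blk.wt).sum)

/-- The labels without nodes. -/
abbrev NoNodeLab (F : Type*) [Field F] [CharP F 2] (n : ℕ) :=
  Σ M : {M : RedLab0 n // NoNode M.1}, RTup F (2 * n) (n - (M.1.1.map Blk.wt).sum)

theorem card_sigma_le (n : ℕ) {ι : Type} [Fintype ι] (w : ι → ℕ) (hw : ∀ i, w i ≤ n) {C : ℚ}
    (hC : ∑ i, ((Fintype.card F : ℚ)⁻¹) ^ w i ≤ C) :
    Finite (Σ i, RTup F (2 * n) (n - w i)) ∧
      (Nat.card (Σ i, RTup F (2 * n) (n - w i)) : ℚ) ≤ C * (Fintype.card F : ℚ) ^ n := by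
  haveI : ∀ i, Finite (RTup F (2 * n) (n - w i)) := fun i => (card_rtup _ _).1
  refine ⟨inferInstance, ?_⟩
  set q := Fintype.card F
  have hq : 2 ≤ q := Fintype.one_lt_card
  rw [Nat.card_sigma, Nat.cast_sum]
  refine (Finset.sum_le_sum fun i _ => (Nat.cast_le.2 (card_rtup (F := F) _ _).2).trans
    (le_of_eq (?_ : _ = (q : ℚ) ^ n * ((q : ℚ)⁻¹) ^ w i))).trans ?_
  · have hr : (q : ℚ) ^ n = (q : ℚ) ^ (n - w i) * (q : ℚ) ^ w i := by
      rw [← pow_add, Nat.sub_add_cancel (hw i)]
    rw [Nat.cast_pow, inv_pow, hr, mul_inv_cancel_right₀ (pow_ne_zero _ (by positivity))]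
  · rw [← Finset.mul_sum, mul_comm]
    exact mul_le_mul_of_nonneg_right hC (by positivity)

/-- The upper bound. -/
theorem card_classes_orth_le (h : IsQ B Q) (hN : ∀ v, (∀ w, B w v = 0) → v = 0) {n : ℕ}
    (hdim : finrank F V = 2 * n) :
    Nat.card (ConjClasses (qGroup Q)) ≤ 15 * Fintype.card F ^ n := by
  classical
  obtain ⟨δ, hδ⟩ := exists_notWp (F := F)
  have S : ∀ g : qGroup Q, Setting B g.1 Q 0 := setting_q h
  choose M b hR hle hpal hsum hspec using fun g : qGroup Q => exists_spec (S g) zero_le_one hN hδ hdim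
  let rep : ConjClasses (qGroup Q) → qGroup Q := fun C => C.exists_rep.choose
  let lab : ConjClasses (qGroup Q) → OrthLab F n := fun C =>
    ⟨⟨M (rep C), hR _, hle _⟩, ⟨b (rep C), hpal _, hsum _⟩⟩
  have hlab : Function.Injective lab := by
    intro C C' hCC
    have e1 : M (rep C) = M (rep C') := congrArg (fun p : OrthLab F n => p.1.1) hCC
    have e2 : b (rep C) = b (rep C') := congrArg (fun p : OrthLab F n => p.2.1) hCC
    obtain ⟨f, -, hfQ, hfu⟩ := exists_intertwine_of_spec (S (rep C)) (S (rep C')) zero_le_one hN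
      (hspec (rep C)) (e1 ▸ e2 ▸ hspec (rep C'))
    rw [← C.exists_rep.choose_spec, ← C'.exists_rep.choose_spec, ConjClasses.mk_eq_mk_iff_isConj]
    refine isConj_iff.2 ⟨⟨f, hfQ rfl⟩, ?_⟩
    rw [mul_inv_eq_iff_eq_mul]
    exact Subtype.ext (LinearEquiv.ext hfu)
  let other : ConjClasses (qGroup Q) → OrthLab F n ⊕ NoNodeLab F n := fun C =>
    if hn : NoNode (M (rep C)) then Sum.inr ⟨⟨⟨M (rep C), hR _, hle _⟩, hn⟩, ⟨b (rep C), hpal _, hsum _⟩⟩
    else Sum.inl ⟨⟨flipM (M (rep C)), (flip_props hn (hR _)).1, (flip_props hn (hR _)).2.1.le.trans (hle _)⟩,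
      ⟨b (rep C), hpal _, (hsum _).trans (by rw [(flip_props hn (hR _)).2.1])⟩⟩
  let φ : ConjClasses (qGroup Q) ⊕ ConjClasses (qGroup Q) → OrthLab F n ⊕ NoNodeLab F n :=
    Sum.elim (fun C => Sum.inl (lab C)) other
  have hcross : ∀ C C', Sum.inl (lab C) ≠ other C' := by
    intro C C' he
    simp only [other] at he
    split_ifs at he with hn
    rw [Sum.inl.injEq] at he
    have e1 : M (rep C) = flipM (M (rep C')) := congrArg (fun p : OrthLab F n => p.1.1) he
    have e2 : b (rep C) = b (rep C') := congrArg (fun p : OrthLab F n => p.2.1) he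
    obtain ⟨-, hw, hs, -⟩ := flip_props hn (hR _)
    have := sign_eq h hN (S (rep C)) (S (rep C')) hδ (by rw [e1, hw]) (hspec (rep C)) (e2 ▸ hspec (rep C'))
    rw [e1, hs] at this
    exact blkSign_ne (M (rep C')) (by linarith)
  have hother : Function.Injective other := by
    intro C C' he
    refine hlab ?_
    simp only [other] at he
    split_ifs at he with hn hn'
    · rw [Sum.inr.injEq] at he
      exact congrArg (fun p : NoNodeLab F n => (⟨p.1.1, p.2⟩ : OrthLab F n)) he
    · rw [Sum.inl.injEq] at he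
      have e1 : M (rep C) = M (rep C') := by
        rw [← (flip_props hn (hR _)).2.2.2, ← (flip_props (M := M (rep C')) (by assumption) (hR _)).2.2.2,
          show flipM (M (rep C)) = flipM (M (rep C')) from congrArg (fun p : OrthLab F n => p.1.1) he]
      have e2 : b (rep C) = b (rep C') := congrArg (fun p : OrthLab F n => p.2.1) he
      refine Sigma.ext (Subtype.ext e1) ?_
      exact (Subtype.heq_iff_coe_eq (fun x => by simp only [lab, e1])).2 e2
  have hφ : Function.Injective φ := by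
    rintro (C | C) (C' | C') he
    · exact congrArg _ (hlab (Sum.inl_injective he))
    · exact absurd he (hcross C C')
    · exact absurd he.symm (hcross C' C)
    · exact congrArg _ (hother he)
  haveI := finite_redLab0 (n := n)
  haveI := Fintype.ofFinite (RedLab0 n)
  haveI := Fintype.ofFinite {M : RedLab0 n // NoNode M.1}
  set q := Fintype.card F
  have hz1 : (q : ℚ)⁻¹ ≤ 1 / 2 := by
    rw [one_div]; exact inv_anti₀ (by norm_num) (by exact_mod_cast (Fintype.one_lt_card : 1 < q))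
  obtain ⟨f1, b1⟩ := card_sigma_le (F := F) n (fun M : RedLab0 n => (M.1.map Blk.wt).sum) (fun M => M.2.2)
    (sum_redLab0_le (by positivity) hz1)
  obtain ⟨f2, b2⟩ := card_sigma_le (F := F) n (fun M : {M : RedLab0 n // NoNode M.1} => (M.1.1.map Blk.wt).sum)
    (fun M => M.1.2.2) (sum_noNode_le (by positivity) hz1)
  haveI : Finite (ConjClasses (qGroup Q)) := Finite.of_injective lab hlab
  have hc := Nat.card_le_card_of_injective φ hφ
  rw [Nat.card_sum, Nat.card_sum] at hc
  have hc' : (Nat.card (ConjClasses (qGroup Q)) : ℚ) + Nat.card (ConjClasses (qGroup Q)) ≤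
      Nat.card (OrthLab F n) + Nat.card (NoNodeLab F n) := by exact_mod_cast hc
  have hpow : (0 : ℚ) ≤ (q : ℚ) ^ n := by positivity
  have : (Nat.card (ConjClasses (qGroup Q)) : ℚ) ≤ 15 * (q : ℚ) ^ n := by
    change (Nat.card (OrthLab F n) : ℚ) ≤ _ at b1
    change (Nat.card (NoNodeLab F n) : ℚ) ≤ _ at b2
    linarith
  exact_mod_cast this

end CfsgLib.ClassNumberEven
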