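import Cfsg.Agent.Lib.KnownA.ClassNumberEven.Decomp
import Cfsg.Agent.Lib.KnownA.ClassNumberForm.Tuple

/-!
# The part without eigenvalue one
-/

set_option autoImplicit false
set_option linter.unusedSectionVars false

open Module

namespace CfsgLib.ClassNumberEven

open Polynomial CfsgLib.ClassNumberGL CfsgLib.ClassNumberSU CfsgLib.ClassNumberSL CfsgLib.Classical

attribute [local instance] CfsgLib.ClassNumberGL.Decomp.fι

variable {F : Type*} [Field F] [CharP F 2] {V : Type*} [AddCommGroup V] [Module F V] [FiniteDimensional F V]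
  {B C : V →ₗ[F] V →ₗ[F] F} {u : V ≃ₗ[F] V}

/-- Two alternating forms preserved by `u` differ by an automorphism commuting with `u`. -/
theorem exists_commute_even [Finite F] (hB : IsoAlt B u) (hC : IsoAlt C u) (hNB : ∀ v, (∀ w, B w v = 0) → v = 0)
    (hNC : ∀ v, (∀ w, C w v = 0) → v = 0) (hreg : Function.Injective (mOp u)) :
    ∃ a : V ≃ₗ[F] V, (∀ v, a (u v) = u (a v)) ∧ ∀ v w, B (a v) (a w) = C v w := by
  classical
  haveI : Finite V := Module.finite_of_finite F
  haveI : Finite (Module.End F V) := Finite.of_injective _ DFunLike.coe_injective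
  have hBi : Function.Injective B := (injective_iff_map_eq_zero B).2 fun v hv => hNB v fun w => by
    rw [hB.symm w v, hv, LinearMap.zero_apply]
  let Be : V ≃ₗ[F] Module.Dual F V := LinearEquiv.ofBijective B
    ⟨hBi, (LinearMap.injective_iff_surjective_of_finrank_eq_finrank Subspace.dual_finrank_eq.symm).1 hBi⟩
  let t : Module.End F V := Be.symm.toLinearMap ∘ₗ C
  have ht' : ∀ v w, B (t w) v = C w v := fun v w => by
    show (Be (Be.symm (C w))) v = C w v
    rw [Be.apply_symm_apply]
  have ht : ∀ v w, B v (t w) = C v w := fun v w => by rw [hB.symm, ht', hC.symm]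
  have hinjB : ∀ {p r : V}, (∀ v, B v p = B v r) → p = r := fun {p r} h =>
    sub_eq_zero.1 (hNB _ fun v => by rw [map_sub, h, sub_self])
  have htx : Commute t u.toLinearMap := LinearMap.ext fun w => hinjB fun v => by
    obtain ⟨v, rfl⟩ := u.surjective v
    show B (u v) (t (u w)) = B (u v) (u (t w))
    rw [ht, hC.iso, hB.iso, ht]
  have hts : ∀ v w, B (t v) w = B v (t w) := fun v w => by rw [ht', ht]
  have hti : Commute t u.symm.toLinearMap := LinearMap.ext fun w => u.injective (by
    have h1 := LinearMap.congr_fun htx.eq (u.symm w)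
    simp only [Module.End.mul_apply, LinearEquiv.coe_coe, u.apply_symm_apply] at h1 ⊢
    rw [← h1])
  have htm : Commute t (mOp u) := htx.add_right hti
  let S : Set (Module.End F V) := {t, mOp u}
  have hS : ∀ p ∈ S, ∀ r ∈ S, p * r = r * p := by
    intro p hp r hr
    rcases hp with rfl | rfl <;> rcases hr with rfl | rfl <;>
      first
        | rfl
        | exact htm.eq
        | exact htm.eq.symm
  letI := Subring.closureCommRingOfComm hS
  have hgood : ∀ r ∈ Subring.closure S, Commute r u.toLinearMap ∧ ∀ v w, B (r v) w = B v (r w) := by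
    intro r hr
    induction hr using Subring.closure_induction with
    | mem r hr =>
      rcases hr with rfl | rfl
      · exact ⟨htx, hts⟩
      · exact ⟨(commute_u_m u).symm, hB.m_left⟩
    | zero => exact ⟨Commute.zero_left _, fun v w => by simp⟩
    | one => exact ⟨Commute.one_left _, fun v w => by simp⟩
    | add p r _ _ hp hr => exact ⟨hp.1.add_left hr.1, fun v w => by simp [hp.2, hr.2]⟩
    | neg p _ hp => exact ⟨hp.1.neg_left, fun v w => by simp [hp.2]⟩
    | mul p r hp' hr' hp hr =>
      refine ⟨hp.1.mul_left hr.1, fun v w => ?_⟩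
      have hpr : p * r = r * p := congrArg Subtype.val (mul_comm (⟨p, hp'⟩ : Subring.closure S) ⟨r, hr'⟩)
      show B (p (r v)) w = B v ((p * r) w)
      rw [hp.2, hr.2, hpr]
      rfl
  have hunit : ∀ r : Subring.closure S, Function.Injective r.1 → IsUnit r := by
    intro r hr
    have hinj : Function.Injective (fun p : Subring.closure S => r * p) := fun p p' h =>
      Subtype.ext (LinearMap.ext fun v => hr (LinearMap.congr_fun (congrArg Subtype.val h) v))
    obtain ⟨p, hp⟩ := (Finite.injective_iff_surjective.1 hinj) 1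
    exact IsUnit.of_mul_eq_one p hp
  let τ : Subring.closure S := ⟨t, Subring.subset_closure (Set.mem_insert _ _)⟩
  let μ : Subring.closure S := ⟨mOp u, Subring.subset_closure (Set.mem_insert_of_mem _ rfl)⟩
  have hd : IsUnit (μ ^ 2 - 4 * 1) := by
    refine hunit _ ?_
    have h4 : ((4 : Subring.closure S) : Module.End F V) = (4 : F) • 1 := by
      rw [← Algebra.algebraMap_eq_smul_one, map_ofNat]; rfl
    push_cast
    rw [h4, show (4 : F) = 0 by linear_combination (2 : F) * CharTwo.two_eq_zero (R := F), zero_smul, zero_mul,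
      sub_zero]
    rw [Module.End.coe_pow]
    exact hreg.iterate 2
  have hu : IsUnit τ := hunit τ ((injective_iff_map_eq_zero t).2 fun w hw => hNC w fun v => by
    rw [← ht, hw, map_zero])
  obtain ⟨c₀, c₁, hc⟩ := exists_quad μ 1 τ hd hu
  have hc' : ∀ w, t w = c₀.1 (c₀.1 w) + mOp u (c₀.1 (c₁.1 w)) + c₁.1 (c₁.1 w) := by
    intro w
    rw [show t = ((quad μ 1 c₀ c₁ : Subring.closure S) : Module.End F V) from (congrArg Subtype.val hc).symm,
      quad]
    push_cast
    simp [μ, pow_two]
  let a : Module.End F V := c₀.1 + c₁.1 * u.toLinearMap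
  have ha : ∀ v w, B (a v) (a w) = C v w := by
    intro v w
    rw [← ht, hc' w]
    have k0 : ∀ z, c₀.1 (u z) = u (c₀.1 z) := fun z => LinearMap.congr_fun (hgood _ c₀.2).1.eq z
    have k1 : ∀ z, c₁.1 (u z) = u (c₁.1 z) := fun z => LinearMap.congr_fun (hgood _ c₁.2).1.eq z
    have k01 : ∀ z, c₁.1 (c₀.1 z) = c₀.1 (c₁.1 z) :=
      fun z => LinearMap.congr_fun (congrArg Subtype.val (mul_comm c₁ c₀)) z
    have k1' : ∀ z, c₁.1 (u.symm z) = u.symm (c₁.1 z) := fun z => u.injective (by
      rw [← k1, u.apply_symm_apply, u.apply_symm_apply])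
    have s0 := (hgood _ c₀.2).2
    have s1 := (hgood _ c₁.2).2
    simp only [a, LinearMap.add_apply, Module.End.mul_apply, LinearEquiv.coe_coe, map_add, mOp_apply, s0, s1,
      k0, k1, k1', hB.iso, hB.u_left, k01]
    ring
  have hainj : Function.Injective a := (injective_iff_map_eq_zero a).2 fun w hw => hNC w fun v => by
    rw [← ha, hw, map_zero]
  refine ⟨LinearEquiv.ofInjectiveEndo a hainj, fun v => ?_, ha⟩
  exact LinearMap.congr_fun (((hgood _ c₀.2).1.add_left ((hgood _ c₁.2).1.mul_left (Commute.refl _))).eq) v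

/-- Similar isometries without eigenvalue one are similar by an isometry. -/
theorem exists_intertwine_even [Finite F] {V' : Type*} [AddCommGroup V'] [Module F V'] [FiniteDimensional F V']
    {B' : V' →ₗ[F] V' →ₗ[F] F} {x : V' ≃ₗ[F] V'} {y : V ≃ₗ[F] V} (hB : IsoAlt B y) (hB' : IsoAlt B' x)
    (hNB : ∀ v, (∀ w, B w v = 0) → v = 0) (hNB' : ∀ v, (∀ w, B' w v = 0) → v = 0)
    (hreg : Function.Injective (mOp x)) (e : V' ≃ₗ[F] V) (he : ∀ v, e (x v) = y (e v)) :
    ∃ f : V' ≃ₗ[F] V, (∀ v w, B (f v) (f w) = B' v w) ∧ ∀ v, f (x v) = y (f v) := by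
  let C' : V' →ₗ[F] V' →ₗ[F] F := B.compl₁₂ e.toLinearMap e.toLinearMap
  have hC' : ∀ v w, C' v w = B (e v) (e w) := fun v w => rfl
  obtain ⟨a, hax, ha⟩ := exists_commute_even (B := B') (C := C') hB'
    ⟨fun v => by rw [hC', hB.alt], fun v w => by rw [hC', hC', he, he, hB.iso]⟩ hNB'
    (fun v hv => e.injective ((hNB _ fun w => by
      obtain ⟨w, rfl⟩ := e.surjective w
      rw [← hC', hv]).trans (map_zero e).symm)) hreg
  refine ⟨a.symm.trans e, fun v w => ?_, fun v => ?_⟩
  · rw [LinearEquiv.trans_apply, LinearEquiv.trans_apply, ← hC', ← ha, a.apply_symm_apply, a.apply_symm_apply]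
  · rw [LinearEquiv.trans_apply, LinearEquiv.trans_apply, ← he]
    refine congrArg e ((a.symm_apply_eq).2 ?_)
    rw [hax, a.apply_symm_apply]

/-- The generalised fixed space. -/
noncomputable def eigS (u : V ≃ₗ[F] V) : Submodule F V := LinearMap.ker (nOp u ^ finrank F V)

/-- The complement of the generalised fixed space. -/
noncomputable def regS (u : V ≃ₗ[F] V) : Submodule F V := LinearMap.range (nOp u ^ finrank F V)

theorem inv_eigS (u : V ≃ₗ[F] V) : Inv u (eigS u) := fun x hx => by
  show (nOp u ^ finrank F V) (u.toLinearMap x) = 0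
  rw [← Module.End.mul_apply, ← ((commute_u_n u).pow_right _).eq, Module.End.mul_apply,
    LinearMap.mem_ker.1 hx, map_zero]

theorem inv_regS (u : V ≃ₗ[F] V) : Inv u (regS u) := by
  rintro _ ⟨w, rfl⟩
  exact ⟨u w, (LinearMap.congr_fun ((commute_u_n u).pow_right _).eq w).symm⟩

theorem isCompl_eig_reg (u : V ≃ₗ[F] V) : IsCompl (eigS u) (regS u) := by
  have hdis : Disjoint (eigS u) (regS u) := by
    rw [disjoint_iff, eq_bot_iff]
    rintro x ⟨hx, w, rfl⟩
    refine (Submodule.mem_bot F).2 ?_
    have h : w ∈ LinearMap.ker (nOp u ^ (finrank F V + finrank F V)) := by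
      rw [LinearMap.mem_ker, pow_add, Module.End.mul_apply]
      exact hx
    rw [Module.End.ker_pow_eq_ker_pow_finrank_of_le (Nat.le_add_right _ _)] at h
    exact h
  refine ⟨hdis, codisjoint_iff.2 (Submodule.eq_top_of_disjoint _ _ ?_ hdis)⟩
  rw [add_comm]
  exact (LinearMap.finrank_range_add_finrank_ker _).ge

theorem reg_inj (u : V ≃ₗ[F] V) {x : V} (hx : x ∈ regS u) (h : mOp u x = 0) : x = 0 := by
  have h2 : (nOp u ^ 2) x = 0 := by
    rw [pow_two, ← mul_m_eq, Module.End.mul_apply, h, map_zero]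
  have he : x ∈ eigS u := by
    show x ∈ LinearMap.ker (nOp u ^ finrank F V)
    have h3 : x ∈ LinearMap.ker (nOp u ^ 2) := h2
    exact Module.End.ker_pow_le_ker_pow_finrank (nOp u) 2 h3
  exact Submodule.disjoint_def.1 (isCompl_eig_reg u).disjoint x he hx

theorem orth_eig_reg (H : IsoAlt B u) {x y : V} (hx : x ∈ eigS u) (hy : y ∈ regS u) : B x y = 0 := by
  obtain ⟨w, rfl⟩ := hy
  rw [H.symm, H.n_pow_left, show (nOp u ^ finrank F V) x = 0 from hx, map_zero, map_zero]

theorem nonDeg_parts (H : IsoAlt B u) (hN : ∀ v, (∀ w, B w v = 0) → v = 0) :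
    NonDeg B (eigS u) ∧ NonDeg B (regS u) := by
  have hall : ∀ y : V, ∃ a ∈ eigS u, ∃ b ∈ regS u, a + b = y := fun y =>
    Submodule.mem_sup.1 ((isCompl_eig_reg u).sup_eq_top ▸ Submodule.mem_top)
  constructor <;> intro x hx h <;> refine hN x fun y => ?_ <;> obtain ⟨a, ha, b, hb, rfl⟩ := hall y <;>
    rw [H.symm, map_add]
  · rw [h a ha, orth_eig_reg H hx hb, add_zero]
  · rw [h b hb, H.symm x a, orth_eig_reg H ha hx, add_zero]

/-- A palindromic polynomial of even degree that does not vanish at one. -/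
def Pal (P : F[X]) : Prop :=
  P.Monic ∧ Even P.natDegree ∧ (∀ i ≤ P.natDegree, P.coeff (P.natDegree - i) = P.coeff i) ∧ P.eval 1 ≠ 0

theorem sum_sym (f : ℕ → F) (d r : ℕ) (hr : r ≤ 1) (hf : ∀ i ≤ d + d + r, f (d + d + r - i) = f i) :
    ∑ i ∈ Finset.range (d + d + r + 1), f i = if r = 0 then f d else 0 := by
  have h2 : ∀ i ∈ Finset.range (d + r), f (d + 1 + i) = f (d + r - 1 - i) := fun i hi => by
    have := Finset.mem_range.1 hi
    rw [← hf (d + 1 + i) (by omega), show d + d + r - (d + 1 + i) = d + r - 1 - i by omega]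
  rw [show d + d + r + 1 = (d + 1) + (d + r) by omega, Finset.sum_range_add, Finset.sum_congr rfl h2,
    Finset.sum_range_reflect]
  rcases Nat.eq_zero_or_pos r with rfl | h
  · rw [if_pos rfl, add_zero, Finset.sum_range_succ, add_right_comm, CharTwo.add_self_eq_zero, zero_add]
  · obtain rfl : r = 1 := by omega
    rw [if_neg one_ne_zero, CharTwo.add_self_eq_zero]

theorem pal_of_fix {P : F[X]} (h : ClassNumberForm.Good1 P) (h1 : P.eval 1 ≠ 0) : Pal P := by
  have hsym : ∀ i ≤ P.natDegree, P.coeff (P.natDegree - i) = P.coeff 0 * P.coeff i := fun i hi => by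
    have hc := congrArg (fun R => R.coeff i) h.2.2
    simp only [ClassNumberForm.star1, ClassNumberSU.coeff_star hi, RingHom.id_apply] at hc
    rw [← hc, ← mul_assoc, mul_inv_cancel₀ h.2.1, one_mul]
  have h0 : P.coeff 0 = 1 := by
    have := hsym P.natDegree le_rfl
    rw [Nat.sub_self, h.1.coeff_natDegree, mul_one] at this
    have h2 : P.coeff 0 * P.coeff 0 = 1 := by
      have h3 := hsym 0 (Nat.zero_le _)
      rw [Nat.sub_zero, h.1.coeff_natDegree] at h3
      exact h3.symm
    exact CharTwo.add_eq_zero.1 (mul_self_eq_zero.1 (show (P.coeff 0 + 1) * (P.coeff 0 + 1) = 0 by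
      linear_combination h2 + (P.coeff 0 + 1) * CharTwo.two_eq_zero (R := F)))
  have hsym' : ∀ i ≤ P.natDegree, P.coeff (P.natDegree - i) = P.coeff i := fun i hi => by
    rw [hsym i hi, h0, one_mul]
  refine ⟨h.1, ?_, hsym', h1⟩
  rcases Nat.even_or_odd P.natDegree with he | ⟨d, hd⟩
  · exact he
  · refine absurd ?_ h1
    rw [eval_eq_sum_range, show P.natDegree + 1 = d + d + 1 + 1 by omega]
    simp only [one_pow, mul_one]
    rw [sum_sym P.coeff d 1 le_rfl (fun i hi => by
      have := hsym' i (by omega)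
      rwa [show d + d + 1 - i = P.natDegree - i by omega]), if_neg one_ne_zero]

/-- The upper half of a palindromic polynomial. -/
noncomputable def half (P : F[X]) : F[X] :=
  ∑ i ∈ Finset.range (P.natDegree / 2 + 1), monomial i (P.coeff (P.natDegree / 2 - i))

theorem half_coeff (P : F[X]) (i : ℕ) :
    (half P).coeff i = if i ≤ P.natDegree / 2 then P.coeff (P.natDegree / 2 - i) else 0 := by
  simp [half, Polynomial.finsetSum_coeff, coeff_monomial, Nat.lt_succ_iff]

theorem half_props {P : F[X]} (h : Pal P) :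
    (half P).Monic ∧ (half P).natDegree = P.natDegree / 2 ∧ (half P).coeff 0 ≠ 0 := by
  obtain ⟨hm, ⟨d, hd⟩, hs, h1⟩ := h
  have hd2 : P.natDegree / 2 = d := by omega
  have hc0 : P.coeff 0 = 1 := by
    rw [← hs 0 (Nat.zero_le _), Nat.sub_zero, hm.coeff_natDegree]
  have hdeg : (half P).natDegree = P.natDegree / 2 := by
    refine natDegree_eq_of_le_of_coeff_ne_zero (natDegree_le_iff_coeff_eq_zero.2 fun i hi => ?_) ?_
    · rw [half_coeff, if_neg (by exact not_le.2 hi)]
    · rw [half_coeff, if_pos le_rfl, Nat.sub_self, hc0]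
      exact one_ne_zero
  refine ⟨?_, hdeg, ?_⟩
  · rw [Monic, leadingCoeff, hdeg, half_coeff, if_pos le_rfl, Nat.sub_self, hc0]
  · rw [half_coeff, if_pos (Nat.zero_le _), Nat.sub_zero, hd2]
    intro h0
    refine h1 ?_
    rw [eval_eq_sum_range, show P.natDegree + 1 = d + d + 0 + 1 by omega]
    simp only [one_pow, mul_one]
    rw [sum_sym P.coeff d 0 zero_le_one (fun i hi => by
      have := hs i (by omega)
      rwa [show d + d + 0 - i = P.natDegree - i by omega]), if_pos rfl, h0]

theorem half_inj {P R : F[X]} (hP : Pal P) (hR : Pal R) (h : half P = half R) : P = R := by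
  have hd : P.natDegree / 2 = R.natDegree / 2 := by
    rw [← (half_props hP).2.1, ← (half_props hR).2.1, h]
  obtain ⟨-, ⟨d, hdP⟩, hsP, -⟩ := hP
  obtain ⟨-, ⟨d', hdR⟩, hsR, -⟩ := hR
  have hdd : R.natDegree = P.natDegree := by omega
  refine Polynomial.ext fun i => ?_
  have low : ∀ i ≤ d, P.coeff i = R.coeff i := fun i hi => by
    have := congrArg (fun T => T.coeff (d - i)) h
    simp only [half_coeff, ← hd, show P.natDegree / 2 = d by omega, Nat.sub_le, if_true,
      Nat.sub_sub_self hi] at this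
    exact this
  rcases le_or_gt i d with hi | hi
  · exact low i hi
  rcases le_or_gt i P.natDegree with hi2 | hi2
  · rw [← hsP i hi2, ← hsR i (by omega), hdd]
    exact low _ (by omega)
  · rw [coeff_eq_zero_of_natDegree_lt hi2, coeff_eq_zero_of_natDegree_lt (by omega)]

/-- Tuples of palindromic polynomials without root one. -/
abbrev RTup (F : Type*) [Field F] [CharP F 2] (N j : ℕ) :=
  {b : Fin N → F[X] // (∀ i, Pal (b i)) ∧ ∑ i : Fin N, ((i : ℕ) + 1) * (b i).natDegree = 2 * j}

theorem F_le (q : ℕ) (hq : 1 ≤ q) (m n : ℕ) : ClassNumberGL.F q m n ≤ q ^ n := by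
  rcases Nat.eq_zero_or_pos n with rfl | hn
  · rw [F_zero_right, pow_zero]
  · have h := F_bound q hq m n hn
    rw [pow_add] at h
    exact Nat.le_of_mul_le_mul_left ((Nat.le_add_right _ _).trans h) (Nat.pow_pos hq)

theorem card_rtup [Fintype F] (N j : ℕ) :
    Finite (RTup F N j) ∧ Nat.card (RTup F N j) ≤ Fintype.card F ^ j := by
  let g : RTup F N j → Tup F N j := fun b =>
    ⟨fun i => half (b.1 i), fun i => ⟨(half_props (b.2.1 i)).1, (half_props (b.2.1 i)).2.2⟩, by
      have h := b.2.2
      have hh : ∑ i : Fin N, ((i : ℕ) + 1) * (b.1 i).natDegree =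
          2 * ∑ i : Fin N, ((i : ℕ) + 1) * (half (b.1 i)).natDegree := by
        rw [Finset.mul_sum]
        refine Finset.sum_congr rfl fun i _ => ?_
        obtain ⟨d, hd⟩ := (b.2.1 i).2.1
        rw [(half_props (b.2.1 i)).2.1, hd, show (d + d) / 2 = d by omega]
        ring
      show ∑ i : Fin N, ((i : ℕ) + 1) * (half (b.1 i)).natDegree = j
      omega⟩
  have hg : Function.Injective g := fun b c h => Subtype.ext (funext fun i =>
    half_inj (b.2.1 i) (c.2.1 i) (congrFun (congrArg Subtype.val h) i))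
  haveI := (card_tup (K := F) N j).1
  exact ⟨Finite.of_injective g hg, (Nat.card_le_card_of_injective g hg).trans
    ((card_tup N j).2.trans (F_le _ Fintype.card_pos N j))⟩

variable {N : ℕ} {Bm : (Fin N → F) →ₗ[F] (Fin N → F) →ₗ[F] F}

/-- The tuple of an isometry without eigenvalue one. -/
theorem tup_pal [Fintype F] (hN : ∀ v, (∀ w, Bm w v = 0) → v = 0) (g : isomGroup Bm)
    (hg : ∀ v, g.1 v = v → v = 0) : ∀ i, Pal (ClassNumberForm.tupOf g i) := by
  classical
  intro i
  set D := (exists_decomp (ClassNumberForm.matOf g)).some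
  have hm := tup_mem (ClassNumberForm.isUnit_matOf g) D
  refine pal_of_fix ⟨(hm.1 i).1, (hm.1 i).2, ClassNumberForm.star_tup hN g D i⟩ ?_
  show (tup D i).eval 1 ≠ 0
  rw [tup, eval_prod, Finset.prod_ne_zero_iff]
  intro j _ hj
  have hpe : D.p j = Polynomial.X - C 1 :=
    (eq_of_monic_of_associated (D.monic j) (monic_X_sub_C 1)
      ((irreducible_X_sub_C (1 : F)).associated_of_dvd (D.irr j) (dvd_iff_isRoot.2 hj)).symm)
  have hk := natCard_ker_decomp D (monic_X_sub_C (1 : F)) (irreducible_X_sub_C 1) 1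
  have hone : Nat.card {v : Fin N → F //
      aeval (Matrix.toLin' (ClassNumberForm.matOf g)) ((Polynomial.X - C (1 : F)) ^ 1) v = 0} = 1 := by
    refine Nat.card_eq_one_iff_unique.2 ⟨⟨fun v w => ?_⟩, ⟨⟨0, map_zero _⟩⟩⟩
    have h0 : ∀ v : {v : Fin N → F //
        aeval (Matrix.toLin' (ClassNumberForm.matOf g)) ((Polynomial.X - C (1 : F)) ^ 1) v = 0}, v.1 = 0 := by
      intro v
      have hv := v.2
      simp only [pow_one, map_sub, aeval_X, map_one, LinearMap.sub_apply, Module.End.one_apply,
        ClassNumberForm.matOf_apply, sub_eq_zero] at hv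
      exact hg _ hv
    exact Subtype.ext ((h0 v).trans (h0 w).symm)
  rw [hone, natDegree_X_sub_C, one_mul] at hk
  have hs : ∑ i ∈ Finset.univ.filter (fun i => D.p i = Polynomial.X - C 1), min 1 (D.e i) = 0 :=
    (Nat.pow_right_injective (Fintype.one_lt_card (α := F)) (hk.symm.trans (pow_zero _).symm))
  have := Finset.sum_eq_zero_iff.1 hs j (by simp [hpe])
  have := D.pos j
  omega

end CfsgLib.ClassNumberEven
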