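import Cfsg.Agent.Lib.KnownA.ClassNumberEven.Basic

/-!
# Orbit spans of generators and their comparison by tables
-/

set_option autoImplicit false
set_option linter.unusedSectionVars false

open Module

namespace CfsgLib.ClassNumberEven

variable {F : Type*} [Field F] [CharP F 2] {V : Type*} [AddCommGroup V] [Module F V]
  {B : V →ₗ[F] V →ₗ[F] F} {u u' : V ≃ₗ[F] V} {Q : V → F} {lo : ℕ}

/-- Invariance of a subspace. -/
def Inv (u : V ≃ₗ[F] V) (W : Submodule F V) : Prop := ∀ x ∈ W, u x ∈ W

/-- The restriction of the form is non-degenerate. -/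
def NonDeg (B : V →ₗ[F] V →ₗ[F] F) (W : Submodule F V) : Prop := ∀ x ∈ W, (∀ y ∈ W, B x y = 0) → x = 0

theorem Inv.n {W : Submodule F V} (h : Inv u W) {x : V} (hx : x ∈ W) : nOp u x ∈ W := W.add_mem (h x hx) hx

theorem Inv.n_pow {W : Submodule F V} (h : Inv u W) : ∀ (r : ℕ) {x : V}, x ∈ W → (nOp u ^ r) x ∈ W
  | 0, _, hx => hx
  | r + 1, x, hx => by rw [pow_succ, Module.End.mul_apply]; exact h.n_pow r (h.n hx)

theorem Inv.u_pow {W : Submodule F V} (h : Inv u W) : ∀ (r : ℕ) {x : V}, x ∈ W → (u.toLinearMap ^ r) x ∈ W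
  | 0, _, hx => hx
  | r + 1, x, hx => by rw [pow_succ, Module.End.mul_apply]; exact h.u_pow r (h x hx)

theorem Inv.symm [FiniteDimensional F V] {W : Submodule F V} (h : Inv u W) {x : V} (hx : x ∈ W) :
    u.symm x ∈ W := by
  have hinj : Function.Injective (u.toLinearMap.restrict h) := fun a b hab =>
    Subtype.ext (u.injective (congrArg Subtype.val hab))
  obtain ⟨y, hy⟩ := LinearMap.injective_iff_surjective.1 hinj ⟨x, hx⟩
  have hy' : u (y : V) = x := congrArg Subtype.val hy
  rw [← hy', u.symm_apply_apply]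
  exact y.2

theorem Inv.m [FiniteDimensional F V] {W : Submodule F V} (h : Inv u W) {x : V} (hx : x ∈ W) : mOp u x ∈ W :=
  W.add_mem (h x hx) (h.symm hx)

theorem Inv.m_pow [FiniteDimensional F V] {W : Submodule F V} (h : Inv u W) :
    ∀ (r : ℕ) {x : V}, x ∈ W → (mOp u ^ r) x ∈ W
  | 0, _, hx => hx
  | r + 1, x, hx => by rw [pow_succ, Module.End.mul_apply]; exact h.m_pow r (h.m hx)

/-- Intertwining isometries between subspaces. -/
def Equiv' (B : V →ₗ[F] V →ₗ[F] F) (Q : V → F) (lo : ℕ) (u u' : V ≃ₗ[F] V) (W W' : Submodule F V) : Prop :=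
  ∃ f : W ≃ₗ[F] W', (∀ x y, B (f x : V) (f y : V) = B (x : V) (y : V)) ∧
    (lo = 0 → ∀ x, Q (f x : V) = Q (x : V)) ∧
    ∀ (x : W) (h : u (x : V) ∈ W), (f ⟨u x, h⟩ : V) = u' (f x : V)

open Finsupp in
/-- Two spanning families with the same Gram matrix give an intertwining isometry. -/
theorem equiv_of_gram (S : Setting B u Q lo) {ι : Type*} (σ : ι → ι) (v w : ι → V)
    (hv : ∀ i, u (v i) = v (σ i)) (hw : ∀ i, u' (w i) = w (σ i))
    (hg : ∀ i j, B (w i) (w j) = B (v i) (v j)) (hQ : lo = 0 → ∀ i, Q (w i) = Q (v i))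
    (hnd : NonDeg B (Submodule.span F (Set.range v))) (hnd' : NonDeg B (Submodule.span F (Set.range w))) :
    Equiv' B Q lo u u' (Submodule.span F (Set.range v)) (Submodule.span F (Set.range w)) := by
  classical
  set P := linearCombination F v
  set P' := linearCombination F w
  have hB : ∀ c d, B (P' c) (P' d) = B (P c) (P d) := by
    intro c d
    simp only [P, P', linearCombination_apply, Finsupp.sum, map_sum, map_smul, LinearMap.sum_apply,
      LinearMap.smul_apply, hg]
  have hker : LinearMap.ker P = LinearMap.ker P' := by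
    ext c
    simp only [LinearMap.mem_ker]
    have hP : ∀ y ∈ Submodule.span F (Set.range v), ∃ d, P d = y := fun y hy =>
      (mem_span_range_iff_exists_finsupp.1 hy).imp fun d hd => by rw [← hd]; exact linearCombination_apply F d
    have hP' : ∀ y ∈ Submodule.span F (Set.range w), ∃ d, P' d = y := fun y hy =>
      (mem_span_range_iff_exists_finsupp.1 hy).imp fun d hd => by rw [← hd]; exact linearCombination_apply F d
    refine ⟨fun h => hnd' _ (by rw [← range_linearCombination]; exact ⟨c, rfl⟩) fun y hy => ?_,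
      fun h => hnd _ (by rw [← range_linearCombination]; exact ⟨c, rfl⟩) fun y hy => ?_⟩
    · obtain ⟨d, rfl⟩ := hP' y hy
      rw [hB, h, map_zero, LinearMap.zero_apply]
    · obtain ⟨d, rfl⟩ := hP y hy
      rw [← hB, h, map_zero, LinearMap.zero_apply]
  let e : LinearMap.range P ≃ₗ[F] LinearMap.range P' :=
    P.quotKerEquivRange.symm.trans ((Submodule.quotEquivOfEq _ _ hker).trans P'.quotKerEquivRange)
  have he : ∀ c, (e ⟨P c, LinearMap.mem_range_self P c⟩ : V) = P' c := by
    intro c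
    show ((P'.quotKerEquivRange (Submodule.quotEquivOfEq _ _ hker
      (P.quotKerEquivRange.symm ⟨P c, LinearMap.mem_range_self P c⟩))) : V) = _
    rw [LinearMap.quotKerEquivRange_symm_apply_image P c, Submodule.mkQ_apply, Submodule.quotEquivOfEq_mk,
      LinearMap.quotKerEquivRange_apply_mk]
  let f : Submodule.span F (Set.range v) ≃ₗ[F] Submodule.span F (Set.range w) :=
    (LinearEquiv.ofEq _ _ (range_linearCombination F (v := v)).symm).trans
      (e.trans (LinearEquiv.ofEq _ _ (range_linearCombination F (v := w))))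
  have hf : ∀ c (h : P c ∈ Submodule.span F (Set.range v)), (f ⟨P c, h⟩ : V) = P' c := fun c h => he c
  have hrep : ∀ x : Submodule.span F (Set.range v), ∃ c, P c = (x : V) := fun x =>
    (mem_span_range_iff_exists_finsupp.1 x.2).imp fun d hd => by rw [← hd]; exact linearCombination_apply F d
  have hsingle : ∀ (i : ι) (h : v i ∈ Submodule.span F (Set.range v)), (f ⟨v i, h⟩ : V) = w i := by
    intro i h
    have h1 : P (single i 1) = v i := by simp [P]
    have := hf (single i 1) (by rw [h1]; exact h)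
    simp only [h1] at this
    rw [this]
    simp [P']
  refine ⟨f, fun x y => ?_, fun h0 x => ?_, fun x hx => ?_⟩
  · obtain ⟨c, hc⟩ := hrep x
    obtain ⟨d, hd⟩ := hrep y
    obtain ⟨x, hx⟩ := x
    obtain ⟨y, hy⟩ := y
    subst hc hd
    rw [hf, hf, hB]
  · obtain ⟨c, hc⟩ := hrep x
    obtain ⟨x, hx⟩ := x
    subst hc
    rw [hf]
    show Q (P' c) = Q (P c)
    clear hx
    induction c using Finsupp.induction_linear with
    | zero => simp
    | add c d hc hd => rw [map_add, map_add, S.qadd h0, S.qadd h0, hc, hd, hB]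
    | single i a =>
      simp only [P, P', linearCombination_single]
      rw [S.qsmul h0, S.qsmul h0, hQ h0]
  · obtain ⟨c, hc⟩ := hrep x
    obtain ⟨x, hxm⟩ := x
    subst hc
    have h0 : ∀ c, u (P c) = P (Finsupp.mapDomain σ c) := by
      intro c
      simp only [P, linearCombination_mapDomain]
      induction c using Finsupp.induction_linear with
      | zero => simp
      | add c d hc hd => rw [map_add, map_add u, map_add, hc, hd]
      | single i a => simp [hv]
    have h1 := h0 c
    have h2 : ∀ c, u' (P' c) = P' (Finsupp.mapDomain σ c) := by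
      intro c
      simp only [P', linearCombination_mapDomain]
      induction c using Finsupp.induction_linear with
      | zero => simp
      | add c d hc hd => rw [map_add, map_add u', map_add, hc, hd]
      | single i a => simp [hw]
    rw [show (f ⟨u (P c), hx⟩ : V) = P' (Finsupp.mapDomain σ c) by
      rw [← hf _ (h1 ▸ hx)]; simp only [h1]]
    rw [hf, h2]

/-- The span of the orbits of a family. -/
def orb (u : V ≃ₗ[F] V) {r : ℕ} (x : Fin r → V) : Submodule F V :=
  Submodule.span F (Set.range fun p : Fin r × ℕ => (u.toLinearMap ^ p.2) (x p.1))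

theorem mem_orb (u : V ≃ₗ[F] V) {r : ℕ} (x : Fin r → V) (a : Fin r) : x a ∈ orb u x :=
  Submodule.subset_span ⟨(a, 0), rfl⟩

theorem orb_le {r : ℕ} {x : Fin r → V} {W : Submodule F V} (h : Inv u W) (hx : ∀ a, x a ∈ W) : orb u x ≤ W :=
  Submodule.span_le.2 (by rintro _ ⟨p, rfl⟩; exact h.u_pow _ (hx _))

theorem inv_span (u : V ≃ₗ[F] V) {s : Set V} (h : ∀ x ∈ s, u x ∈ Submodule.span F s) :
    Inv u (Submodule.span F s) := fun x hx => by
  have hle : Submodule.span F s ≤ (Submodule.span F s).comap u.toLinearMap := Submodule.span_le.2 h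
  exact hle hx

theorem inv_orb (u : V ≃ₗ[F] V) {r : ℕ} (x : Fin r → V) : Inv u (orb u x) := by
  refine inv_span u ?_
  rintro _ ⟨p, rfl⟩
  refine Submodule.subset_span ⟨(p.1, p.2 + 1), ?_⟩
  show (u.toLinearMap ^ (p.2 + 1)) (x p.1) = _
  rw [pow_succ', Module.End.mul_apply]
  rfl

theorem n_pow_orb {r e : ℕ} {x : Fin r → V} (hx : ∀ a, (nOp u ^ e) (x a) = 0) :
    ∀ z ∈ orb u x, (nOp u ^ e) z = 0 := by
  intro z hz
  have hle : orb u x ≤ LinearMap.ker (nOp u ^ e) := Submodule.span_le.2 (by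
    rintro _ ⟨p, rfl⟩
    simp only [SetLike.mem_coe, LinearMap.mem_ker]
    rw [← Module.End.mul_apply, ← ((commute_u_n u).pow_pow p.2 e).eq, Module.End.mul_apply, hx, map_zero])
  exact hle hz

/-- Elements of an orbit span in coordinates. -/
theorem exists_coord {r e : ℕ} {x : Fin r → V} (hx : ∀ a, (nOp u ^ e) (x a) = 0) {z : V} (hz : z ∈ orb u x) :
    ∃ c : Fin r × Fin e → F, ∑ p, c p • (nOp u ^ (p.2 : ℕ)) (x p.1) = z := by
  set s : Fin r × Fin e → V := fun p => (nOp u ^ (p.2 : ℕ)) (x p.1)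
  have hs : ∀ a (i : ℕ), (nOp u ^ i) (x a) ∈ Submodule.span F (Set.range s) := by
    intro a i
    rcases lt_or_ge i e with h | h
    · exact Submodule.subset_span ⟨(a, ⟨i, h⟩), rfl⟩
    · rw [n_pow_eq_zero_of_le u h (hx a)]
      exact zero_mem _
  have hinv : Inv u (Submodule.span F (Set.range s)) := by
    refine inv_span u ?_
    rintro _ ⟨p, rfl⟩
    rw [u_eq u (s p)]
    refine add_mem ?_ (Submodule.subset_span ⟨p, rfl⟩)
    show nOp u ((nOp u ^ (p.2 : ℕ)) (x p.1)) ∈ _
    rw [← Module.End.mul_apply, ← pow_succ']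
    exact hs _ _
  have hle : orb u x ≤ Submodule.span F (Set.range s) := orb_le hinv fun a => by simpa using hs a 0
  exact (Submodule.mem_span_range_iff_exists_fun F).1 (hle hz)

theorem top_pairing (H : IsoAlt B u) {e s t : ℕ} {x y : V} (hy : (nOp u ^ e) y = 0) :
    (e ≤ s + t → B ((nOp u ^ s) x) ((nOp u ^ t) y) = 0) ∧
      (s + t + 1 = e → B ((nOp u ^ s) x) ((nOp u ^ t) y) = B x ((nOp u ^ (e - 1)) y)) := by
  constructor
  · intro h
    rw [H.n_pow_left, ← Module.End.mul_apply (nOp u ^ s), ← pow_add, n_pow_eq_zero_of_le u h hy, map_zero,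
      map_zero]
  · intro h
    subst h
    rw [H.n_pow_top (by rw [← Module.End.mul_apply, ← pow_add]; exact n_pow_eq_zero_of_le u (by omega) hy),
      ← Module.End.mul_apply, ← pow_add, Nat.add_sub_cancel]

theorem coord_eq_zero (H : IsoAlt B u) {r e : ℕ} {x : Fin r → V} (hx : ∀ a, (nOp u ^ e) (x a) = 0)
    (hM : ∀ c : Fin r → F, (∀ b, ∑ a, c a * B (x a) ((nOp u ^ (e - 1)) (x b)) = 0) → c = 0)
    (c : Fin r × Fin e → F) {z : V} (hz : ∑ p, c p • (nOp u ^ (p.2 : ℕ)) (x p.1) = z)
    (h0 : ∀ y ∈ orb u x, B z y = 0) : c = 0 := by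
  suffices hall : ∀ (s : ℕ) (hs : s < e) (a : Fin r), c (a, ⟨s, hs⟩) = 0 from
    funext fun p => hall p.2 p.2.2 p.1
  intro s
  induction s using Nat.strong_induction_on with
  | _ s ih =>
    intro hs a
    refine congrFun (hM (fun a => c (a, ⟨s, hs⟩)) fun b => ?_) a
    have h1 := h0 ((nOp u ^ (e - 1 - s)) (x b)) ((inv_orb u x).n_pow _ (mem_orb u x b))
    rw [← hz, map_sum, LinearMap.sum_apply, Fintype.sum_prod_type] at h1
    rw [← h1]
    refine Finset.sum_congr rfl fun a _ => ?_
    rw [Finset.sum_eq_single (⟨s, hs⟩ : Fin e)]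
    · rw [map_smul, LinearMap.smul_apply, smul_eq_mul, (top_pairing H (hx b)).2 (by simp only; omega)]
    · intro i _ hi
      rcases lt_or_gt_of_ne (fun h => hi (Fin.ext h) : (i : ℕ) ≠ s) with hl | hg
      · rw [show c (a, i) = 0 from ih i hl i.2 a, zero_smul, map_zero, LinearMap.zero_apply]
      · rw [map_smul, LinearMap.smul_apply, (top_pairing H (hx b)).1 (by simp only; omega), smul_zero]
    · simp

theorem nonDeg_orb (H : IsoAlt B u) {r e : ℕ} {x : Fin r → V} (hx : ∀ a, (nOp u ^ e) (x a) = 0)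
    (hM : ∀ c : Fin r → F, (∀ b, ∑ a, c a * B (x a) ((nOp u ^ (e - 1)) (x b)) = 0) → c = 0) :
    NonDeg B (orb u x) := by
  intro z hz h
  obtain ⟨c, hc⟩ := exists_coord hx hz
  rw [← hc, coord_eq_zero H hx hM c hc h]
  simp

theorem finrank_orb (H : IsoAlt B u) {r e : ℕ} {x : Fin r → V} (hx : ∀ a, (nOp u ^ e) (x a) = 0)
    (hM : ∀ c : Fin r → F, (∀ b, ∑ a, c a * B (x a) ((nOp u ^ (e - 1)) (x b)) = 0) → c = 0) :
    finrank F (orb u x) = r * e := by
  set s : Fin r × Fin e → V := fun p => (nOp u ^ (p.2 : ℕ)) (x p.1) with hs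
  have hli : LinearIndependent F s := Fintype.linearIndependent_iff.2 fun c hc p =>
    congrFun (coord_eq_zero H hx hM c hc (fun y _ => by rw [map_zero, LinearMap.zero_apply])) p
  have heq : orb u x = Submodule.span F (Set.range s) := by
    refine le_antisymm (fun z hz => (Submodule.mem_span_range_iff_exists_fun F).2 (exists_coord hx hz))
      (Submodule.span_le.2 ?_)
    rintro _ ⟨p, rfl⟩
    exact (inv_orb u x).n_pow _ (mem_orb u x _)
  rw [heq, finrank_span_eq_card hli, Fintype.card_prod, Fintype.card_fin, Fintype.card_fin]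

/-- The tower determines the table of a single vector. -/
theorem self_table (S : IsoAlt B u) (S' : IsoAlt B u') {x x' : V}
    (h : ∀ i, tower B u' Q (i + 1) x' = tower B u Q (i + 1) x) : ∀ j i : ℕ,
    B ((mOp u' ^ i) ((u'.toLinearMap ^ j) x')) x' = B ((mOp u ^ i) ((u.toLinearMap ^ j) x)) x := by
  intro j
  induction j using Nat.twoStepInduction with
  | zero => intro i; simp [S.m_pow_self, S'.m_pow_self]
  | one => intro i; simpa [tower_succ] using h i
  | more j ih1 ih2 =>
    intro i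
    have e : ∀ w : V ≃ₗ[F] V, (w.toLinearMap ^ (j + 1 + 1)) = w.toLinearMap * (w.toLinearMap * w.toLinearMap ^ j) :=
      fun w => by rw [pow_succ', pow_succ']
    simp only [show j + 2 = j + 1 + 1 from rfl, e, Module.End.mul_apply, LinearEquiv.coe_coe, u_sq_apply,
      map_add, LinearMap.add_apply]
    have h2 := ih2 (i + 1)
    simp only [pow_succ' (n := j), pow_succ (n := i), Module.End.mul_apply, LinearEquiv.coe_coe] at h2
    rw [h2, ih1 i]

theorem u_pow_pairing (H : IsoAlt B u) : ∀ (t : ℕ) (x y : V),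
    B ((u.toLinearMap ^ t) x) ((u.toLinearMap ^ t) y) = B x y
  | 0, x, y => rfl
  | t + 1, x, y => by
    rw [pow_succ', Module.End.mul_apply, Module.End.mul_apply]
    exact (H.iso _ _).trans (u_pow_pairing H t x y)

theorem pairing_shift (H : IsoAlt B u) {i j : ℕ} (h : j ≤ i) (x y : V) :
    B ((u.toLinearMap ^ i) x) ((u.toLinearMap ^ j) y) = B ((u.toLinearMap ^ (i - j)) x) y := by
  conv_lhs => rw [← Nat.add_sub_cancel' h, pow_add, Module.End.mul_apply]
  rw [u_pow_pairing H]

theorem cross_table {x y x' y' : V}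
    (h : ∀ d, B ((nOp u' ^ d) x') y' = B ((nOp u ^ d) x) y) : ∀ j d : ℕ,
    B ((nOp u' ^ d) ((u'.toLinearMap ^ j) x')) y' = B ((nOp u ^ d) ((u.toLinearMap ^ j) x)) y := by
  intro j
  induction j with
  | zero => exact h
  | succ j ih =>
    intro d
    have h2 := ih (d + 1)
    simp only [pow_succ (n := d), Module.End.mul_apply] at h2
    simp only [pow_succ' (n := j), Module.End.mul_apply, LinearEquiv.coe_coe]
    rw [u_eq u', u_eq u, map_add, map_add, map_add, map_add, LinearMap.add_apply, LinearMap.add_apply, h2, ih d]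

theorem cross_table_swap (S : IsoAlt B u) (S' : IsoAlt B u') {e : ℕ} {x y x' y' : V}
    (hx : (nOp u ^ e) x = 0) (hx' : (nOp u' ^ e) x' = 0)
    (h : ∀ d, B ((nOp u' ^ d) x') y' = B ((nOp u ^ d) x) y) (i j : ℕ) :
    B ((u'.toLinearMap ^ i) x') ((u'.toLinearMap ^ j) y') = B ((u.toLinearMap ^ i) x) ((u.toLinearMap ^ j) y) := by
  have key : ∀ t, B ((u'.toLinearMap ^ t) x') y' = B ((u.toLinearMap ^ t) x) y := fun t => cross_table h t 0
  have hper : ∀ (w : V ≃ₗ[F] V) (z : V), (nOp w ^ e) z = 0 → ∀ k, (w.toLinearMap ^ (2 ^ e * k)) z = z := by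
    intro w z hz k
    induction k with
    | zero => simp
    | succ k ih => rw [Nat.mul_succ, pow_add, Module.End.mul_apply, u_pow_two_pow w hz, ih]
  have red : ∀ (w : V ≃ₗ[F] V) (z z' : V), IsoAlt B w → (nOp w ^ e) z = 0 →
      B ((w.toLinearMap ^ i) z) ((w.toLinearMap ^ j) z') = B ((w.toLinearMap ^ (i + 2 ^ e * j - j)) z) z' := by
    intro w z z' H hz
    have hj : j ≤ i + 2 ^ e * j := le_trans (Nat.le_mul_of_pos_left j (Nat.two_pow_pos e)) (Nat.le_add_left _ _)
    conv_lhs => rw [← hper w z hz j, ← Module.End.mul_apply, ← pow_add]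
    rw [pairing_shift H hj]
  rw [red u' x' y' S' hx', red u x y S hx, key]

theorem self_table_pair (S : IsoAlt B u) (S' : IsoAlt B u') {x x' : V}
    (h : ∀ i, tower B u' Q (i + 1) x' = tower B u Q (i + 1) x) (i j : ℕ) :
    B ((u'.toLinearMap ^ i) x') ((u'.toLinearMap ^ j) x') = B ((u.toLinearMap ^ i) x) ((u.toLinearMap ^ j) x) := by
  have key : ∀ t, B ((u'.toLinearMap ^ t) x') x' = B ((u.toLinearMap ^ t) x) x := fun t =>
    self_table (Q := Q) S S' h t 0
  rcases le_total j i with hij | hij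
  · rw [pairing_shift S' hij, pairing_shift S hij, key]
  · rw [S'.symm, S.symm ((u.toLinearMap ^ i) x), pairing_shift S' hij, pairing_shift S hij, key]

/-- The subspace orthogonal to a given one. -/
def perp (B : V →ₗ[F] V →ₗ[F] F) (T : Submodule F V) : Submodule F V := T.dualAnnihilator.comap B

theorem mem_perp {T : Submodule F V} {x : V} : x ∈ perp B T ↔ ∀ t ∈ T, B x t = 0 :=
  Submodule.mem_dualAnnihilator _

variable [FiniteDimensional F V]

/-- The complement of a non-degenerate invariant subspace. -/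
theorem complement (H : IsoAlt B u) {T W : Submodule F V} (hT : Inv u T) (hW : Inv u W) (hTW : T ≤ W)
    (hTn : NonDeg B T) (hWn : NonDeg B W) :
    Inv u (W ⊓ perp B T) ∧ NonDeg B (W ⊓ perp B T) ∧ T ⊔ (W ⊓ perp B T) = W ∧
      finrank F W = finrank F T + finrank F (W ⊓ perp B T : Submodule F V) := by
  let g : T →ₗ[F] Module.Dual F T := B.compl₁₂ T.subtype T.subtype
  have hg : Function.Injective g := (injective_iff_map_eq_zero g).2 fun t ht =>
    Subtype.ext (hTn t t.2 fun y hy => LinearMap.congr_fun ht ⟨y, hy⟩)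
  have hgs : Function.Surjective g :=
    (LinearMap.injective_iff_surjective_of_finrank_eq_finrank Subspace.dual_finrank_eq.symm).1 hg
  have hsup : T ⊔ (W ⊓ perp B T) = W := by
    refine le_antisymm (sup_le hTW inf_le_left) fun w hw => ?_
    obtain ⟨t, ht⟩ := hgs ((B w).comp T.subtype)
    refine Submodule.mem_sup.2 ⟨t, t.2, w - t, ⟨W.sub_mem hw (hTW t.2), mem_perp.2 fun s hs => ?_⟩, by abel⟩
    have h1 : B (t : V) s = B w s := LinearMap.congr_fun ht ⟨s, hs⟩
    rw [map_sub, LinearMap.sub_apply, h1, sub_self]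
  refine ⟨fun x hx => ⟨hW x hx.1, mem_perp.2 fun t ht => ?_⟩, fun x hx h => hWn x hx.1 fun y hy => ?_, hsup, ?_⟩
  · rw [H.u_left]
    exact mem_perp.1 hx.2 _ (hT.symm ht)
  · rw [← hsup] at hy
    obtain ⟨t, ht, s, hs, rfl⟩ := Submodule.mem_sup.1 hy
    rw [map_add, mem_perp.1 hx.2 t ht, h s hs, add_zero]
  · have h0 : T ⊓ (W ⊓ perp B T) = ⊥ := by
      rw [eq_bot_iff]
      rintro x ⟨hxT, -, hxp⟩
      exact (Submodule.mem_bot F).2 (hTn x hxT fun y hy => mem_perp.1 hxp y hy)
    have := Submodule.finrank_sup_add_finrank_inf_eq T (W ⊓ perp B T)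
    rw [hsup, h0, finrank_bot, add_zero] at this
    exact this

end CfsgLib.ClassNumberEven
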